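import Cfsg.Agent.TwoLength.DerivedLength.Chain
import Cfsg.Agent.PGroups.Bounds

/-!
A `2`-group has a normal four-group or a self-centralizing cyclic normal subgroup with abelian quotient.
-/

set_option linter.style.haveILetI false
set_option linter.unusedSectionVars false

namespace Cfsg.Lib.TwoLength

open Subgroup
open scoped commutatorElement

universe u

variable {H : Type u} [Group H] [Finite H]

theorem isCyclic_of_few_involutions {C : Type u} [CommGroup C] [Finite C] (hC : IsPGroup 2 C)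
    (h : ∀ a b : C, a * a = 1 → b * b = 1 → a ≠ 1 → b ≠ 1 → a = b) : IsCyclic C := by
  classical
  haveI := Fintype.ofFinite C
  have hbound : ∀ k, (Finset.univ.filter fun x : C => x ^ 2 ^ k = 1).card ≤ 2 ^ k := by
    intro k
    induction k with
    | zero => exact Finset.card_le_one.2 fun a ha b hb => by simp_all
    | succ k ih =>
      calc (Finset.univ.filter fun x : C => x ^ 2 ^ (k + 1) = 1).card
          ≤ 2 * (Finset.univ.filter fun x : C => x ^ 2 ^ k = 1).card := by
            refine Finset.card_le_mul_card_image_of_maps_to (f := fun x : C => x ^ 2) ?_ 2 ?_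
            · intro x hx
              simp only [Finset.coe_filter, Finset.mem_univ, true_and, Set.mem_setOf_eq,
                Finset.mem_filter] at hx ⊢
              rw [← pow_mul, mul_comm, ← pow_succ, hx]
            · intro y _
              rw [← not_lt, Finset.two_lt_card]
              rintro ⟨a, ha, b, hb, c, hc, hab, hac, hbc⟩
              simp only [Finset.mem_filter] at ha hb hc
              refine hbc (mul_left_cancel (a := a⁻¹) (h _ _ ?_ ?_ ?_ ?_))
              · rw [← pow_two, mul_pow, inv_pow, ha.2, hb.2, inv_mul_cancel]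
              · rw [← pow_two, mul_pow, inv_pow, ha.2, hc.2, inv_mul_cancel]
              · rw [Ne, inv_mul_eq_one]; exact hab
              · rw [Ne, inv_mul_eq_one]; exact hac
        _ ≤ 2 * 2 ^ k := Nat.mul_le_mul_left 2 ih
        _ = 2 ^ (k + 1) := by rw [pow_succ, mul_comm]
  refine isCyclic_of_card_pow_eq_one_le fun n hn => ?_
  obtain ⟨m, hm⟩ := IsPGroup.iff_card.1 hC
  obtain ⟨i, -, hi⟩ := (Nat.dvd_prime_pow Nat.prime_two).1
    (show Nat.gcd n (Nat.card C) ∣ 2 ^ m by rw [← hm]; exact Nat.gcd_dvd_right _ _)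
  refine le_trans ?_ ((hbound i).trans (Nat.le_of_dvd hn (hi ▸ Nat.gcd_dvd_left _ _)))
  refine Finset.card_le_card fun x hx => ?_
  simp only [Finset.mem_filter, Finset.mem_univ, true_and] at hx ⊢
  rw [← hi, pow_gcd_eq_one]
  exact ⟨hx, pow_card_eq_one'⟩

theorem two_group_cases (hH : IsPGroup 2 H) :
    (∃ N : Subgroup H, N.Normal ∧ (∀ a ∈ N, a * a = 1) ∧ ∃ a ∈ N, ∃ b ∈ N, a ≠ 1 ∧ b ≠ 1 ∧ a ≠ b) ∨
    ∃ C : Subgroup H, C.Normal ∧ IsCyclic C ∧ centralizer (C : Set H) ≤ C ∧ commutator H ≤ C := by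
  classical
  haveI : Fact (Nat.Prime 2) := ⟨Nat.prime_two⟩
  obtain ⟨C, ⟨hCn, hCc⟩, hmax⟩ := WellFounded.has_min
    (IsWellFounded.wf (r := ((· > ·) : Subgroup H → Subgroup H → Prop)))
    {B | B.Normal ∧ IsMulCommutative B} ⟨⊥, inferInstance, inferInstance⟩
  haveI := hCn
  haveI := hCc
  have hcent := Cfsg.Lib.PGroups.centralizer_eq_self_of_maximal_normal_abelian hH C hCc fun B hB hBc hle => by
    by_contra hne
    exact hmax B ⟨hB, hBc⟩ (lt_of_le_of_ne hle (Ne.symm hne))
  by_cases hex : ∃ a ∈ C, ∃ b ∈ C, a * a = 1 ∧ b * b = 1 ∧ a ≠ 1 ∧ b ≠ 1 ∧ a ≠ b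
  · left
    obtain ⟨a, ha, b, hb, ha2, hb2, ha1, hb1, hab⟩ := hex
    have hcomm : ∀ x ∈ C, ∀ y ∈ C, x * y = y * x := fun x hx y hy =>
      congrArg Subtype.val (hCc.is_comm.comm (⟨x, hx⟩ : C) ⟨y, hy⟩)
    let N : Subgroup H :=
      { carrier := {x | x ∈ C ∧ x * x = 1}
        one_mem' := ⟨one_mem C, one_mul 1⟩
        mul_mem' := fun {x y} hx hy => ⟨mul_mem hx.1 hy.1, by
          rw [(show Commute x y from hcomm x hx.1 y hy.1).symm.mul_mul_mul_comm, hx.2, hy.2, one_mul]⟩
        inv_mem' := fun {x} hx => ⟨inv_mem hx.1, by rw [← mul_inv_rev, hx.2, inv_one]⟩ }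
    refine ⟨N, ⟨fun x hx g => ⟨hCn.conj_mem x hx.1 g, ?_⟩⟩, fun x hx => hx.2, a, ⟨ha, ha2⟩, b, ⟨hb, hb2⟩, ha1, hb1, hab⟩
    rw [show g * x * g⁻¹ * (g * x * g⁻¹) = g * (x * x) * g⁻¹ by group, hx.2, mul_one, mul_inv_cancel]
  right
  push Not at hex
  haveI hcyc : IsCyclic C := by
    letI : CommGroup C := { (inferInstance : Group C) with mul_comm := hCc.is_comm.comm }
    exact isCyclic_of_few_involutions (hH.to_subgroup C) fun a b ha hb ha1 hb1 => Subtype.ext
      (hex a a.2 b b.2 (congrArg Subtype.val ha) (congrArg Subtype.val hb) (fun e => ha1 (Subtype.ext e))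
        (fun e => hb1 (Subtype.ext e)))
  refine ⟨C, hCn, hcyc, hcent.le, ?_⟩
  rw [commutator_def, commutator_le]
  intro a _ b _
  rw [← hcent]
  have h1 : (MulAut.conjNormal (H := C)) ⁅a, b⁆ = 1 := by
    rw [map_commutatorElement, commutatorElement_eq_one_iff_mul_comm]
    exact (IsCyclic.mulAutMulEquiv C).injective (by rw [map_mul, map_mul, mul_comm])
  refine mem_centralizer_iff.2 fun c hc => ?_
  have h2 := congrArg Subtype.val (DFunLike.congr_fun h1 (⟨c, hc⟩ : C))
  rw [MulAut.conjNormal_apply, MulAut.one_apply] at h2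
  exact ((mul_inv_eq_iff_eq_mul.1 h2)).symm

theorem derSub_two_eq_bot_of_cyclic {C : Subgroup H} [IsCyclic C] (hD : commutator H ≤ C) :
    derSub (⊤ : Subgroup H) 2 = ⊥ := by
  rw [derSub_succ, commutator_eq_bot_iff_le_centralizer]
  have h1 : derSub (⊤ : Subgroup H) 1 ≤ C := by rw [derSub_succ, derSub_zero, ← commutator_def]; exact hD
  letI := IsCyclic.commGroup (α := C)
  exact fun x hx => mem_centralizer_iff.2 fun y hy =>
    congrArg Subtype.val (mul_comm (⟨y, h1 hy⟩ : C) ⟨x, h1 hx⟩)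

theorem involution_eq_of_cyclic {C : Subgroup H} [IsCyclic C] {a b : H} (ha : a ∈ C) (hb : b ∈ C)
    (ha2 : a * a = 1) (hb2 : b * b = 1) (ha1 : a ≠ 1) (hb1 : b ≠ 1) : a = b := by
  classical
  haveI := Fintype.ofFinite C
  by_contra hne
  have hcard := IsCyclic.card_pow_eq_one_le (α := C) (n := 2) (by norm_num)
  have h3 : 3 ≤ (Finset.univ.filter fun x : C => x ^ 2 = 1).card := by
    refine (show 3 ≤ ({1, ⟨a, ha⟩, ⟨b, hb⟩} : Finset C).card from ?_).trans (Finset.card_le_card fun x hx => ?_)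
    · rw [Finset.card_insert_of_notMem, Finset.card_pair]
      · exact fun e => hne (congrArg Subtype.val e)
      · simp only [Finset.mem_insert, Finset.mem_singleton, Subtype.ext_iff, OneMemClass.coe_one]
        exact fun e => e.elim (fun e => ha1 e.symm) (fun e => hb1 e.symm)
    · simp only [Finset.mem_insert, Finset.mem_singleton] at hx
      simp only [Finset.mem_filter, Finset.mem_univ, true_and]
      rcases hx with rfl | rfl | rfl
      · exact one_pow 2
      · exact Subtype.ext (by simpa [pow_two] using ha2)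
      · exact Subtype.ext (by simpa [pow_two] using hb2)
  omega

/-- A normal non-abelian subgroup holds an element of order four squaring to the involution of the cyclic
subgroup. -/
theorem exists_four (hH : IsPGroup 2 H) {C : Subgroup H} [hCn : C.Normal] [hCc : IsCyclic C]
    (hcent : centralizer (C : Set H) ≤ C) (hD : commutator H ≤ C) {Z : Subgroup H} [hZn : Z.Normal]
    (hZ : ⁅Z, Z⁆ ≠ ⊥) :
    ∃ z ∈ Z, z * z ≠ 1 ∧ (z * z) * (z * z) = 1 ∧ z * z ∈ center H ∧ z * z ∈ C ∧
      ∀ y ∈ C, y * y = 1 → y ≠ 1 → y = z * z := by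
  classical
  obtain ⟨⟨g, hg⟩, hgen⟩ := IsCyclic.exists_generator (α := C)
  have hcommC : ∀ x ∈ C, ∀ y ∈ C, x * y = y * x := by
    letI := IsCyclic.commGroup (α := C)
    exact fun x hx y hy => congrArg Subtype.val (mul_comm (⟨x, hx⟩ : C) ⟨y, hy⟩)
  have hcenter : ∀ t ∈ C, t * t = 1 → t ∈ center H := by
    intro t ht ht2
    rw [mem_center_iff]
    intro x
    by_cases ht1 : t = 1
    · rw [ht1, mul_one, one_mul]
    have h := involution_eq_of_cyclic ht (hCn.conj_mem t ht x) ht2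
      (by rw [show x * t * x⁻¹ * (x * t * x⁻¹) = x * (t * t) * x⁻¹ by group, ht2, mul_one, mul_inv_cancel]) ht1
      (fun e => ht1 (by simpa using e))
    calc x * t = (x * t * x⁻¹) * x := by group
      _ = t * x := by rw [← h]
  by_cases hw : ∃ w ∈ Z, w ∈ C ∧ w * w ≠ 1
  · obtain ⟨w, hwZ, hwC, hw2⟩ := hw
    obtain ⟨i, hi⟩ := hH w
    have hex : ∃ k, w ^ 2 ^ k = 1 := ⟨i, hi⟩
    set k := Nat.find hex with hk
    have hk0 : w ^ 2 ^ k = 1 := Nat.find_spec hex
    have hk2 : 2 ≤ k := by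
      by_contra h
      interval_cases h' : k
      · rw [pow_zero, pow_one] at hk0; exact hw2 (by rw [hk0, one_mul])
      · rw [pow_one, pow_two] at hk0; exact hw2 hk0
    refine ⟨w ^ 2 ^ (k - 2), pow_mem hwZ _, ?_⟩
    have e1 : w ^ 2 ^ (k - 2) * w ^ 2 ^ (k - 2) = w ^ 2 ^ (k - 1) := by
      rw [← pow_add, ← two_mul, ← pow_succ', show k - 2 + 1 = k - 1 by omega]
    have h1 : w ^ 2 ^ (k - 1) ≠ 1 := Nat.find_min hex (show k - 1 < Nat.find hex by omega)
    have h2 : w ^ 2 ^ (k - 1) * w ^ 2 ^ (k - 1) = 1 := by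
      rw [← pow_add, ← two_mul, ← pow_succ', show k - 1 + 1 = k by omega, hk0]
    rw [e1]
    exact ⟨h1, h2, hcenter _ (pow_mem hwC _) h2, pow_mem hwC _, fun y hy hy2 hy1 =>
      involution_eq_of_cyclic hy (pow_mem hwC _) hy2 h2 hy1 h1⟩
  exfalso
  push Not at hw
  have hfour : ∀ z ∈ Z, ⁅z, g⁆ * ⁅z, g⁆ = 1 := fun z hz => hw _
    (by
      rw [commutatorElement_def, show z * g * z⁻¹ * g⁻¹ = z * (g * z⁻¹ * g⁻¹) by group]
      exact mul_mem hz (hZn.conj_mem _ (inv_mem hz) g))
    (by rw [commutatorElement_def]; exact mul_mem (hCn.conj_mem g hg z) (inv_mem hg))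
  have hker : ∀ z, ⁅z, g⁆ = 1 → z ∈ C := by
    intro z hz
    refine hcent (mem_centralizer_iff.2 fun c hc => ?_)
    obtain ⟨n, hn⟩ := hgen ⟨c, hc⟩
    have hc' : c = g ^ n := (congrArg Subtype.val hn).symm
    rw [hc']
    exact ((show Commute z g from commutatorElement_eq_one_iff_mul_comm.1 hz).symm.zpow_left n).eq
  -- any two members differ by a central element
  have hcom : ∀ a ∈ Z, ∀ b ∈ Z, a * b = b * a := by
    intro a ha b hb
    have hCcenter : ∀ x ∈ Z, x ∈ C → ∀ y, x * y = y * x := fun x hx hxC y =>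
      (mem_center_iff.1 (hcenter x hxC (hw x hx hxC)) y).symm
    by_cases h1 : ⁅a, g⁆ = 1
    · exact hCcenter a ha (hker a h1) b
    by_cases h2 : ⁅b, g⁆ = 1
    · exact (hCcenter b hb (hker b h2) a).symm
    have hC' : ∀ z, ⁅z, g⁆ ∈ C := fun z => by
      rw [commutatorElement_def]; exact mul_mem (hCn.conj_mem g hg z) (inv_mem hg)
    have he : ⁅a, g⁆ = ⁅b, g⁆ := involution_eq_of_cyclic (hC' a) (hC' b) (hfour a ha) (hfour b hb) h1 h2
    have hab : a * g * a⁻¹ = b * g * b⁻¹ := by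
      rw [commutatorElement_def, commutatorElement_def] at he
      exact mul_right_cancel he
    have h3 : b⁻¹ * a ∈ C := hker _ (by
      rw [commutatorElement_def, show b⁻¹ * a * g * (b⁻¹ * a)⁻¹ = b⁻¹ * (a * g * a⁻¹) * b by group, hab]
      group)
    have h4 := hCcenter (b⁻¹ * a) (mul_mem (inv_mem hb) ha) h3 b
    calc a * b = b * ((b⁻¹ * a) * b) := by group
      _ = b * (b * (b⁻¹ * a)) := by rw [h4]
      _ = b * a := by group
  exact hZ (commutator_eq_bot_iff_le_centralizer.2 fun a ha => mem_centralizer_iff.2 fun b hb => hcom b hb a ha)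

end Cfsg.Lib.TwoLength
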