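import Cfsg.Agent.TwoLength.DerivedLength.Layer
import Cfsg.Agent.TwoLength.Bryukhanova.Main

/-!
The `2`-length is at most the derived length of a Sylow `2`-subgroup.
-/

set_option linter.style.haveILetI false
set_option linter.unusedSectionVars false

namespace Cfsg.Lib.TwoLength

open Module Subgroup Cfsg.Lib.HallHigman Cfsg.Lib.PLengthSeries
open scoped commutatorElement IsMulCommutative

universe u

/-- The faithful module of the quotient by the largest normal `p`-subgroup, with its covering map. -/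
theorem exists_faithful_cover {p : ℕ} [hp : Fact p.Prime] {G : Type u} [Group G] [Finite G]
    (hsol : Cfsg.IsPSolvable p G) (hO : Cfsg.pPrimeCore p G = ⊥) :
    ∃ (V : Type u) (_ : AddCommGroup V) (_ : Module (ZMod p) V) (_ : Finite V)
      (ρ : G ⧸ Cfsg.pCore p G →* Module.End (ZMod p) V) (emb : G → V),
      Function.Injective ρ ∧ emb 1 = 0 ∧ (∀ v, ∃ a ∈ Cfsg.pCore p G, emb a = v) ∧
        ∀ g : G, ∀ a ∈ Cfsg.pCore p G, (ρ (g : G ⧸ Cfsg.pCore p G) - 1) (emb a) = emb ⁅g, a⁆ := by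
  classical
  set Q := Cfsg.pCore p G with hQdef
  have hQp : IsPGroup p Q := Cfsg.Lib.Components.isPGroup_pCore p
  set Φ := (frattini Q).map Q.subtype with hΦ
  haveI : Φ.Normal := ConjAct.normal_of_characteristic_of_normal
  set π := QuotientGroup.mk' Φ
  have hπ : Function.Surjective π := QuotientGroup.mk'_surjective Φ
  set W := Q.map π with hW
  haveI : W.Normal := Subgroup.Normal.map inferInstance _ hπ
  have hWmem : ∀ a ∈ Q, ∀ b ∈ Q, π a * π b = π b * π a := by
    intro a ha b hb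
    rw [← map_mul, ← map_mul]
    refine QuotientGroup.eq.2 ?_
    have h := (Subgroup.Normal.quotient_commutative_iff_commutator_le (N := frattini Q)).2
      (Cfsg.Lib.PGroups.commutator_le_frattini hQp)
    have h2 : (QuotientGroup.mk (⟨a, ha⟩ * ⟨b, hb⟩ : Q) : Q ⧸ frattini Q) = QuotientGroup.mk (⟨b, hb⟩ * ⟨a, ha⟩) := by
      rw [QuotientGroup.mk_mul, QuotientGroup.mk_mul]; exact h.is_comm.comm _ _
    exact ⟨_, QuotientGroup.eq.1 h2, rfl⟩
  haveI hWc : IsMulCommutative W := ⟨⟨by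
    rintro ⟨_, a, ha, rfl⟩ ⟨_, b, hb, rfl⟩; exact Subtype.ext (hWmem a ha b hb)⟩⟩
  have hWpow : ∀ w : W, w ^ p = 1 := by
    rintro ⟨_, a, ha, rfl⟩
    refine Subtype.ext ?_
    show π a ^ p = 1
    rw [← map_pow]
    exact (QuotientGroup.eq_one_iff _).2 ⟨⟨a, ha⟩ ^ p, Cfsg.Lib.PGroups.pow_mem_frattini hQp _, rfl⟩
  haveI : Module (ZMod p) (Additive W) := AddCommGroup.zmodModule fun w => by
    apply Additive.toMul.injective
    rw [toMul_nsmul, hWpow]; rfl
  let c : G →* MulAut W := (MulAut.conjNormal (H := W)).comp π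
  let ρ₀ : G →* Module.End (ZMod p) (Additive W) := (mulAutToEnd p W).comp c
  have hρv : ∀ g : G, ∀ w : W, (ρ₀ g) (Additive.ofMul w) = Additive.ofMul (c g w) := fun g w => mulAutToEnd_apply _ _ _
  have hker : ∀ g : G, ρ₀ g = 1 ↔ ∀ a ∈ Q, π (g * a * g⁻¹) = π a := by
    intro g
    constructor
    · intro h a ha
      have h1 := congrArg (fun f : Module.End (ZMod p) (Additive W) =>
        (((Additive.toMul (f (Additive.ofMul (⟨π a, a, ha, rfl⟩ : W))) : W)) : G ⧸ Φ)) h
      rw [map_mul, map_mul, map_inv]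
      exact h1
    · intro h
      refine LinearMap.ext fun v => ?_
      obtain ⟨⟨_, a, ha, rfl⟩, rfl⟩ := Additive.ofMul.surjective v
      rw [hρv]
      show _ = Additive.ofMul _
      congr 1
      refine Subtype.ext ?_
      show π g * π a * (π g)⁻¹ = π a
      rw [← map_inv, ← map_mul, ← map_mul]
      exact h a ha
  have hmemker : ∀ g : G, g ∈ ρ₀.ker ↔ ρ₀ g = 1 := fun g => Iff.rfl
  have hQker : Q ≤ ρ₀.ker := fun g hg => (hker g).2 fun a ha => by
    rw [map_mul, map_mul, map_inv, hWmem g hg a ha, mul_inv_cancel_right]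
  have hkerQ : ρ₀.ker ≤ Q := by
    refine Cfsg.Lib.Components.le_pCore (fun g => ?_)
    obtain ⟨a, r, hr, har⟩ := Nat.exists_eq_pow_mul_and_not_dvd (orderOf_pos (g : G)).ne' p hp.out.ne_one
    refine ⟨a, Subtype.ext ?_⟩
    set y := (g : G) ^ p ^ a with hy
    have hyo : orderOf y ∣ r := orderOf_dvd_of_pow_eq_one (by rw [hy, ← pow_mul, ← har, pow_orderOf_eq_one])
    have hycop : (orderOf y).Coprime p := Nat.Coprime.coprime_dvd_left hyo ((hp.out.coprime_iff_not_dvd.2 hr).symm)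
    have hyk : y ∈ ρ₀.ker := pow_mem g.2 _
    have hC : zpowers y ≤ centralizer (Q : Set G) := by
      refine Cfsg.Lib.Coprime.le_centralizer_of_frattini (by rw [normalizer_eq_top_iff.2 inferInstance]; exact le_top) ?_ fun b hb k hk => ?_
      · obtain ⟨m, hm⟩ := IsPGroup.iff_card.1 (hQp.to_subgroup (frattini Q))
        rw [Nat.card_zpowers, hm]
        exact hycop.pow_right m
      · show b * k * b⁻¹ * k⁻¹ ∈ Φ
        rw [← QuotientGroup.eq_one_iff (N := Φ)]
        show π (b * k * b⁻¹ * k⁻¹) = 1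
        rw [map_mul, (hker b).1 (zpowers_le.2 hyk hb) k hk, ← map_mul, mul_inv_cancel, map_one]
    have hyQ : y ∈ Q := Cfsg.Lib.StableClosure.centralizer_pCore_le_of_pSolvable hsol hO (hC (mem_zpowers y))
    obtain ⟨j, hj⟩ := IsPGroup.iff_orderOf.1 hQp ⟨y, hyQ⟩
    rw [Subgroup.orderOf_mk] at hj
    rw [Subgroup.coe_pow, Subgroup.coe_one]
    show y = 1
    exact orderOf_eq_one_iff.1 (Nat.eq_one_of_dvd_coprimes (hycop.pow_right j) dvd_rfl hj.dvd)
  let emb : G → Additive W := fun a => if ha : a ∈ Q then Additive.ofMul ⟨π a, a, ha, rfl⟩ else 0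
  refine ⟨Additive W, inferInstance, inferInstance, inferInstance, QuotientGroup.lift Q ρ₀ hQker, emb, ?_, ?_, ?_, ?_⟩
  · intro x y e
    obtain ⟨x, rfl⟩ := QuotientGroup.mk_surjective x
    obtain ⟨y, rfl⟩ := QuotientGroup.mk_surjective y
    refine QuotientGroup.eq.2 (hkerQ ?_)
    have e' : ρ₀ x = ρ₀ y := e
    rw [hmemker, map_mul, ← e', ← map_mul, inv_mul_cancel, map_one]
  · simp only [emb, dif_pos (one_mem Q)]
    exact congrArg Additive.ofMul (Subtype.ext (map_one π))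
  · intro v
    obtain ⟨⟨_, a, ha, rfl⟩, rfl⟩ := Additive.ofMul.surjective v
    exact ⟨a, ha, dif_pos ha⟩
  · intro g a ha
    haveI : Q.Normal := Cfsg.Lib.Components.pCore_normal' p
    have hc : ⁅g, a⁆ ∈ Q := mul_mem ((inferInstance : Q.Normal).conj_mem a ha g) (inv_mem ha)
    have e1 : emb a = Additive.ofMul (⟨π a, a, ha, rfl⟩ : W) := dif_pos ha
    have e2 : emb ⁅g, a⁆ = Additive.ofMul (⟨π ⁅g, a⁆, _, hc, rfl⟩ : W) := dif_pos hc
    rw [e1, e2, LinearMap.sub_apply, Module.End.one_apply]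
    refine Eq.trans (b := Additive.ofMul (c g ⟨π a, a, ha, rfl⟩ / ⟨π a, a, ha, rfl⟩ : W)) rfl ?_
    refine congrArg Additive.ofMul (Subtype.ext ?_)
    show π g * π a * (π g)⁻¹ / π a = π ⁅g, a⁆
    simp [commutatorElement_def, div_eq_mul_inv]

/-- The length is at most the derived length. -/
def DerivedBound (m : ℕ) : Prop :=
  ∀ (G : Type u) [Group G] [Finite G], Cfsg.IsPSolvable 2 G →
    (∀ P : Sylow 2 G, derSub (P : Subgroup G) m = ⊥) → Cfsg.PLengthLE 2 m G

theorem derivedBound_zero : DerivedBound.{u} 0 := fun G _ _ _ hd =>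
  pLengthLE_zero_of_sylow fun P x hx => mem_bot.1 ((hd P).le hx)

theorem chainLength_zero : ChainLength.{u} 0 := fun Γ _ _ W _ _ _ σ _ _ hσ hzero =>
  pLengthLE_zero_of_sylow fun P x hx => hσ (by
    have h := hzero P _ (mem_chainProd_succ (i := 0) hx rfl)
    rw [mul_one, sub_eq_zero] at h
    rw [h, map_one])

theorem derivedBound_succ (n : ℕ) (hlow : ChainLength.{u} n) : DerivedBound.{u} (n + 1) := by
  intro G _ _ hsol hd
  haveI : Fact (Nat.Prime 2) := ⟨Nat.prime_two⟩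
  set π := QuotientGroup.mk' (Cfsg.pPrimeCore 2 G)
  have hπ : Function.Surjective π := QuotientGroup.mk'_surjective _
  have hO : Cfsg.pPrimeCore 2 (G ⧸ Cfsg.pPrimeCore 2 G) = ⊥ := Cfsg.Lib.Coprime.pPrimeCore_quotient_eq_bot
  have hsol1 := Cfsg.Lib.GaschutzYen.isPSolvable_quotient (p := 2) (Cfsg.pPrimeCore 2 G) hsol
  set ρ := QuotientGroup.mk' (Cfsg.pCore 2 (G ⧸ Cfsg.pPrimeCore 2 G))
  have hρ : Function.Surjective ρ := QuotientGroup.mk'_surjective _
  obtain ⟨V, iA, iM, iF, σ, emb, hσ, hemb1, hembs, hcomm⟩ := exists_faithful_cover hsol1 hO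
  have h := hlow _ V σ (Cfsg.Lib.GaschutzYen.isPSolvable_quotient (p := 2) _ hsol1) pCore_quotient_pCore hσ fun P => by
    obtain ⟨P₁, rfl⟩ := Sylow.mapSurjective_surjective hρ 2 P
    have hkey : ∀ i, ∀ p ∈ chainProd σ ((P₁.mapSurjective hρ : Sylow 2 _) : Subgroup _) i, ∀ v : V,
        ∃ a ∈ derSub (P₁ : Subgroup (G ⧸ Cfsg.pPrimeCore 2 G)) i, a ∈ Cfsg.pCore 2 (G ⧸ Cfsg.pPrimeCore 2 G) ∧
          p v = emb a := by
      intro i
      induction i with
      | zero =>
        intro p hp v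
        obtain ⟨a, ha, rfl⟩ := hembs v
        rw [show p = 1 from hp]
        exact ⟨a, Cfsg.Lib.Coprime.pCore_le_sylow 2 P₁ ha, ha, rfl⟩
      | succ i ih =>
        rintro p ⟨s, hs, p', hp', rfl⟩ v
        rw [Sylow.coe_mapSurjective, ← map_derSub] at hs
        obtain ⟨g, hg, rfl⟩ := hs
        obtain ⟨a, ha, haO, hpa⟩ := ih p' hp' v
        haveI := Cfsg.Lib.Components.pCore_normal' (G := G ⧸ Cfsg.pPrimeCore 2 G) 2
        refine ⟨⁅g, a⁆, commutator_mem_commutator hg ha,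
          mul_mem (Subgroup.Normal.conj_mem inferInstance a haO g) (inv_mem haO), ?_⟩
        rw [Module.End.mul_apply, hpa]
        exact hcomm g a haO
    intro p hp
    refine LinearMap.ext fun v => ?_
    obtain ⟨a, ha, -, hpa⟩ := hkey (n + 1) p hp v
    obtain ⟨S, hS⟩ := Sylow.mapSurjective_surjective hπ 2 P₁
    rw [← hS, Sylow.coe_mapSurjective, ← map_derSub, hd S, Subgroup.map_bot, mem_bot] at ha
    rw [hpa, ha, hemb1, LinearMap.zero_apply]
  have h1 : Cfsg.PLengthLE 2 0 π.ker := by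
    rw [pLengthLE_zero_iff, QuotientGroup.ker_mk']
    exact Cfsg.Lib.Components.coprime_card_pPrimeCore 2
  have h2 : Cfsg.PLengthLE 2 1 ρ.ker := pLengthLE_one_of_isPGroup (by
    rw [QuotientGroup.ker_mk']; exact Cfsg.Lib.Components.isPGroup_pCore 2)
  have h4 := pLengthLE_extend π h1 (pLengthLE_extend ρ h2 h)
  rwa [zero_add, add_comm] at h4

theorem chainLength_succ (k : ℕ) (hlow : ChainLength.{u} k) : ChainLength.{u} (k + 1) := by
  intro H _ _ W _ _ _ σ hsol hO hσ hzero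
  haveI : Fact (Nat.Prime 2) := ⟨Nat.prime_two⟩
  rcases subsingleton_or_nontrivial W with hW | hW
  · haveI : Subsingleton H := ⟨fun a b => hσ (LinearMap.ext fun _ => Subsingleton.elim _ _)⟩
    exact top_le_iff.1 fun x _ => by rw [Subsingleton.elim x 1]; exact one_mem _
  let b := Module.finBasis (ZMod 2) W
  let ι := AlgebraicClosure (ZMod 2)
  haveI : CharP ι 2 := charP_of_injective_algebraMap (algebraMap (ZMod 2) ι).injective 2
  haveI : Nonempty (Fin (finrank (ZMod 2) W)) := ⟨⟨0, Module.finrank_pos⟩⟩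
  let Φ : Module.End (ZMod 2) W →+* Module.End ι (Fin (Module.finrank (ZMod 2) W) → ι) :=
    ((Matrix.toLinAlgEquiv' : Matrix _ _ ι ≃ₐ[ι] _).toRingEquiv.toRingHom.comp
      (algebraMap (ZMod 2) ι).mapMatrix).comp (LinearMap.toMatrixAlgEquiv b).toRingEquiv.toRingHom
  have hΦ : Function.Injective Φ := by
    intro f g e
    exact (LinearMap.toMatrixAlgEquiv b).injective
      (Matrix.map_injective (algebraMap (ZMod 2) ι).injective (Matrix.toLinAlgEquiv'.injective e))
  set ρ := Φ.toMonoidHom.comp σ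
  have hρ : Function.Injective ρ := hΦ.comp hσ
  set π := QuotientGroup.mk' (Cfsg.pPrimeCore 2 H)
  have hπ : Function.Surjective π := QuotientGroup.mk'_surjective _
  have hO' : Cfsg.pPrimeCore 2 (H ⧸ Cfsg.pPrimeCore 2 H) = ⊥ := Cfsg.Lib.Coprime.pPrimeCore_quotient_eq_bot
  have hsol1 := Cfsg.Lib.GaschutzYen.isPSolvable_quotient (p := 2) (Cfsg.pPrimeCore 2 H) hsol
  have hker : (Nat.card π.ker).Coprime 2 := by
    rw [QuotientGroup.ker_mk']
    exact Cfsg.Lib.Components.coprime_card_pPrimeCore 2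
  have hlayer : Cfsg.PLengthLE 2 k ((H ⧸ Cfsg.pPrimeCore 2 H) ⧸ Cfsg.pCore 2 (H ⧸ Cfsg.pPrimeCore 2 H)) :=
    pLengthLE_quotient_of_layer hsol1 hO' k fun C hC _ hmove =>
      exists_layer_chain hsol hO ρ hρ k (fun P => (hzero P).map Φ) hlow π hπ hker C hC hmove
  set θ := QuotientGroup.mk' (Cfsg.pCore 2 (H ⧸ Cfsg.pPrimeCore 2 H))
  have h1 : Cfsg.PLengthLE 2 0 π.ker := (pLengthLE_zero_iff).2 hker
  have h2 : Cfsg.PLengthLE 2 1 θ.ker := pLengthLE_one_of_isPGroup (by
    rw [QuotientGroup.ker_mk']; exact Cfsg.Lib.Components.isPGroup_pCore 2)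
  have h4 := pLengthLE_extend π h1 (pLengthLE_extend θ h2 hlayer)
  rwa [zero_add, add_comm] at h4

theorem chainLength_all : ∀ n : ℕ, ChainLength.{u} n
  | 0 => chainLength_zero
  | n + 1 => chainLength_succ n (chainLength_all n)

theorem derivedBound_all : ∀ n : ℕ, DerivedBound.{u} n
  | 0 => derivedBound_zero
  | n + 1 => derivedBound_succ n (chainLength_all n)

end Cfsg.Lib.TwoLength
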