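import Cfsg.Agent.TwoLength.DerivedLength.Local

/-!
The case of an invariant orthogonal pair, and the case without invariant decompositions.
-/

set_option linter.style.haveILetI false
set_option linter.unusedSectionVars false

namespace Cfsg.Lib.TwoLength

open Module Subgroup Cfsg.Lib.HallHigman
open scoped commutatorElement

universe u v w z

variable {K : Type u} [Field K] [CharP K 2] {U : Type v} [AddCommGroup U] [Module K U]
  {G : Type w} [Group G] [Finite G]

theorem sub_one_sq (X : Module.End K U) : (X - 1) * (X - 1) = X * X - 1 := by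
  refine LinearMap.ext fun u => ?_
  simp only [Module.End.mul_apply, LinearMap.sub_apply, Module.End.one_apply, map_sub]
  have hh : ∀ v : U, v + v = 0 := fun v => by
    nth_rw 1 [← neg_vec_eq_self K v]; exact neg_add_cancel v
  linear_combination (norm := module) (-1 : ℤ) • hh (X u) + hh u

/-- A `2`-group fixes a vector outside an invariant subspace modulo it. -/
theorem exists_fixed_mod {ρ : G →* Module.End K U} : ∀ (n : ℕ) (P : Subgroup G), Nat.card P = n → IsPGroup 2 P →
    ∀ W F : Submodule K U, ¬ W ≤ F → (∀ p ∈ P, ∀ w ∈ W, ρ p w ∈ W) → (∀ p ∈ P, ∀ w ∈ F, ρ p w ∈ F) →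
      ∃ v ∈ W, v ∉ F ∧ ∀ p ∈ P, ρ p v - v ∈ F := by
  classical
  intro n
  induction n using Nat.strong_induction_on with
  | _ n ih =>
  intro P hn hPp W F h0 hW hF
  haveI : Fact (Nat.Prime 2) := ⟨Nat.prime_two⟩
  by_cases hP1 : P = ⊥
  · obtain ⟨v, hv, hv0⟩ := SetLike.not_le_iff_exists.1 h0
    exact ⟨v, hv, hv0, fun p hp => by
      rw [hP1, mem_bot] at hp; rw [hp, map_one, Module.End.one_apply, sub_self]; exact zero_mem F⟩
  obtain ⟨j, hj⟩ := IsPGroup.iff_card.1 hPp
  obtain ⟨i, rfl⟩ : ∃ i, j = i + 1 := by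
    rcases j with _ | i
    · exact absurd (eq_bot_of_card_eq P (by rw [hj, pow_zero])) hP1
    · exact ⟨i, rfl⟩
  obtain ⟨N₀, hN₀⟩ := Sylow.exists_subgroup_card_pow_prime 2 (G := P) (n := i) (hj ▸ Dvd.intro _ (pow_succ 2 i).symm)
  have hidx : N₀.index = 2 := by
    have h := N₀.card_mul_index
    rw [hN₀, hj, pow_succ] at h
    exact Nat.eq_of_mul_eq_mul_left (Nat.two_pow_pos i) h
  have hcard : Nat.card (N₀.map P.subtype) < n := by
    rw [card_subtype, hN₀, ← hn, hj, pow_succ]
    have := Nat.two_pow_pos i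
    omega
  obtain ⟨v, hv, hv0, hfix⟩ := ih _ hcard (N₀.map P.subtype) rfl (hPp.to_le (map_subtype_le _)) W F h0
    (fun p hp => hW p (map_subtype_le _ hp)) fun p hp => hF p (map_subtype_le _ hp)
  haveI : N₀.Normal := normal_of_index_eq_two hidx
  obtain ⟨s, hs⟩ : ∃ s : P, s ∉ N₀ := by
    by_contra hh
    push Not at hh
    rw [show N₀ = ⊤ from eq_top_iff.2 fun x _ => hh x, index_top] at hidx
    exact absurd hidx (by norm_num)
  have hall : ∀ u : U, ρ (s : G) u - u ∈ F → (∀ m ∈ N₀, ρ (m : G) u - u ∈ F) → ∀ p ∈ P, ρ p u - u ∈ F := by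
    intro u hsu hmu p hp
    by_cases h : (⟨p, hp⟩ : P) ∈ N₀
    · exact hmu _ h
    · have h' : s⁻¹ * ⟨p, hp⟩ ∈ N₀ := (mul_mem_iff_of_index_two hidx).2 (iff_of_false (mt inv_mem_iff.1 hs) h)
      rw [show p = (s : G) * ((s⁻¹ * ⟨p, hp⟩ : P) : G) by simp, map_mul, Module.End.mul_apply,
        show ∀ a : U, ρ (s : G) a - u = ρ (s : G) (a - u) + (ρ (s : G) u - u) from fun a => by rw [map_sub]; abel]
      exact add_mem (hF _ s.2 _ (hmu _ h')) hsu
  have hN : ∀ m ∈ N₀, ρ ((m : P) : G) v - v ∈ F := fun m hm => hfix _ (mem_map_of_mem _ hm)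
  by_cases hsv : ρ (s : G) v - v ∈ F
  · exact ⟨v, hv, hv0, hall v hsv hN⟩
  refine ⟨ρ (s : G) v - v, sub_mem (hW _ s.2 v hv) hv, hsv, hall _ ?_ ?_⟩
  · have h2 : ρ ((s : G) * s) v - v ∈ F := hN (s * s) (mul_self_mem_of_index_two hidx s)
    rw [map_mul, Module.End.mul_apply] at h2
    have hh : ∀ a : U, a + a = 0 := fun a => by
      nth_rw 1 [← neg_vec_eq_self K a]; exact neg_add_cancel a
    rw [map_sub, show ρ (s : G) (ρ (s : G) v) - ρ (s : G) v - (ρ (s : G) v - v) = ρ (s : G) (ρ (s : G) v) - v by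
      linear_combination (norm := module) (-1 : ℤ) • hh (ρ (s : G) v) + hh v]
    exact h2
  · intro m hm
    have h3 : ρ ((s⁻¹ * m * s : P) : G) v - v ∈ F :=
      hN _ (by simpa using (inferInstance : N₀.Normal).conj_mem m hm s⁻¹)
    have h4 : ρ ((m : P) : G) (ρ (s : G) v) - ρ (s : G) v = ρ (s : G) (ρ ((s⁻¹ * m * s : P) : G) v - v) := by
      rw [map_sub, ← Module.End.mul_apply, ← Module.End.mul_apply (ρ (s : G)) (ρ ((s⁻¹ * m * s : P) : G)), ← map_mul,
        ← map_mul]
      simp [mul_assoc]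
    rw [map_sub, show ρ ((m : P) : G) (ρ (s : G) v) - ρ ((m : P) : G) v - (ρ (s : G) v - v) =
      ρ ((m : P) : G) (ρ (s : G) v) - ρ (s : G) v - (ρ ((m : P) : G) v - v) by abel, h4]
    exact sub_mem (hF _ s.2 _ h3) (hN m hm)

namespace SymData

variable [Nontrivial U] [IsAlgClosed K] [FiniteDimensional K U] {ρ : G →* Module.End K U} {A : Type z} [CommGroup A]
  [Finite A] {D : SymData ρ A}

/-- An invariant subgroup with trivial radical. -/
theorem goal_of_pair {n : ℕ} (ih : CoreBelow.{u, v, w, z} K n) (hn : Nat.card A ≤ n) (hF : D.Full) (r : ℕ)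
    (hzero : ChainZero ρ D.T (r + 2)) {M : Subgroup A} (hM0 : M ≠ ⊥) (hM1 : M ≠ ⊤)
    (hI : M ⊓ orthSub D.form M = ⊥) (hMinv : ∀ g ∈ D.T, ∀ a ∈ M, D.act g a ∈ M) : D.Goal r := by
  classical
  set M' := orthSub D.form M with hM'
  have hsup := D.sup_orth_eq_top hI
  have hM'0 : M' ≠ ⊥ := fun h => hM1 (by rw [show orthSub D.form M = ⊥ from h, sup_bot_eq] at hsup; exact hsup)
  have hne : M ≠ M' := fun e => hM0 (le_bot_iff.1 (hI ▸ le_inf le_rfl e.le))
  have hM'inv : ∀ g ∈ D.T, ∀ a ∈ M', D.act g a ∈ M' := fun g hg a ha => D.map_mem_orth M le_rfl hMinv hg ha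
  have hfixmv : ∀ X : Subgroup A, (∀ g ∈ D.T, ∀ a ∈ X, D.act g a ∈ X) → ∀ g ∈ D.T, D.mv g X = X :=
    fun X hX g hg => le_antisymm (by rintro _ ⟨a, ha, rfl⟩; exact hX g hg a ha)
      fun a ha => ⟨D.act g⁻¹ a, hX _ (inv_mem hg) a ha, by
        show D.act g (D.act g⁻¹ a) = a
        rw [D.act_inv hg, MulAut.apply_inv_self]⟩
  have hS : D.IsSystem {M, M'} := by
    refine ⟨by simp [hM0, hM'0], fun X hX Y hY hXY => ?_, ?_, fun g hg X hX => ?_⟩
    · simp only [Finset.mem_insert, Finset.mem_singleton] at hX hY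
      rcases hX with rfl | rfl <;> rcases hY with rfl | rfl
      · exact absurd rfl hXY
      · exact D.le_orth_symm le_rfl
      · exact le_rfl
      · exact absurd rfl hXY
    · rw [Finset.sup_insert, Finset.sup_singleton, id, id]; exact hsup
    · simp only [Finset.mem_insert, Finset.mem_singleton] at hX ⊢
      rcases hX with rfl | rfl
      · exact Or.inl (hfixmv _ hMinv g hg)
      · exact Or.inr (hfixmv _ hM'inv g hg)
  obtain ⟨F, hblk, hperm⟩ := exists_frame hS
  have hXinv : ∀ i : {B // B ∈ ({M, M'} : Finset (Subgroup A))}, ∀ g ∈ D.T, ∀ a ∈ i.1, D.act g a ∈ i.1 := by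
    rintro ⟨X, hX⟩
    simp only [Finset.mem_insert, Finset.mem_singleton] at hX
    rcases hX with rfl | rfl
    · exact hMinv
    · exact hM'inv
  have hfix : F.Fixes D.T := ⟨le_rfl, fun s hs k => Subtype.ext (by rw [hperm s hs, hfixmv _ (hXinv k) s hs])⟩
  have hnd : ∀ i : {B // B ∈ ({M, M'} : Finset (Subgroup A))}, i.1 ⊓ orthSub D.form i.1 = ⊥ := fun i => hS.nondeg i.2
  have hlt : ∀ i : {B // B ∈ ({M, M'} : Finset (Subgroup A))}, Nat.card (D.SecGroup i.1) < n := by
    intro i
    refine lt_of_lt_of_le (lt_of_le_of_lt (Nat.card_le_card_of_surjective _ (QuotientGroup.mk'_surjective _)) ?_) hn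
    refine lt_of_le_of_ne (card_le_card_group _) fun e => ?_
    have htop := eq_top_of_card_eq i.1 e
    obtain ⟨X, hX⟩ := i
    simp only [Finset.mem_insert, Finset.mem_singleton] at hX
    rcases hX with rfl | rfl
    · exact hM1 htop
    · refine hM0 (D.eq_bot_of_orth_top ?_)
      exact D.le_orth_symm htop.ge
  -- trivial on the section is trivial on the subgroup
  have hsec : ∀ i : {B // B ∈ ({M, M'} : Finset (Subgroup A))}, ∀ g ∈ D.T, D.SecTriv i.1 g → ∀ a ∈ i.1, D.act g a = a := by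
    intro i g hg h a ha
    exact mul_inv_eq_one.1 (mem_bot.1 ((hnd i).le (Subgroup.mem_inf.2 ⟨mul_mem (hXinv i g hg a ha) (inv_mem ha), h a ha⟩)))
  have hsub : ∀ i : {B // B ∈ ({M, M'} : Finset (Subgroup A))},
      (∀ y ∈ derSub D.T (r + 1), ∀ a ∈ i.1, D.act y a = a) ∨
      (r = 0 ∧ ∀ e ∈ D.T, ∀ z ∈ D.T, (∀ a ∈ i.1, D.act ⁅e, z⁆ a = a) ∨ ∀ a ∈ i.1, D.act (⁅e, z⁆ * (e ^ 2)⁻¹) a = a) := by
    intro i
    rcases sub_goal ih i.1 D.T le_rfl (hXinv i) ⊤ top_ne_bot (fun _ _ _ => trivial) (fun _ _ _ _ => trivial)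
      (fun a ha => by
        obtain ⟨hq, hq'⟩ := (D.mem_lift).1 a.2
        have h1 : D.proj ⟨_, hq⟩ ∈ orthSub D.form i.1 :=
          (QuotientGroup.eq_one_iff (⟨D.proj ⟨_, hq⟩, hq'⟩ : i.1)).1 ha
        obtain ⟨c, hc⟩ := D.scal ⟨_, hq⟩ (mem_bot.1 ((hnd i).le ⟨hq', h1⟩))
        exact ⟨c, fun w _ => by rw [hc]; rfl⟩)
      (hlt i) r (fun p hp w _ => by rw [hzero p hp, LinearMap.zero_apply]) with h | ⟨hr, h⟩
    · exact Or.inl fun y hy => hsec i y (derSub_le _ _ hy) (h y hy)
    · refine Or.inr ⟨hr, fun e he z hz => ?_⟩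
      have hc : ⁅e, z⁆ ∈ D.T := mul_mem (mul_mem (mul_mem he hz) (inv_mem he)) (inv_mem hz)
      exact (h e he z hz).imp (hsec i _ hc) (hsec i _ (mul_mem hc (inv_mem (pow_mem he 2))))
  have hone : ∀ g, (∀ i : {B // B ∈ ({M, M'} : Finset (Subgroup A))}, ∀ a ∈ i.1, D.act g a = a) → D.act g = 1 := by
    intro g h
    refine MulEquiv.ext fun a => ?_
    have hle : M ⊔ M' ≤ fixPts (D.act g) := sup_le (fun a ha => h ⟨M, by simp⟩ a ha) fun a ha => h ⟨M', by simp⟩ a ha
    rw [hsup] at hle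
    exact hle (mem_top a)
  by_cases hyall : ∀ y ∈ derSub D.T (r + 1), D.act y = 1
  · exact Or.inl hyall
  push Not at hyall
  obtain ⟨y, hy, hy1⟩ := hyall
  obtain ⟨i, hi⟩ : ∃ i : {B // B ∈ ({M, M'} : Finset (Subgroup A))}, ∃ a ∈ i.1, D.act y a ≠ a := by
    by_contra hh
    push Not at hh
    exact hy1 (hone y hh)
  rcases hsub i with h | ⟨rfl, h⟩
  · obtain ⟨a, ha, hne'⟩ := hi
    exact absurd (h y hy a ha) hne'
  have hyT := derSub_le _ _ hy
  -- the other part is fixed
  have hother : ∀ j, j ≠ i → ∀ z ∈ D.T, ∀ a ∈ j.1, D.act z a = a := by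
    intro j hji z hz
    by_contra hh
    push Not at hh
    obtain ⟨a, ha, hne'⟩ := hh
    let F0 : Submodule K U := F.W j ⊓ ⨅ p : D.T, LinearMap.ker (ρ (p : G) - 1)
    have hF0 : ∀ w, w ∈ F0 ↔ w ∈ F.W j ∧ ∀ p ∈ D.T, ρ p w = w := fun w => by
      simp [F0, Submodule.mem_inf, Submodule.mem_iInf, LinearMap.mem_ker, sub_eq_zero]
    have hnle : ¬ F.W j ≤ F0 := fun h => hne' (by
      have hzs : z ∈ F.stab j := hfix.le_stab j hz
      have h1 : F.res j ⟨z, hzs⟩ = 1 := LinearMap.ext fun w => Subtype.ext (((hF0 _).1 (h w.2)).2 z hz)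
      have h2 := DFunLike.congr_fun ((F.res_one_iff _).1 h1) ⟨a, (hblk j).symm ▸ ha⟩
      exact congrArg Subtype.val h2)
    obtain ⟨x, hxW, hxF, hxfix⟩ := exists_fixed_mod (ρ := ρ) _ D.T rfl D.two (F.W j) F0 hnle
      (fun p hp w hw => F.W_stab (hfix.le_stab j hp) hw)
      (fun p hp w hw => by
        obtain ⟨hw1, hw2⟩ := (hF0 w).1 hw
        rw [hw2 p hp]; exact hw)
    have hyx : ρ y x = x := by
      let Fx : Subgroup G :=
        { carrier := {g | g ∈ D.T ∧ ρ g x = x}
          one_mem' := ⟨one_mem _, by rw [map_one]; rfl⟩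
          mul_mem' := fun {a b} ha hb => ⟨mul_mem ha.1 hb.1, by rw [map_mul, Module.End.mul_apply, hb.2, ha.2]⟩
          inv_mem' := fun {a} ha => ⟨inv_mem ha.1, by
            conv_lhs => rw [← ha.2]
            rw [← Module.End.mul_apply, rho_inv_mul]; rfl⟩ }
      have hle : derSub D.T 1 ≤ Fx := by
        rw [derSub_succ, derSub_zero, commutator_le]
        intro p hp q hq
        have hc : ⁅p, q⁆ ∈ D.T := mul_mem (mul_mem (mul_mem hp hq) (inv_mem hp)) (inv_mem hq)
        refine ⟨hc, ?_⟩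
        have hpf := (hF0 _).1 (hxfix p hp)
        have hqf := (hF0 _).1 (hxfix q hq)
        set f := ρ p x - x with hf
        set f' := ρ q x - x with hf'
        have e1 : ρ (p * q) x = x + f + f' := by
          rw [map_mul, Module.End.mul_apply, show ρ q x = x + f' by rw [hf']; abel, map_add, hqf.2 p hp, hf]; abel
        have e2 : ρ (q * p) x = x + f + f' := by
          rw [map_mul, Module.End.mul_apply, show ρ p x = x + f by rw [hf]; abel, map_add, hpf.2 q hq, hf']; abel
        have e3 : ρ ⁅p, q⁆ (ρ (q * p) x) = ρ (p * q) x := by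
          rw [← Module.End.mul_apply, ← map_mul]; congr 2; simp only [commutatorElement_def]; group
        rw [e1, e2, map_add, map_add, hpf.2 _ hc, hqf.2 _ hc, add_left_inj, add_left_inj] at e3
        exact e3
      exact (hle hy).2
    obtain ⟨z', hz', hz'x⟩ : ∃ z' ∈ D.T, ρ z' x ≠ x := by
      by_contra hh
      push Not at hh
      exact hxF ((hF0 x).2 ⟨hxW, hh⟩)
    set π := ρ z' x - x with hπ
    have hπ0 : π ≠ 0 := sub_ne_zero.2 hz'x
    have hπfix := (hF0 _).1 (hxfix z' hz')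
    have hx0 : π ∉ K ∙ x := by
      intro h
      obtain ⟨c, hc⟩ := Submodule.mem_span_singleton.1 h
      by_cases hc0 : c = 0
      · exact hπ0 (by rw [← hc, hc0, zero_smul])
      · refine hxF ?_
        rw [show x = c⁻¹ • π by rw [← hc, smul_smul, inv_mul_cancel₀ hc0, one_smul]]
        exact Submodule.smul_mem _ _ (hxfix z' hz')
    obtain ⟨β, hβπ, hβ⟩ := exists_functional_off (K := K) hx0
    have hβx : β x = 0 := hβ x (Submodule.mem_span_singleton_self x)
    obtain ⟨a, ha, hne''⟩ := hi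
    refine hne'' ?_
    have hys : y ∈ F.stab i := hfix.le_stab i hyT
    suffices hres : F.res i ⟨y, hys⟩ = 1 by
      exact congrArg Subtype.val (DFunLike.congr_fun ((F.res_one_iff _).1 hres) ⟨a, (hblk i).symm ▸ ha⟩)
    refine LinearMap.ext fun w => Subtype.ext ?_
    show ρ y (w : U) = w
    by_contra hw
    obtain ⟨α, hα⟩ := exists_functional_one (K := K) (v := ρ y (w : U) - w) (sub_ne_zero.2 hw)
    set u := ρ z'⁻¹ (w : U) with hu
    have huW : u ∈ F.W i := F.W_stab (hfix.le_stab i (inv_mem hz')) w.2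
    let b := Function.update (Function.update F.e i u) j x
    have hb : ∀ k, b k ∈ F.W k := by
      intro k
      by_cases hkj : k = j
      · subst hkj; simp only [b, Function.update_self]; exact hxW
      by_cases hki : k = i
      · subst hki; simp only [b, Function.update_of_ne hkj, Function.update_self]; exact huW
      · simp only [b, Function.update_of_ne hkj, Function.update_of_ne hki]; exact F.e_mem k
    let φ := Function.update (Function.update F.dual i α) j β
    have hij : i ≠ j := fun e => hji e.symm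
    have h := F.diff_two_two hF hfix hyT hz' φ hb hij fun k hki hkj s hs => by
      simp only [b, Function.update_of_ne hkj, Function.update_of_ne hki]
      rw [F.e_perm s hs, hfix.fix s hs k]
    have hz0 : (ρ y - 1) * (ρ z' - 1) = 0 := by
      have h1 : (ρ y - 1) * ((ρ z' - 1) * 1) ∈ chainProd ρ D.T (0 + 2) :=
        mem_chainProd_succ hy (mem_chainProd_succ hz' rfl)
      have h2 := hzero _ h1
      rwa [mul_one] at h2
    rw [hz0, LinearMap.zero_apply, map_zero] at h
    have hC : ∏ k ∈ (Finset.univ.erase i).erase j, φ k (b k) = 1 := Finset.prod_eq_one fun k hk => by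
      have hkj := Finset.ne_of_mem_erase hk
      have hki := Finset.ne_of_mem_erase (Finset.mem_of_mem_erase hk)
      simp only [φ, b, Function.update_of_ne hkj, Function.update_of_ne hki]
      exact F.dual_e k
    rw [hC, mul_one] at h
    simp only [φ, b, Function.update_self, Function.update_of_ne hij] at h
    have e1 : ρ z' x = x + π := by rw [hπ]; abel
    rw [map_mul, Module.End.mul_apply, Module.End.mul_apply, e1, hyx, map_add (ρ y), hyx, hπfix.2 y hyT, map_add β,
      hβx, hβπ, zero_add, mul_zero, mul_one, mul_one, mul_zero, sub_zero, add_zero, hu,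
      ← Module.End.mul_apply (ρ z'), rho_mul_inv, Module.End.one_apply] at h
    rw [map_sub, ← h] at hα
    exact one_ne_zero hα.symm
  refine Or.inr ⟨rfl, fun e he z hz => ?_⟩
  have hc : ⁅e, z⁆ ∈ D.T := mul_mem (mul_mem (mul_mem he hz) (inv_mem he)) (inv_mem hz)
  refine (h e he z hz).imp (fun h1 => hone _ fun j a ha => ?_) fun h1 => hone _ fun j a ha => ?_
  · by_cases hji : j = i
    · subst hji; exact h1 a ha
    · exact hother j hji _ hc a ha
  · by_cases hji : j = i
    · subst hji; exact h1 a ha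
    · exact hother j hji _ (mul_mem hc (inv_mem (pow_mem he 2))) a ha

/-- Without invariant decompositions. -/
theorem goal_of_nosplit (hF : D.Full) (r : ℕ) (hzero : ChainZero ρ D.T (r + 2)) (hirr : D.Irred) (hns : D.NoSplit) :
    D.Goal r := by
  classical
  rcases Nat.eq_zero_or_pos r with rfl | hr
  swap
  · exact Or.inl fun y hy => derived_two_trivial hirr hns y (derSub_antitone D.T (by omega) hy)
  by_cases hyall : ∀ y ∈ derSub D.T 1, D.act y = 1
  · exact Or.inl hyall
  push Not at hyall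
  obtain ⟨y, hy, hy1⟩ := hyall
  have hyT := derSub_le _ _ hy
  have hann : ∀ a ∈ derSub D.T 1, ∀ b ∈ derSub D.T 1, (ρ a - 1) * (ρ b - 1) = 0 := fun a ha =>
    annihilates_range 1 (ρ a - 1) fun p hp => hzero _ (mem_chainProd_succ ha hp)
  have hsq : ∀ a ∈ derSub D.T 1, D.act (a * a) = 1 := fun a ha => by
    refine act_eq_one_of_rho (mul_mem (derSub_le _ _ ha) (derSub_le _ _ ha)) ?_
    rw [map_mul]
    exact sub_eq_zero.1 (by rw [← sub_one_sq]; exact hann a ha a ha)
  obtain ⟨hinv, z, hz, hzy⟩ := exists_root hirr hns (Z := D.T) le_rfl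
    (fun g hg x hx => mul_mem (mul_mem hg hx) (inv_mem hg)) hsq ⟨y, hy, hy1⟩ y hy hy1
  have hρ : ρ y = ρ z * ρ z := by
    have hT : y⁻¹ * (z * z) ∈ D.T := mul_mem (inv_mem hyT) (mul_mem hz hz)
    have h1 := hF.rho_eq_one hT (by rw [D.act_mul (inv_mem hyT) (mul_mem hz hz), D.act_inv hyT, hzy, inv_mul_cancel])
    rw [map_mul] at h1
    calc ρ y = ρ y * (ρ y⁻¹ * ρ (z * z)) := by rw [h1, mul_one]
      _ = ρ z * ρ z := by rw [← mul_assoc, rho_mul_inv, one_mul, map_mul]
  have hX3 : (ρ z - 1) ^ 3 = 0 := by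
    have h1 : (ρ y - 1) * ((ρ z - 1) * 1) ∈ chainProd ρ D.T (0 + 2) :=
      mem_chainProd_succ hy (mem_chainProd_succ hz rfl)
    have h2 := hzero _ h1
    rw [mul_one] at h2
    rw [pow_succ, pow_two, sub_one_sq, ← hρ]
    exact h2
  have hX2 : (ρ z - 1) ^ 2 = ρ y - 1 := by rw [pow_two, sub_one_sq, ← hρ]
  have hk1 := rank_inversion hF hyT hinv
  have hk2 := three_rank_le _ hX3
  rw [hX2] at hk2
  have hcard := hF.card_eq
  have hQodd : Odd (finrank K U) := by
    have := D.good.odd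
    rw [hcard] at this
    exact (Nat.odd_pow_iff two_ne_zero).1 this
  have hQ : finrank K U = 3 := by
    have h1 : finrank K U ≠ 1 := fun h => hy1 (MulEquiv.ext fun a => by
      haveI := (Nat.card_eq_one_iff_unique.1 (by rw [hcard, h, one_pow] : Nat.card A = 1)).1
      exact Subsingleton.elim _ _)
    obtain ⟨m, hm⟩ := hQodd
    omega
  have hcard9 : Nat.card A = 9 := by rw [hcard, hQ]; norm_num
  have hd := card_image_dvd (D := D) (Or.inl hcard9)
  set η := D.tau.rangeRestrict ⟨y, hyT⟩ with hη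
  have hactη : D.act y = (η : MulAut A) := D.act_of_mem hyT
  have huniq : ∀ t : D.tau.range, t * t = 1 → t = 1 ∨ t = η := by
    intro t ht
    obtain ⟨g, rfl⟩ := D.tau.rangeRestrict_surjective t
    have hg : D.act (g : G) = ((D.tau.rangeRestrict g : D.tau.range) : MulAut A) := D.act_of_mem g.2
    rcases involution_small (Or.inl hcard9) g.2 (fun a => by
      rw [hg]; exact DFunLike.congr_fun (congrArg Subtype.val ht) a) with h | h
    · exact Or.inl (Subtype.ext (hg.symm.trans h))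
    · exact Or.inr (Subtype.ext (hg.symm.trans ((MulEquiv.ext fun a => by rw [h, hinv] : D.act g = D.act y).trans hactη)))
  have hcent : ∀ g ∈ D.T, D.act g * D.act y = D.act y * D.act g := fun g _ => MulEquiv.ext fun a => by
    simp only [MulAut.mul_apply, hinv, map_inv]
  obtain ⟨a, b, hab⟩ : ∃ a b : D.tau.range, a * b ≠ b * a := by
    by_contra hh
    push Not at hh
    let Kk : Subgroup G :=
      { carrier := {g | g ∈ D.T ∧ D.act g = 1}
        one_mem' := ⟨one_mem _, D.act_one⟩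
        mul_mem' := fun {a b} ha hb => ⟨mul_mem ha.1 hb.1, by rw [D.act_mul ha.1 hb.1, ha.2, hb.2, one_mul]⟩
        inv_mem' := fun {a} ha => ⟨inv_mem ha.1, by rw [D.act_inv ha.1, ha.2, inv_one]⟩ }
    refine hy1 ((show derSub D.T 1 ≤ Kk from ?_) hy).2
    rw [derSub_succ, derSub_zero, commutator_le]
    intro p hp q hq
    have hc : ⁅p, q⁆ ∈ D.T := mul_mem (mul_mem (mul_mem hp hq) (inv_mem hp)) (inv_mem hq)
    refine ⟨hc, ?_⟩
    rw [D.act_of_mem hc, show (⟨⁅p, q⁆, hc⟩ : D.T) = ⁅(⟨p, hp⟩ : D.T), ⟨q, hq⟩⁆ from rfl, map_commutatorElement,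
      commutatorElement_eq_one_iff_mul_comm]
    exact congrArg Subtype.val (hh (D.tau.rangeRestrict ⟨p, hp⟩) (D.tau.rangeRestrict ⟨q, hq⟩))
  refine Or.inr ⟨rfl, fun e he w hw => ?_⟩
  have hc : ⁅e, w⁆ ∈ derSub D.T 1 := commutator_mem_commutator he hw
  have hcT := derSub_le _ _ hc
  rcases huniq (D.tau.rangeRestrict ⟨_, hcT⟩) (Subtype.ext (by
      have := hsq _ hc
      rwa [D.act_mul hcT hcT, D.act_of_mem hcT] at this)) with h | h
  · exact Or.inl (by rw [D.act_of_mem hcT]; exact congrArg Subtype.val h)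
  have hcy : D.act ⁅e, w⁆ = D.act y := by rw [D.act_of_mem hcT, hactη]; exact congrArg Subtype.val h
  have hee : D.act (e * e) = D.act y := by
    have hnc : ¬ D.act e * D.act w = D.act w * D.act e := fun h' => hy1 (by
      rw [← hcy, commutatorElement_def, D.act_mul (mul_mem (mul_mem he hw) (inv_mem he)) (inv_mem hw),
        D.act_mul (mul_mem he hw) (inv_mem he), D.act_mul he hw, h', D.act_inv he, D.act_inv hw,
        mul_inv_cancel_right, mul_inv_cancel])
    rcases sq_eq_of_unique hd hab huniq (D.tau.rangeRestrict ⟨e, he⟩) with h' | h' | h'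
    · exact absurd (by
        rw [show D.act e = 1 by rw [D.act_of_mem he]; exact congrArg Subtype.val h', one_mul, mul_one]) hnc
    · exact absurd (by
        rw [show D.act e = D.act y by rw [D.act_of_mem he, hactη]; exact congrArg Subtype.val h', hcent w hw]) hnc
    · rw [D.act_mul he he, hactη, D.act_of_mem he]
      exact congrArg Subtype.val h'
  refine Or.inr ?_
  rw [pow_two, D.act_mul hcT (inv_mem (mul_mem he he)), D.act_inv (mul_mem he he), hcy, hee, mul_inv_cancel]

end SymData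

end Cfsg.Lib.TwoLength
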