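import Cfsg.Agent.TwoLength.DerivedLength.Section

/-!
An orthogonal decomposition of the form group permuted by the `2`-group: pure vectors and functionals.
-/

set_option linter.style.haveILetI false
set_option linter.unusedSectionVars false

namespace Cfsg.Lib.TwoLength

open Module Subgroup Cfsg.Lib.HallHigman

universe u v w z t

theorem noncommProd_comp_perm {ι : Type t} [Fintype ι] {M : Type*} [Monoid M] (σ : Equiv.Perm ι) (f : ι → M)
    (h : ((Finset.univ : Finset ι) : Set ι).Pairwise (Function.onFun Commute f)) :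
    Finset.univ.noncommProd (f ∘ σ) (fun a _ b _ hab => h (Finset.mem_univ _) (Finset.mem_univ _) (σ.injective.ne hab)) =
      Finset.univ.noncommProd f h := by
  unfold Finset.noncommProd
  congr 1
  rw [← Multiset.map_map, Multiset.map_univ_val_equiv]

variable {K : Type u} [Field K] {U : Type v} [AddCommGroup U] [Module K U] {G : Type w} [Group G] [Finite G]

theorem noncommProd_smul {ι : Type t} (s : Finset ι) (c : ι → K) (f : ι → Module.End K U)
    (h : (s : Set ι).Pairwise (Function.onFun Commute f))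
    (h' : (s : Set ι).Pairwise (Function.onFun Commute fun i => c i • f i)) :
    s.noncommProd (fun i => c i • f i) h' =
      (∏ i ∈ s, c i) • s.noncommProd f h := by
  classical
  induction s using Finset.induction_on with
  | empty => simp [Finset.noncommProd_empty]
  | insert a s ha ih =>
    rw [Finset.noncommProd_insert_of_notMem _ _ _ _ ha, Finset.noncommProd_insert_of_notMem _ _ _ _ ha,
      Finset.prod_insert ha, ih, smul_mul_assoc, mul_smul_comm, smul_smul]

namespace SymData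

variable {ρ : G →* Module.End K U} {A : Type z} [CommGroup A] [Finite A] (D : SymData ρ A)

section block

variable (A₁ : Subgroup A) (hnd : A₁ ⊓ orthSub D.form A₁ = ⊥) (P : Subgroup G) (hP : P ≤ D.T)
  (hA : ∀ p ∈ P, ∀ a ∈ A₁, D.act p a ∈ A₁)

include hnd hP hA in
/-- The data of a non-degenerate invariant subgroup of the form group. -/
noncomputable def block : SymData ρ A₁ where
  Q := D.lift A₁
  T := P
  odd_Q := D.odd_lift A₁
  norm := fun p hp => mem_normalizer_of_conj_le fun a ha => by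
    obtain ⟨ha1, ha2⟩ := (D.mem_lift).1 ha
    exact (D.mem_lift).2 ⟨D.conj_mem (hP hp) ha1, (D.proj_conj (hP hp) ⟨_, ha1⟩).symm ▸ hA _ hp _ ha2⟩
  two := D.two.to_le hP
  proj :=
    { toFun := fun r => ⟨D.proj ⟨(r : G), ((D.mem_lift).1 r.2).1⟩, ((D.mem_lift).1 r.2).2⟩
      map_one' := Subtype.ext (map_one D.proj)
      map_mul' := fun a b => Subtype.ext (map_mul D.proj ⟨(a : G), ((D.mem_lift).1 a.2).1⟩ ⟨(b : G), ((D.mem_lift).1 b.2).1⟩) }
  surj := fun x => by
    obtain ⟨b, hb⟩ := D.surj (x : A)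
    exact ⟨⟨(b : G), (D.mem_lift).2 ⟨b.2, hb.symm ▸ x.2⟩⟩, Subtype.ext hb⟩
  form := MonoidHom.mk' (fun a => (D.form (a : A)).comp A₁.subtype) fun a b => MonoidHom.ext fun x => by
    show D.form ((a * b : A₁) : A) (x : A) = _
    rw [Subgroup.coe_mul, map_mul]; rfl
  good :=
    { odd := D.good.odd.of_dvd_nat (card_subgroup_dvd_card A₁)
      alt := fun a => D.good.alt _
      nondeg := fun a h => Subtype.ext (mem_bot.1 (hnd.le ⟨a.2, fun m hm => h ⟨m, hm⟩⟩)) }
  comm := fun a b => D.comm ⟨_, ((D.mem_lift).1 a.2).1⟩ ⟨_, ((D.mem_lift).1 b.2).1⟩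
  scal := fun a h => D.scal ⟨_, ((D.mem_lift).1 a.2).1⟩ (congrArg Subtype.val h)
  tau :=
    { toFun := fun p =>
        { toFun := fun a => ⟨D.act p a, hA p p.2 a a.2⟩
          invFun := fun a => ⟨D.act (p : G)⁻¹ a, hA _ (inv_mem p.2) a a.2⟩
          left_inv := fun a => Subtype.ext (by
            show D.act (p : G)⁻¹ (D.act p a) = a
            rw [D.act_inv (hP p.2), MulAut.inv_apply_self])
          right_inv := fun a => Subtype.ext (by
            show D.act p (D.act (p : G)⁻¹ a) = a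
            rw [D.act_inv (hP p.2), MulAut.apply_inv_self])
          map_mul' := fun a b => Subtype.ext (map_mul (D.act p) _ _) }
      map_one' := MulEquiv.ext fun a => Subtype.ext (by show D.act (1 : G) a = a; rw [D.act_one]; rfl)
      map_mul' := fun p p' => MulEquiv.ext fun a => Subtype.ext (by
        show D.act ((p : G) * p') a = D.act p (D.act p' a)
        rw [D.act_mul (hP p.2) (hP p'.2)]; rfl) }
  tau_spec := fun t a h => Subtype.ext (D.proj_conj (hP t.2) ⟨_, ((D.mem_lift).1 a.2).1⟩)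

theorem block_alg : (D.block A₁ hnd P hP hA).alg = Submodule.span K (ρ '' (D.lift A₁ : Set G)) := by
  refine congrArg (Submodule.span K) ?_
  ext X
  constructor
  · rintro ⟨a, rfl⟩; exact ⟨a, a.2, rfl⟩
  · rintro ⟨a, ha, rfl⟩; exact ⟨⟨a, ha⟩, rfl⟩

theorem act_block {p : G} (hp : p ∈ P) (a : A₁) :
    (((D.block A₁ hnd P hP hA).act p a : A₁) : A) = D.act p a := by
  rw [(D.block A₁ hnd P hP hA).act_of_mem (g := p) hp]
  rfl

end block

/-- A permuted orthogonal decomposition with a marked simple subspace and a marked vector for each part. -/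
structure Frame (ι : Type t) [Fintype ι] where
  blk : ι → Subgroup A
  orth : ∀ i j, i ≠ j → blk i ≤ orthSub D.form (blk j)
  sup : ⨆ i, blk i = ⊤
  nondeg : ∀ i, blk i ⊓ orthSub D.form (blk i) = ⊥
  perm : G → Equiv.Perm ι
  perm_spec : ∀ g ∈ D.T, ∀ i, ∀ a ∈ blk i, D.act g a ∈ blk (perm g i)
  perm_one : perm 1 = 1
  perm_mul : ∀ g ∈ D.T, ∀ h ∈ D.T, perm (g * h) = perm g * perm h
  W : ι → Submodule K U
  simple : ∀ i, (D.block (blk i) (nondeg i) ⊥ bot_le (fun p hp a ha => by
    rw [mem_bot] at hp; rw [hp, D.act_one]; exact ha)).IsSimple (W i)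
  W_perm : ∀ g ∈ D.T, ∀ i, ∀ w ∈ W i, ρ g w ∈ W (perm g i)
  e : ι → U
  e_mem : ∀ i, e i ∈ W i
  e_ne : ∀ i, e i ≠ 0
  e_perm : ∀ g ∈ D.T, ∀ i, ρ g (e i) = e (perm g i)

namespace Frame

variable {D} {ι : Type t} [Fintype ι] (F : D.Frame ι)

/-- The data of one part. -/
noncomputable abbrev part (i : ι) : SymData ρ (F.blk i) :=
  D.block (F.blk i) (F.nondeg i) ⊥ bot_le (fun p hp a ha => by rw [mem_bot] at hp; rw [hp, D.act_one]; exact ha)

theorem perm_inv {g : G} (hg : g ∈ D.T) : F.perm g⁻¹ = (F.perm g)⁻¹ :=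
  eq_inv_of_mul_eq_one_left (by rw [← F.perm_mul _ (inv_mem hg) _ hg, inv_mul_cancel, F.perm_one])

theorem perm_inv_apply {g : G} (hg : g ∈ D.T) (i : ι) : F.perm g⁻¹ (F.perm g i) = i := by
  rw [← Equiv.Perm.mul_apply, ← F.perm_mul _ (inv_mem hg) _ hg, inv_mul_cancel, F.perm_one, Equiv.Perm.one_apply]

theorem apply_perm_inv {g : G} (hg : g ∈ D.T) (i : ι) : F.perm g ((F.perm g)⁻¹ i) = i :=
  (F.perm g).apply_symm_apply i

theorem part_mem_alg {i : ι} {a : G} (ha : a ∈ D.lift (F.blk i)) : ρ a ∈ (F.part i).alg :=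
  (F.part i).rho_mem_alg (a := a) ha

theorem part_le_alg (i : ι) : (F.part i).alg ≤ D.alg := by
  refine Submodule.span_le.2 ?_
  rintro _ ⟨a, rfl⟩
  exact D.rho_mem_alg (D.lift_le _ a.2)

theorem commute_of_ne {i j : ι} (h : i ≠ j) {X Y : Module.End K U} (hX : X ∈ (F.part i).alg)
    (hY : Y ∈ (F.part j).alg) : Commute X Y := by
  induction hX using Submodule.span_induction with
  | mem x hx =>
    obtain ⟨a, rfl⟩ := hx
    induction hY using Submodule.span_induction with
    | mem y hy =>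
      obtain ⟨b, rfl⟩ := hy
      obtain ⟨ha, ha'⟩ := (D.mem_lift).1 a.2
      obtain ⟨hb, hb'⟩ := (D.mem_lift).1 b.2
      have h1 := D.comm ⟨_, ha⟩ ⟨_, hb⟩
      rw [F.orth i j h ha' _ hb', Units.val_one, one_smul] at h1
      exact h1
    | zero => exact Commute.zero_right _
    | add y y' _ _ h h' => exact h.add_right h'
    | smul r y _ h => exact h.smul_right r
  | zero => exact Commute.zero_left _
  | add x x' _ _ h h' => exact h.add_left h'
  | smul r x _ h => exact h.smul_left r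

variable [CharP K 2] [Nontrivial U]

/-- The operator of a part that is of rank one on its subspace. -/
noncomputable def op (i : ι) (φ : U →ₗ[K] K) (w : U) : Module.End K U := by
  classical
  exact if h : w ∈ F.W i then Classical.choose ((F.simple i).full ((φ.comp (F.W i).subtype).smulRight ⟨w, h⟩)) else 0

theorem op_mem (i : ι) (φ : U →ₗ[K] K) (w : U) : F.op i φ w ∈ (F.part i).alg := by
  unfold op
  split_ifs with h
  · exact (Classical.choose_spec ((F.simple i).full ((φ.comp (F.W i).subtype).smulRight ⟨w, h⟩))).1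
  · exact zero_mem _

theorem op_apply {i : ι} (φ : U →ₗ[K] K) {w : U} (hw : w ∈ F.W i) {x : U} (hx : x ∈ F.W i) :
    F.op i φ w x = φ x • w := by
  unfold op
  rw [dif_pos hw]
  exact (Classical.choose_spec ((F.simple i).full ((φ.comp (F.W i).subtype).smulRight ⟨w, hw⟩))).2 ⟨x, hx⟩

theorem part_ext (i : ι) {X Y : Module.End K U} (hX : X ∈ (F.part i).alg) (hY : Y ∈ (F.part i).alg)
    (h : ∀ w ∈ F.W i, X w = Y w) : X = Y :=
  alg_ext (F.simple i) hX hY h

theorem op_mul {i : ι} (φ ψ : U →ₗ[K] K) {w x : U} (hw : w ∈ F.W i) (hx : x ∈ F.W i) :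
    F.op i φ w * F.op i ψ x = φ x • F.op i ψ w := by
  refine F.part_ext i ((F.part i).alg_mul (F.op_mem i φ w) (F.op_mem i ψ x))
    (Submodule.smul_mem _ _ (F.op_mem i ψ w)) fun u hu => ?_
  rw [Module.End.mul_apply, LinearMap.smul_apply, F.op_apply ψ hx hu, map_smul, F.op_apply φ hw hx, F.op_apply ψ hw hu,
    smul_comm]

theorem op_conj {g : G} (hg : g ∈ D.T) {i : ι} (φ : U →ₗ[K] K) {w : U} (hw : w ∈ F.W i) :
    ρ g * F.op i φ w * ρ g⁻¹ = F.op (F.perm g i) (φ.comp (ρ g⁻¹)) (ρ g w) := by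
  have hmem : ∀ X ∈ (F.part i).alg, ρ g * X * ρ g⁻¹ ∈ (F.part (F.perm g i)).alg := by
    intro X hX
    induction hX using Submodule.span_induction with
    | mem x hx =>
      obtain ⟨a, rfl⟩ := hx
      show ρ g * ρ (a : G) * ρ g⁻¹ ∈ _
      rw [← map_mul, ← map_mul]
      obtain ⟨ha, ha'⟩ := (D.mem_lift).1 a.2
      exact F.part_mem_alg ((D.mem_lift).2 ⟨D.conj_mem hg ha,
        (D.proj_conj hg ⟨_, ha⟩).symm ▸ F.perm_spec g hg i _ ha'⟩)
    | zero => simp
    | add x x' _ _ h h' => rw [mul_add, add_mul]; exact add_mem h h'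
    | smul r x _ h => rw [mul_smul_comm, smul_mul_assoc]; exact Submodule.smul_mem _ _ h
  refine F.part_ext _ (hmem _ (F.op_mem i φ w)) (F.op_mem _ _ _) fun u hu => ?_
  have hu' : ρ g⁻¹ u ∈ F.W i := by
    have := F.W_perm _ (inv_mem hg) _ u hu
    rwa [F.perm_inv_apply hg] at this
  rw [Module.End.mul_apply, Module.End.mul_apply, F.op_apply φ hw hu', map_smul,
    F.op_apply _ (F.W_perm g hg i w hw) hu]
  rfl

theorem pairwise_commute {f : ι → Module.End K U} (hf : ∀ i, f i ∈ (F.part i).alg) :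
    ((Finset.univ : Finset ι) : Set ι).Pairwise (Function.onFun Commute f) :=
  fun i _ j _ h => F.commute_of_ne h (hf i) (hf j)

/-- The product over the parts. -/
noncomputable def opProd (φ : ι → U →ₗ[K] K) (a : ι → U) : Module.End K U :=
  Finset.univ.noncommProd (fun i => F.op i (φ i) (a i)) (F.pairwise_commute fun i => F.op_mem i (φ i) (a i))

theorem opProd_mul (φ ψ : ι → U →ₗ[K] K) (a b : ι → U) (ha : ∀ i, a i ∈ F.W i) (hb : ∀ i, b i ∈ F.W i) :
    F.opProd φ a * F.opProd ψ b = (∏ i, φ i (b i)) • F.opProd ψ a := by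
  unfold opProd
  rw [← Finset.noncommProd_mul_distrib _ _ _ _ fun i _ j _ h => F.commute_of_ne h (F.op_mem i _ _) (F.op_mem j _ _)]
  rw [← noncommProd_smul]
  refine Finset.noncommProd_congr rfl (fun i _ => ?_) _
  exact F.op_mul (φ i) (ψ i) (ha i) (hb i)

theorem perm_opProd {g : G} (hg : g ∈ D.T) (φ : ι → U →ₗ[K] K) {a : ι → U} (ha : ∀ i, a i ∈ F.W i) :
    ρ g * F.opProd φ a * ρ g⁻¹ = F.opProd (fun j => (φ ((F.perm g)⁻¹ j)).comp (ρ g⁻¹))
      (fun j => ρ g (a ((F.perm g)⁻¹ j))) := by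
  let conjHom : Module.End K U →* Module.End K U :=
    { toFun := fun X => ρ g * X * ρ g⁻¹
      map_one' := by rw [mul_one, rho_mul_inv]
      map_mul' := fun X Y => by
        rw [show ρ g * (X * Y) * ρ g⁻¹ = ρ g * X * (ρ g⁻¹ * ρ g) * Y * ρ g⁻¹ by rw [rho_inv_mul, mul_one, mul_assoc (ρ g) X]]
        simp only [mul_assoc] }
  unfold opProd
  show conjHom _ = _
  refine (Finset.map_noncommProd _ _ _ conjHom).trans ((noncommProd_comp_perm (F.perm g)⁻¹
    (fun i => conjHom (F.op i (φ i) (a i))) _).symm.trans (Finset.noncommProd_congr rfl (fun j _ => ?_) _))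
  show ρ g * F.op _ _ _ * ρ g⁻¹ = _
  rw [F.op_conj hg _ (ha _), F.apply_perm_inv hg]

theorem exists_dual (i : ι) : ∃ φ : U →ₗ[K] K, φ (F.e i) = 1 := exists_functional_one (F.e_ne i)

/-- The marked functional of a part. -/
noncomputable def dual (i : ι) : U →ₗ[K] K := Classical.choose (F.exists_dual i)

theorem dual_e (i : ι) : F.dual i (F.e i) = 1 := Classical.choose_spec (F.exists_dual i)

theorem prod_dual_e : ∏ i, F.dual i (F.e i) = 1 := Finset.prod_eq_one fun i _ => F.dual_e i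

/-- The marked projection. -/
noncomputable def proj₀ : Module.End K U := F.opProd F.dual F.e

theorem opProd_ne_zero {φ : ι → U →ₗ[K] K} {a : ι → U} (ha : ∀ i, F.op i (φ i) (a i) ≠ 0) :
    F.opProd φ a ≠ 0 := by
  classical
  have hc : ∀ s : Finset ι, (s : Set ι).Pairwise (Function.onFun Commute fun x => F.op x (φ x) (a x)) :=
    fun s x _ y _ h => F.commute_of_ne h (F.op_mem x _ _) (F.op_mem y _ _)
  suffices h : ∀ s : Finset ι, s.noncommProd (fun i => F.op i (φ i) (a i)) (hc s) ≠ 0 from h Finset.univ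
  intro s
  induction s using Finset.induction_on with
  | empty => simp
  | insert i s hi ih =>
    rw [Finset.noncommProd_insert_of_notMem _ _ _ _ hi]
    intro h0
    set Y := s.noncommProd (fun i => F.op i (φ i) (a i)) (hc s)
    have hY : ∀ X ∈ (F.part i).alg, Commute X Y := fun X hX => Finset.noncommProd_commute _ _ _ _ fun j hj =>
      F.commute_of_ne (fun e : i = j => hi (by rw [e]; exact hj)) hX (F.op_mem j _ _)
    refine ha i (alg_eq_zero (W := LinearMap.range Y) ?_ ?_ (F.op_mem i _ _) ?_)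
    · rintro b _ ⟨u, rfl⟩
      exact ⟨ρ (b : G) u, by
        have := LinearMap.congr_fun (hY _ ((F.part i).rho_mem_alg b.2)).eq u
        simp only [Module.End.mul_apply] at this
        exact this.symm⟩
    · rw [Ne, LinearMap.range_eq_bot]; exact ih
    · rintro _ ⟨u, rfl⟩
      rw [← Module.End.mul_apply, h0, LinearMap.zero_apply]

theorem op_ne_zero {i : ι} {φ : U →ₗ[K] K} {w : U} (hw : w ∈ F.W i) (hw0 : w ≠ 0) {x : U} (hx : x ∈ F.W i)
    (hφ : φ x ≠ 0) : F.op i φ w ≠ 0 := fun h => by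
  have := F.op_apply φ hw hx
  rw [h, LinearMap.zero_apply] at this
  exact (smul_eq_zero.1 this.symm).elim hφ hw0

theorem proj₀_ne_zero : F.proj₀ ≠ 0 := F.opProd_ne_zero fun i =>
  F.op_ne_zero (F.e_mem i) (F.e_ne i) (F.e_mem i) (by rw [F.dual_e]; exact one_ne_zero)

theorem exists_prod_eq (x : A) : ∃ f : ι → A, (∀ i, f i ∈ F.blk i) ∧ ∏ i, f i = x := by
  classical
  let S : Subgroup A :=
    { carrier := {x | ∃ f : ι → A, (∀ i, f i ∈ F.blk i) ∧ ∏ i, f i = x}
      one_mem' := ⟨1, fun i => one_mem _, by simp⟩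
      mul_mem' := by
        rintro _ _ ⟨f, hf, rfl⟩ ⟨g, hg, rfl⟩
        exact ⟨f * g, fun i => mul_mem (hf i) (hg i), Finset.prod_mul_distrib⟩
      inv_mem' := by
        rintro _ ⟨f, hf, rfl⟩
        exact ⟨f⁻¹, fun i => inv_mem (hf i), Finset.prod_inv_distrib ..⟩ }
  have hle : (⨆ i, F.blk i) ≤ S := iSup_le fun i a ha => ⟨Pi.mulSingle i a, fun j => by
    by_cases h : j = i
    · subst h; rw [Pi.mulSingle_eq_same]; exact ha
    · rw [Pi.mulSingle_eq_of_ne h]; exact one_mem _, Finset.prod_pi_mulSingle' i a Finset.univ |>.trans (if_pos (Finset.mem_univ i))⟩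
  rw [F.sup] at hle
  exact hle (mem_top x)

theorem rho_eq_prod (a : D.Q) : ∃ (r : K) (b : ι → G) (hb : ∀ i, b i ∈ D.lift (F.blk i)),
    ρ (a : G) = r • Finset.univ.noncommProd (fun i => ρ (b i)) (F.pairwise_commute fun i => F.part_mem_alg (hb i)) := by
  classical
  obtain ⟨f, hf, hfx⟩ := F.exists_prod_eq (D.proj a)
  choose b hb using fun i => D.surj (f i)
  have hbl : ∀ i, (b i : G) ∈ D.lift (F.blk i) := fun i => (D.mem_lift).2 ⟨(b i).2, (hb i).symm ▸ hf i⟩
  have hcs : ∀ s : Finset ι, (s : Set ι).Pairwise (Function.onFun Commute fun x => ρ (b x : G)) := fun s x _ y _ h =>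
    F.commute_of_ne h (F.part_mem_alg (hbl x)) (F.part_mem_alg (hbl y))
  have key : ∀ s : Finset ι, ∃ c : D.Q, D.proj c = ∏ i ∈ s, f i ∧
      ρ (c : G) = s.noncommProd (fun i => ρ (b i : G)) (hcs s) := by
    intro s
    induction s using Finset.induction_on with
    | empty => exact ⟨1, by simp, by simp⟩
    | insert i s hi ih =>
      obtain ⟨c, hc1, hc2⟩ := ih
      exact ⟨b i * c, by rw [map_mul, hb, hc1, Finset.prod_insert hi],
        by rw [Subgroup.coe_mul, map_mul, hc2, Finset.noncommProd_insert_of_notMem _ _ _ _ hi]⟩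
  obtain ⟨c, hc1, hc2⟩ := key Finset.univ
  obtain ⟨r, hr⟩ := D.scal (a * c⁻¹) (by rw [map_mul, map_inv, hc1, hfx, mul_inv_cancel])
  refine ⟨r, fun i => (b i : G), hbl, ?_⟩
  rw [show (a : G) = ((a * c⁻¹ : D.Q) : G) * c by simp, map_mul, hr, hc2, smul_mul_assoc, one_mul]

theorem proj₀_sandwich (hF : D.Full) (X : Module.End K U) : ∃ r : K, F.proj₀ * X * F.proj₀ = r • F.proj₀ := by
  classical
  have hX : X ∈ D.alg := hF.ge Submodule.mem_top
  induction hX using Submodule.span_induction with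
  | mem x hx =>
    obtain ⟨a, rfl⟩ := hx
    obtain ⟨r, b, hb, e⟩ := F.rho_eq_prod a
    have h1 : ∀ i, F.op i (F.dual i) (F.e i) * ρ (b i) * F.op i (F.dual i) (F.e i) =
        F.dual i (ρ (b i) (F.e i)) • F.op i (F.dual i) (F.e i) := fun i => by
      refine F.part_ext i ((F.part i).alg_mul ((F.part i).alg_mul (F.op_mem i _ _) (F.part_mem_alg (hb i))) (F.op_mem i _ _))
        (Submodule.smul_mem _ _ (F.op_mem i _ _)) fun u hu => ?_
      rw [Module.End.mul_apply, Module.End.mul_apply, LinearMap.smul_apply, F.op_apply _ (F.e_mem i) hu, map_smul,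
        map_smul, F.op_apply _ (F.e_mem i) ((F.simple i).inv ⟨b i, hb i⟩ _ (F.e_mem i)), smul_comm]
    refine ⟨r * ∏ i, F.dual i (ρ (b i) (F.e i)), ?_⟩
    show F.proj₀ * ρ (a : G) * F.proj₀ = _
    rw [e, mul_smul_comm, smul_mul_assoc, mul_smul, proj₀, opProd]
    congr 1
    have hcomm : ∀ i j : ι, i ≠ j → Commute (ρ (b i)) (F.op j (F.dual j) (F.e j)) := fun i j h =>
      F.commute_of_ne h (F.part_mem_alg (hb i)) (F.op_mem j _ _)
    refine (congrArg (· * _) (Finset.noncommProd_mul_distrib _ _ _ _ fun i _ j _ h => hcomm i j h).symm).trans ?_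
    refine (Finset.noncommProd_mul_distrib _ _ _ _ fun i _ j _ h =>
      (F.commute_of_ne h (F.op_mem i _ _) ((F.part j).alg_mul (F.op_mem j _ _) (F.part_mem_alg (hb j))))).symm.trans ?_
    refine (Finset.noncommProd_congr rfl (fun i _ => h1 i) _).trans (noncommProd_smul _ _ _ _ _)
  | zero => exact ⟨0, by simp⟩
  | add x y _ _ hx hy =>
    obtain ⟨r, hr⟩ := hx
    obtain ⟨s, hs⟩ := hy
    exact ⟨r + s, by rw [mul_add, add_mul, hr, hs, add_smul]⟩
  | smul c x _ hx =>
    obtain ⟨r, hr⟩ := hx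
    exact ⟨c * r, by rw [mul_smul_comm, smul_mul_assoc, hr, mul_smul]⟩

theorem proj₀_sq : F.proj₀ * F.proj₀ = F.proj₀ := by
  rw [proj₀, F.opProd_mul _ _ _ _ F.e_mem F.e_mem, F.prod_dual_e, one_smul]

/-- The base vector. -/
noncomputable def base : U := Classical.epsilon fun v => v ≠ 0 ∧ ∃ u, F.proj₀ u = v

theorem base_spec : F.base ≠ 0 ∧ ∃ u, F.proj₀ u = F.base := by
  refine Classical.epsilon_spec (p := fun v => v ≠ 0 ∧ ∃ u, F.proj₀ u = v) ?_
  by_contra hh
  push Not at hh
  refine F.proj₀_ne_zero (LinearMap.ext fun u => ?_)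
  by_contra h0
  exact hh _ h0 u rfl

theorem base_ne : F.base ≠ 0 := F.base_spec.1

theorem proj₀_base : F.proj₀ F.base = F.base := by
  obtain ⟨u, hu⟩ := F.base_spec.2
  rw [← hu, ← Module.End.mul_apply, F.proj₀_sq]

theorem proj₀_range (hF : D.Full) (u : U) : ∃ r : K, F.proj₀ u = r • F.base := by
  obtain ⟨φ, hφ⟩ := exists_functional_one (K := K) F.base_ne
  obtain ⟨r, hr⟩ := F.proj₀_sandwich hF (φ.smulRight u)
  refine ⟨r, ?_⟩
  have h := LinearMap.congr_fun hr F.base
  rw [Module.End.mul_apply, Module.End.mul_apply, LinearMap.smul_apply, F.proj₀_base, LinearMap.smulRight_apply, hφ,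
    one_smul] at h
  exact h

theorem opProd_e_range (hF : D.Full) (φ : ι → U →ₗ[K] K) (u : U) : ∃ r : K, F.opProd φ F.e u = r • F.base := by
  have h : F.opProd φ F.e = F.proj₀ * F.opProd φ F.e := by
    rw [proj₀, F.opProd_mul _ _ _ _ F.e_mem F.e_mem, F.prod_dual_e, one_smul]
  rw [h, Module.End.mul_apply]
  exact F.proj₀_range hF _

/-- The vector with given components. -/
noncomputable def pure (a : ι → U) : U := F.opProd F.dual a F.base

/-- The functional with given components. -/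
noncomputable def pureDual (φ : ι → U →ₗ[K] K) : U →ₗ[K] K :=
  (Classical.choose (exists_functional_one (K := K) F.base_ne)).comp (F.opProd φ F.e)

theorem pureDual_pure (φ : ι → U →ₗ[K] K) {a : ι → U} (ha : ∀ i, a i ∈ F.W i) :
    F.pureDual φ (F.pure a) = ∏ i, φ i (a i) := by
  rw [pureDual, LinearMap.comp_apply, pure, ← Module.End.mul_apply (F.opProd φ F.e), F.opProd_mul _ _ _ _ F.e_mem ha,
    LinearMap.smul_apply, ← proj₀, F.proj₀_base, map_smul,
    Classical.choose_spec (exists_functional_one (K := K) F.base_ne), smul_eq_mul, mul_one]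

theorem rho_base (hF : D.Full) {g : G} (hg : g ∈ D.T) : ρ g F.base = F.base := by
  classical
  have hline : ∀ h ∈ D.T, ∃ r : K, ρ h F.base = r • F.base := by
    intro h hh
    have e : ρ h F.base = (ρ h * F.proj₀ * ρ h⁻¹) (ρ h F.base) := by
      rw [Module.End.mul_apply, Module.End.mul_apply, ← Module.End.mul_apply (ρ h⁻¹), rho_inv_mul,
        Module.End.one_apply, F.proj₀_base]
    rw [e, proj₀, F.perm_opProd hh _ F.e_mem,
      show (fun j => ρ h (F.e ((F.perm h)⁻¹ j))) = F.e from funext fun j => by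
        rw [F.e_perm h hh, F.apply_perm_inv hh]]
    exact F.opProd_e_range hF _ _
  choose r hr using hline
  have hr0 : ∀ h (hh : h ∈ D.T), r h hh ≠ 0 := fun h hh h0 => F.base_ne (by
    have := hr h hh
    rw [h0, zero_smul] at this
    have h2 := congrArg (ρ h⁻¹) this
    rwa [map_zero, ← Module.End.mul_apply, rho_inv_mul, Module.End.one_apply] at h2)
  let f : D.T →* Kˣ := MonoidHom.mk' (fun h => Units.mk0 (r h h.2) (hr0 h h.2)) fun a b => Units.ext (by
    refine smul_left_injective K F.base_ne ?_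
    show r (a * b : D.T) _ • F.base = (r a a.2 * r b b.2) • F.base
    rw [← hr, Subgroup.coe_mul, map_mul, Module.End.mul_apply, hr b b.2, map_smul, hr a a.2, smul_smul, mul_comm])
  have h1 := congrArg Units.val (units_hom_eq_one D.two f ⟨g, hg⟩)
  change r g hg = 1 at h1
  rw [hr g hg, h1, one_smul]

theorem rho_pure (hF : D.Full) {g : G} (hg : g ∈ D.T) {a : ι → U} (ha : ∀ i, a i ∈ F.W i) :
    ρ g (F.pure a) = F.pure (fun j => ρ g (a ((F.perm g)⁻¹ j))) := by
  have hmem : ∀ j, ρ g (a ((F.perm g)⁻¹ j)) ∈ F.W j := fun j => by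
    have := F.W_perm g hg _ _ (ha ((F.perm g)⁻¹ j))
    rwa [F.apply_perm_inv hg] at this
  set ψ : ι → U →ₗ[K] K := fun j => (F.dual ((F.perm g)⁻¹ j)).comp (ρ g⁻¹)
  have e1 : ρ g (F.pure a) = (ρ g * F.opProd F.dual a * ρ g⁻¹) F.base := by
    rw [Module.End.mul_apply, Module.End.mul_apply, F.rho_base hF (inv_mem hg)]; rfl
  rw [e1, F.perm_opProd hg _ ha]
  conv_lhs => rw [← F.proj₀_base, ← Module.End.mul_apply, proj₀, F.opProd_mul _ _ _ _ hmem F.e_mem]
  rw [show ∏ j, (F.dual ((F.perm g)⁻¹ j)).comp (ρ g⁻¹) (F.e j) = 1 from Finset.prod_eq_one fun j _ => by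
    rw [LinearMap.comp_apply, F.e_perm _ (inv_mem hg), F.perm_inv hg, F.dual_e], one_smul]
  rfl

theorem pureDual_rho (φ : ι → U →ₗ[K] K) {a : ι → U} (ha : ∀ i, a i ∈ F.W i) {g : G} (hg : g ∈ D.T) (hF : D.Full) :
    F.pureDual φ (ρ g (F.pure a)) = ∏ j, φ j (ρ g (a ((F.perm g)⁻¹ j))) := by
  rw [F.rho_pure hF hg ha, F.pureDual_pure]
  intro j
  have := F.W_perm g hg _ _ (ha ((F.perm g)⁻¹ j))
  rwa [F.apply_perm_inv hg] at this

end Frame

end SymData

end Cfsg.Lib.TwoLength
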