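import Mathlib
import Cfsg.Agent.PGroups.Basic

/-!
The iterated derived subgroups of a subgroup, the products of differences attached to them on a module,
and the isolation of one term of such a product when the groups move a point.
-/

set_option linter.style.haveILetI false
set_option linter.unusedSectionVars false

namespace Cfsg.Lib.TwoLength

open Subgroup
open scoped commutatorElement

universe u v w

section derived

variable {G : Type u} [Group G] {H : Type v} [Group H]

/-- The derived series of a subgroup, inside the ambient group. -/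
def derSub (S : Subgroup G) : ℕ → Subgroup G
  | 0 => S
  | i + 1 => ⁅derSub S i, derSub S i⁆

theorem derSub_zero (S : Subgroup G) : derSub S 0 = S := rfl

theorem derSub_succ (S : Subgroup G) (i : ℕ) : derSub S (i + 1) = ⁅derSub S i, derSub S i⁆ := rfl

theorem derSub_add (S : Subgroup G) (j : ℕ) : ∀ i, derSub (derSub S j) i = derSub S (j + i) := by
  intro i
  induction i with
  | zero => rfl
  | succ i ih => rw [derSub_succ, ih]; rfl

theorem derSub_mono {S T : Subgroup G} (h : S ≤ T) : ∀ i, derSub S i ≤ derSub T i := by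
  intro i
  induction i with
  | zero => exact h
  | succ i ih => exact commutator_mono ih ih

theorem map_derSub (f : G →* H) (S : Subgroup G) : ∀ i, (derSub S i).map f = derSub (S.map f) i := by
  intro i
  induction i with
  | zero => rfl
  | succ i ih => rw [derSub_succ, map_commutator, ih]; rfl

theorem derSub_succ_le (S : Subgroup G) (i : ℕ) : derSub S (i + 1) ≤ derSub S i := commutator_le_self _

theorem derSub_antitone (S : Subgroup G) : Antitone (derSub S) :=
  antitone_nat_of_succ_le (derSub_succ_le S)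

theorem derSub_le (S : Subgroup G) (i : ℕ) : derSub S i ≤ S := derSub_antitone S (Nat.zero_le i)

theorem normalizer_derSub {S : Subgroup G} {g : G} (hg : g ∈ normalizer (S : Set G)) :
    ∀ i, g ∈ normalizer (derSub S i : Set G) := by
  intro i
  induction i with
  | zero => exact hg
  | succ i ih =>
    have hle : ∀ {a : G}, a ∈ normalizer (derSub S i : Set G) →
        ⁅derSub S i, derSub S i⁆ ≤ (⁅derSub S i, derSub S i⁆).comap (MulAut.conj a).toMonoidHom := fun {a} ha => by
      rw [commutator_le]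
      intro x hx y hy
      show a * ⁅x, y⁆ * a⁻¹ ∈ (⁅derSub S i, derSub S i⁆ : Subgroup G)
      rw [show a * ⁅x, y⁆ * a⁻¹ = ⁅a * x * a⁻¹, a * y * a⁻¹⁆ by simp only [commutatorElement_def]; group]
      exact commutator_mem_commutator ((mem_normalizer_iff.1 ha x).1 hx) ((mem_normalizer_iff.1 ha y).1 hy)
    refine mem_normalizer_iff.2 fun x => ⟨fun hx => hle ih hx, fun hx => ?_⟩
    have h : g⁻¹ * (g * x * g⁻¹) * g⁻¹⁻¹ ∈ derSub S (i + 1) := hle (inv_mem ih) hx
    simpa [mul_assoc] using h

theorem le_normalizer_derSub (S : Subgroup G) (i : ℕ) : S ≤ normalizer (derSub S i : Set G) :=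
  fun _ hs => normalizer_derSub (le_normalizer hs) i

theorem derSub_conj {S : Subgroup G} {g x : G} (hg : g ∈ S) {i : ℕ} (hx : x ∈ derSub S i) :
    g * x * g⁻¹ ∈ derSub S i :=
  (mem_normalizer_iff.1 (le_normalizer_derSub S i hg) x).1 hx

theorem map_derivedSeries_subtype (S : Subgroup G) : ∀ i, (derivedSeries S i).map S.subtype = derSub S i := by
  intro i
  induction i with
  | zero => rw [derivedSeries_zero, ← MonoidHom.range_eq_map, range_subtype]; rfl
  | succ i ih => rw [derivedSeries_succ, map_commutator, ih]; rfl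

theorem derSub_eq_bot_iff (S : Subgroup G) (i : ℕ) : derSub S i = ⊥ ↔ derivedSeries S i = ⊥ := by
  rw [← map_derivedSeries_subtype, map_eq_bot_iff_of_injective _ S.subtype_injective]

/-- Inside a finite `p`-group the orbits of the derived subgroups fall strictly. -/
theorem exists_moved_out [Finite G] {p : ℕ} [Fact p.Prime] {X : Type w} (act : G → X → X)
    (hone : ∀ x, act 1 x = x) (S : Subgroup G) (hmul : ∀ a ∈ S, ∀ b ∈ S, ∀ x, act (a * b) x = act a (act b x))
    (hS : IsPGroup p S) (i : ℕ) (x : X) (hmove : ∃ s ∈ derSub S i, act s x ≠ x) :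
    ∃ s ∈ derSub S i, ∀ t ∈ derSub S (i + 1), act s x ≠ act t x := by
  by_contra hh
  push Not at hh
  set D := derSub S i with hD
  have hDp : IsPGroup p D := hS.to_le (derSub_le S i)
  let St : Subgroup G :=
    { carrier := {g | g ∈ S ∧ act g x = x}
      one_mem' := ⟨one_mem S, hone x⟩
      mul_mem' := fun {a b} ha hb => ⟨mul_mem ha.1 hb.1, by rw [hmul a ha.1 b hb.1, hb.2, ha.2]⟩
      inv_mem' := fun {a} ha => ⟨inv_mem ha.1, by
        conv_lhs => rw [← ha.2]
        rw [← hmul _ (inv_mem ha.1) _ ha.1, inv_mul_cancel, hone]⟩ }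
  have htop : St.subgroupOf D = ⊤ := frattini_nongenerating (by
    refine eq_top_iff.2 fun s _ => ?_
    obtain ⟨t, ht, e⟩ := hh s s.2
    have htD : t ∈ D := derSub_succ_le S i ht
    have htF : (⟨t, htD⟩ : D) ∈ frattini D := by
      refine Cfsg.Lib.PGroups.commutator_le_frattini hDp ?_
      have h1 : t ∈ (commutator D).map D.subtype := by rwa [map_subtype_commutator]
      obtain ⟨⟨u, hu⟩, hu', rfl⟩ := h1
      exact hu'
    have htS : t ∈ S := derSub_le S i htD
    have hsS : (s : G) ∈ S := derSub_le S i s.2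
    have hmem : (⟨t, htD⟩ : D)⁻¹ * s ∈ St.subgroupOf D := by
      refine ⟨mul_mem (inv_mem htS) hsS, ?_⟩
      show act (t⁻¹ * (s : G)) x = x
      rw [hmul _ (inv_mem htS) _ hsS, e, ← hmul _ (inv_mem htS) _ htS, inv_mul_cancel, hone]
    have := mul_mem (mem_sup_right (S := St.subgroupOf D) htF) (mem_sup_left (T := frattini D) hmem)
    rwa [mul_inv_cancel_left] at this)
  obtain ⟨s, hs, hne⟩ := hmove
  exact hne (subgroupOf_eq_top.1 htop hs).2

theorem exists_first_fix {X : Type w} (act : G → X → X) (S : Subgroup G) (x : X) {m : ℕ}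
    (hm : ∀ s ∈ derSub S m, act s x = x) :
    ∃ j ≤ m, (∀ s ∈ derSub S j, act s x = x) ∧ ∀ i < j, ∃ s ∈ derSub S i, act s x ≠ x := by
  classical
  refine ⟨Nat.find ⟨m, hm⟩, Nat.find_le hm, Nat.find_spec (p := fun j => ∀ s ∈ derSub S j, act s x = x) ⟨m, hm⟩,
    fun i hi => ?_⟩
  have := Nat.find_min ⟨m, hm⟩ hi
  push Not at this
  exact this

end derived

section products

variable {G : Type u} [Group G] {R : Type v} [Ring R] (ρ : G →* R) (S : Subgroup G)

/-- The products of differences along the derived series. -/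
def chainProd : ℕ → Set R
  | 0 => {1}
  | i + 1 => {r | ∃ s ∈ derSub S i, ∃ p ∈ chainProd i, r = (ρ s - 1) * p}

/-- All the products of a given length vanish. -/
def ChainZero (d : ℕ) : Prop := ∀ p ∈ chainProd ρ S d, p = 0

variable {ρ S}

theorem mem_chainProd_succ {i : ℕ} {s : G} (hs : s ∈ derSub S i) {p : R} (hp : p ∈ chainProd ρ S i) :
    (ρ s - 1) * p ∈ chainProd ρ S (i + 1) := ⟨s, hs, p, hp, rfl⟩

theorem chainProd_map {R' : Type w} [Ring R'] (Φ : R →+* R') :
    ∀ i, chainProd (Φ.toMonoidHom.comp ρ) S i = Φ '' chainProd ρ S i := by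
  intro i
  induction i with
  | zero => simp [chainProd]
  | succ i ih =>
    ext r
    constructor
    · rintro ⟨s, hs, p, hp, rfl⟩
      rw [ih] at hp
      obtain ⟨q, hq, rfl⟩ := hp
      exact ⟨_, mem_chainProd_succ hs hq, by simp⟩
    · rintro ⟨_, ⟨s, hs, p, hp, rfl⟩, rfl⟩
      exact ⟨s, hs, Φ p, by rw [ih]; exact Set.mem_image_of_mem _ hp, by simp⟩

theorem ChainZero.map {R' : Type w} [Ring R'] (Φ : R →+* R') {d : ℕ} (h : ChainZero ρ S d) :
    ChainZero (Φ.toMonoidHom.comp ρ) S d := by
  intro p hp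
  rw [chainProd_map] at hp
  obtain ⟨q, hq, rfl⟩ := hp
  rw [h q hq, map_zero]

/-- A tail after a product is a product. -/
theorem chainProd_tail (j : ℕ) : ∀ (n : ℕ), ∀ q ∈ chainProd ρ (derSub S j) n, ∀ p ∈ chainProd ρ S j,
    q * p ∈ chainProd ρ S (j + n) := by
  intro n
  induction n with
  | zero =>
    intro q hq p hp
    rw [show q = 1 from hq, one_mul]
    exact hp
  | succ n ih =>
    rintro q ⟨s, hs, q', hq', rfl⟩ p hp
    rw [derSub_add] at hs
    rw [mul_assoc]
    exact mem_chainProd_succ hs (ih q' hq' p hp)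

theorem chainProd_mono {T : Subgroup G} (h : T ≤ S) : ∀ i, chainProd ρ T i ⊆ chainProd ρ S i := by
  intro i
  induction i with
  | zero => exact subset_rfl
  | succ i ih =>
    rintro r ⟨s, hs, p, hp, rfl⟩
    exact mem_chainProd_succ (derSub_mono h i hs) (ih hp)

/-- Every difference of a member of the derived series is killed with the later terms. -/
theorem annihilates_range : ∀ (i : ℕ) (L : R), (∀ p ∈ chainProd ρ S i, L * p = 0) →
    ∀ s ∈ derSub S i, L * (ρ s - 1) = 0 := by
  intro i
  induction i with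
  | zero =>
    intro L hL s _
    rw [show L = 0 by simpa using hL 1 rfl, zero_mul]
  | succ i ih =>
    intro L hL s hs
    let Z : Subgroup G :=
      { carrier := {g | L * (ρ g - 1) = 0}
        one_mem' := by simp
        mul_mem' := fun {a b} (ha : L * (ρ a - 1) = 0) (hb : L * (ρ b - 1) = 0) => by
          show L * (ρ (a * b) - 1) = 0
          rw [map_mul, show ρ a * ρ b - 1 = (ρ a - 1) * ρ b + (ρ b - 1) by noncomm_ring, mul_add, hb, add_zero,
            ← mul_assoc, ha, zero_mul]
        inv_mem' := fun {a} (ha : L * (ρ a - 1) = 0) => by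
          show L * (ρ a⁻¹ - 1) = 0
          rw [show ρ a⁻¹ - 1 = -((ρ a - 1) * ρ a⁻¹) by rw [sub_mul, ← map_mul, mul_inv_cancel, map_one]; simp,
            mul_neg, ← mul_assoc, ha, zero_mul, neg_zero] }
    have hle : derSub S (i + 1) ≤ Z := by
      rw [derSub_succ, commutator_le]
      intro a ha b hb
      show L * (ρ ⁅a, b⁆ - 1) = 0
      have key : ∀ c ∈ derSub S i, ∀ d ∈ derSub S i, L * (ρ c - 1) * (ρ d - 1) = 0 := fun c hc d hd =>
        ih (L * (ρ c - 1)) (fun p hp => by rw [mul_assoc]; exact hL _ (mem_chainProd_succ hc hp)) d hd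
      have e : ρ ⁅a, b⁆ - 1 = ((ρ a - 1) * (ρ b - 1) - (ρ b - 1) * (ρ a - 1)) * ρ (b * a)⁻¹ := by
        rw [show (ρ a - 1) * (ρ b - 1) - (ρ b - 1) * (ρ a - 1) = ρ a * ρ b - ρ b * ρ a by noncomm_ring, sub_mul,
          ← map_mul, ← map_mul, ← map_mul, ← map_mul, mul_inv_cancel, map_one]
        congr 2
        simp only [commutatorElement_def]; group
      rw [e, ← mul_assoc, mul_sub, ← mul_assoc, ← mul_assoc, key a ha b hb, key b hb a ha, sub_zero, zero_mul]
    exact hle hs

end products

section isolation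

variable {G : Type u} [Group G] [Finite G] {K : Type v} [Field K] [CharP K 2] {V : Type w} [AddCommGroup V]
  [Module K V]

theorem neg_vec_eq_self (K : Type v) [Field K] [CharP K 2] {V : Type w} [AddCommGroup V] [Module K V] (v : V) :
    -v = v := by
  rw [← neg_one_smul K v, show (-1 : K) = 1 from CharTwo.neg_eq 1, one_smul]

/-- When the groups move a point, some product sends a vector at the point to itself plus vectors at
other points. -/
theorem exists_isolating {p : ℕ} [Fact p.Prime] {X : Type*} (act : G → X → X) (hone : ∀ x, act 1 x = x)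
    (ρ : G →* Module.End K V) (U : X → Submodule K V) (S : Subgroup G)
    (hmul : ∀ a ∈ S, ∀ b ∈ S, ∀ x, act (a * b) x = act a (act b x)) (hS : IsPGroup p S) (hU : ∀ g ∈ S, ∀ x, ∀ v ∈ U x, ρ g v ∈ U (act g x)) (x : X) :
    ∀ m, (∀ i < m, ∃ s ∈ derSub S i, act s x ≠ x) →
      ∃ q ∈ chainProd ρ S m, ∀ v ∈ U x, q v - v ∈ ⨆ (y) (_ : ∀ t ∈ derSub S m, act t x ≠ y), U y := by
  intro m
  induction m with
  | zero => exact fun _ => ⟨1, rfl, fun v _ => by simp⟩
  | succ m ih =>
    intro hmove
    obtain ⟨q, hq, hqv⟩ := ih fun i hi => hmove i (hi.trans m.lt_succ_self)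
    obtain ⟨s, hs, hsx⟩ := exists_moved_out act hone S hmul hS m x (hmove m m.lt_succ_self)
    refine ⟨(ρ s - 1) * q, mem_chainProd_succ hs hq, fun v hv => ?_⟩
    set W := ⨆ (y) (_ : ∀ t ∈ derSub S (m + 1), act t x ≠ y), U y with hW
    have hsS : s ∈ S := derSub_le S m hs
    have h1 : ρ s v ∈ W :=
      Submodule.mem_iSup_of_mem (act s x) (Submodule.mem_iSup_of_mem (fun t ht e => hsx t ht e.symm) (hU s hsS x v hv))
    have h2 : (⨆ (y) (_ : ∀ t ∈ derSub S m, act t x ≠ y), U y) ≤ W ⊓ W.comap (ρ s) := by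
      refine iSup₂_le fun y hy => le_inf (le_iSup₂_of_le y (fun t ht => hy t (derSub_succ_le S m ht)) le_rfl) ?_
      intro w hw
      refine Submodule.mem_iSup_of_mem (act s y) (Submodule.mem_iSup_of_mem (fun t ht e => ?_) (hU s hsS y w hw))
      refine hy (s⁻¹ * t) (mul_mem (inv_mem hs) (derSub_succ_le S m ht)) ?_
      have htS : t ∈ S := derSub_le S _ ht
      rw [hmul _ (inv_mem hsS) _ htS, e, ← hmul _ (inv_mem hsS) _ hsS, inv_mul_cancel, hone]
    have h3 : ((ρ s - 1) * q) v - v = ρ s v + ((ρ s) (q v - v) - (q v - v)) := by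
      simp only [Module.End.mul_apply, LinearMap.sub_apply, Module.End.one_apply, map_sub]
      have hh : v + v = 0 := by
        nth_rw 1 [← neg_vec_eq_self K v]; exact neg_add_cancel v
      linear_combination (norm := module) (-1 : ℤ) • hh
    rw [h3]
    obtain ⟨h4, h5⟩ := h2 (hqv v hv)
    exact add_mem h1 (sub_mem h5 h4)

end isolation

end Cfsg.Lib.TwoLength
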