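import Cfsg.Agent.TwoLength.DerivedLength.Chain

/-!
Isolation with a bounded support, the vector form of the annihilation along the derived series, and a class
fixed by conjugation.
-/

set_option linter.style.haveILetI false
set_option linter.unusedSectionVars false

namespace Cfsg.Lib.TwoLength

open Subgroup
open scoped commutatorElement

universe u v w z

variable {G : Type u} [Group G] {K : Type v} [Field K] {V : Type w} [AddCommGroup V] [Module K V]

/-- An isolating product whose other points are few. -/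
theorem exists_isolating_small [Finite G] [CharP K 2] {p : ℕ} [Fact p.Prime] {X : Type z} [DecidableEq X]
    (act : G → X → X) (hone : ∀ x, act 1 x = x) (ρ : G →* Module.End K V) (U : X → Submodule K V) (S : Subgroup G)
    (hmul : ∀ a ∈ S, ∀ b ∈ S, ∀ x, act (a * b) x = act a (act b x)) (hS : IsPGroup p S)
    (hU : ∀ g ∈ S, ∀ x, ∀ v ∈ U x, ρ g v ∈ U (act g x)) (x : X) :
    ∀ m, (∀ i < m, ∃ s ∈ derSub S i, act s x ≠ x) →
      ∃ q ∈ chainProd ρ S m, ∃ Y : Finset X, Y.card + 1 ≤ 2 ^ m ∧ (∀ y ∈ Y, ∀ t ∈ derSub S m, act t x ≠ y) ∧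
        ∀ v ∈ U x, q v - v ∈ ⨆ y ∈ Y, U y := by
  intro m
  induction m with
  | zero => exact fun _ => ⟨1, rfl, ∅, by simp, by simp, fun v _ => by simp⟩
  | succ m ih =>
    intro hmove
    obtain ⟨q, hq, Y, hYc, hY, hqv⟩ := ih fun i hi => hmove i (hi.trans m.lt_succ_self)
    obtain ⟨s, hs, hsx⟩ := exists_moved_out act hone S hmul hS m x (hmove m m.lt_succ_self)
    have hsS : s ∈ S := derSub_le S m hs
    set Y' := insert (act s x) (Y ∪ Y.image (act s)) with hY'
    refine ⟨(ρ s - 1) * q, mem_chainProd_succ hs hq, Y', ?_, ?_, fun v hv => ?_⟩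
    · have h1 := Finset.card_insert_le (act s x) (Y ∪ Y.image (act s))
      have h2 := Finset.card_union_le Y (Y.image (act s))
      have h3 := Finset.card_image_le (s := Y) (f := act s)
      rw [hY', pow_succ]
      omega
    · intro y hy t ht
      rw [hY'] at hy
      rcases Finset.mem_insert.1 hy with rfl | hy
      · exact fun e => hsx t ht e.symm
      rcases Finset.mem_union.1 hy with hy | hy
      · exact hY y hy t (derSub_succ_le S m ht)
      obtain ⟨y', hy', rfl⟩ := Finset.mem_image.1 hy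
      intro e
      refine hY y' hy' (s⁻¹ * t) (mul_mem (inv_mem hs) (derSub_succ_le S m ht)) ?_
      rw [hmul _ (inv_mem hsS) _ (derSub_le S _ ht), e, ← hmul _ (inv_mem hsS) _ hsS, inv_mul_cancel, hone]
    set W := ⨆ y ∈ Y', U y with hW
    have h1 : ρ s v ∈ W := Submodule.mem_iSup_of_mem (act s x)
      (Submodule.mem_iSup_of_mem (by rw [hY']; exact Finset.mem_insert_self _ _) (hU s hsS x v hv))
    have h2 : (⨆ y ∈ Y, U y) ≤ W ⊓ W.comap (ρ s) := by
      refine iSup₂_le fun y hy => le_inf (le_iSup₂_of_le (f := fun y (_ : y ∈ Y') => U y) y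
        (by rw [hY']; exact Finset.mem_insert_of_mem (Finset.mem_union_left _ hy)) le_rfl) ?_
      intro w hw
      exact Submodule.mem_iSup_of_mem (act s y) (Submodule.mem_iSup_of_mem
        (by rw [hY']; exact Finset.mem_insert_of_mem (Finset.mem_union_right _ (Finset.mem_image_of_mem _ hy)))
        (hU s hsS y w hw))
    have h3 : ((ρ s - 1) * q) v - v = ρ s v + ((ρ s) (q v - v) - (q v - v)) := by
      simp only [Module.End.mul_apply, LinearMap.sub_apply, Module.End.one_apply, map_sub]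
      have hh : v + v = 0 := by
        nth_rw 1 [← neg_vec_eq_self K v]; exact neg_add_cancel v
      linear_combination (norm := module) (-1 : ℤ) • hh
    rw [h3]
    obtain ⟨h4, h5⟩ := h2 (hqv v hv)
    exact add_mem h1 (sub_mem h5 h4)

/-- What the products along the derived series of the derived group do to differences of a vector. -/
theorem annihilates_vec {ρ : G →* Module.End K V} {S : Subgroup G} (v : V) :
    ∀ (m : ℕ) (ψ : V →ₗ[K] K),
      (∀ q ∈ chainProd ρ (derSub S 1) m, ∀ t ∈ derSub S 1, ψ (q ((ρ t - 1) v)) = 0) →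
      ∀ s ∈ derSub S (m + 1), ψ ((ρ s - 1) v) = 0 := by
  intro m
  induction m with
  | zero => exact fun ψ h s hs => by simpa using h 1 rfl s hs
  | succ m ih =>
    intro ψ h
    have key : ∀ a ∈ derSub S (m + 1), ∀ b ∈ derSub S (m + 1), ψ (((ρ a - 1) * (ρ b - 1)) v) = 0 := by
      intro a ha b hb
      refine ih (ψ ∘ₗ (ρ a - 1)) (fun q hq t ht => ?_) b hb
      exact h _ (mem_chainProd_succ (S := derSub S 1) (s := a) (by rw [derSub_add, add_comm]; exact ha) hq) t ht
    let Z : Subgroup G :=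
      { carrier := {g | g ∈ derSub S (m + 1) ∧ ψ ((ρ g - 1) v) = 0}
        one_mem' := ⟨one_mem _, by simp⟩
        mul_mem' := fun {a b} ha hb => ⟨mul_mem ha.1 hb.1, by
          rw [map_mul, show ρ a * ρ b - 1 = (ρ a - 1) + (ρ b - 1) + (ρ a - 1) * (ρ b - 1) by noncomm_ring,
            LinearMap.add_apply, LinearMap.add_apply, map_add, map_add, ha.2, hb.2, key a ha.1 b hb.1]
          simp⟩
        inv_mem' := fun {a} ha => ⟨inv_mem ha.1, by
          have h1 := key a⁻¹ (inv_mem ha.1) a ha.1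
          have e : (ρ a⁻¹ - 1) * (ρ a - 1) = -(ρ a⁻¹ - 1) - (ρ a - 1) := by
            simp only [sub_mul, mul_sub, mul_one, one_mul]
            rw [← map_mul, inv_mul_cancel, map_one]; abel
          rw [e, LinearMap.sub_apply, LinearMap.neg_apply, map_sub, map_neg, ha.2, sub_zero, neg_eq_zero] at h1
          exact h1⟩ }
    suffices hle : derSub S (m + 1 + 1) ≤ Z from fun s hs => (hle hs).2
    rw [derSub_succ, commutator_le]
    intro a ha b hb
    have hc : ⁅a, b⁆ ∈ derSub S (m + 1) := commutator_le_self _ (commutator_mem_commutator ha hb)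
    refine ⟨hc, ?_⟩
    have e : (ρ a - 1) * (ρ b - 1) - (ρ b - 1) * (ρ a - 1) =
        (ρ ⁅a, b⁆ - 1) + (ρ ⁅a, b⁆ - 1) * (ρ (b * a) - 1) := by
      have e1 : ρ a * ρ b = ρ ⁅a, b⁆ * ρ (b * a) := by
        rw [← map_mul, ← map_mul]; congr 1; simp only [commutatorElement_def]; group
      rw [show (ρ a - 1) * (ρ b - 1) - (ρ b - 1) * (ρ a - 1) = ρ a * ρ b - ρ b * ρ a by noncomm_ring, e1,
        ← map_mul ρ b a]
      noncomm_ring
    have h1 := congrArg (fun X : Module.End K V => ψ (X v)) e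
    simp only [LinearMap.sub_apply, LinearMap.add_apply, map_sub, map_add, key a ha b hb, key b hb a ha,
      key _ hc _ (mul_mem hb ha), sub_self, add_zero] at h1
    rw [LinearMap.sub_apply, map_sub]
    simpa using h1.symm

/-- A class outside a normal subgroup fixed by conjugation. -/
theorem exists_fixed_class [Finite G] {S N N₀ : Subgroup G} (hS : IsPGroup 2 S) (hN : N ≤ S) (h0 : N₀ ≤ N)
    (hNn : ∀ g ∈ S, ∀ x ∈ N, g * x * g⁻¹ ∈ N) (hN₀n : ∀ g ∈ S, ∀ x ∈ N₀, g * x * g⁻¹ ∈ N₀) (hne : ¬ N ≤ N₀) :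
    ∃ x ∈ N, x ∉ N₀ ∧ ∀ g ∈ S, g * x * g⁻¹ * x⁻¹ ∈ N₀ := by
  haveI : Fact (Nat.Prime 2) := ⟨Nat.prime_two⟩
  haveI : (N₀.subgroupOf S).Normal := ⟨fun x hx g => hN₀n g g.2 x hx⟩
  haveI : (N.subgroupOf S).Normal := ⟨fun x hx g => hNn g g.2 x hx⟩
  let π := QuotientGroup.mk' (N₀.subgroupOf S)
  haveI : ((N.subgroupOf S).map π).Normal := Subgroup.Normal.map inferInstance π (QuotientGroup.mk'_surjective _)
  have hbot : (N.subgroupOf S).map π ≠ ⊥ := fun h => hne fun x hx => by
    have h1 : π ⟨x, hN hx⟩ ∈ (N.subgroupOf S).map π := mem_map_of_mem _ (mem_subgroupOf.2 hx)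
    rw [h, mem_bot] at h1
    exact mem_subgroupOf.1 ((QuotientGroup.eq_one_iff _).1 h1)
  obtain ⟨c, ⟨x, hx, rfl⟩, hc, ho⟩ := Cfsg.Lib.PGroups.exists_mem_center_of_normal_ne_bot (hS.to_quotient _) hbot
  refine ⟨x, mem_subgroupOf.1 hx, fun h => ?_, fun g hg => ?_⟩
  · rw [show π x = 1 from (QuotientGroup.eq_one_iff _).2 (mem_subgroupOf.2 h), orderOf_one] at ho
    norm_num at ho
  · have h := mem_center_iff.1 hc (π ⟨g, hg⟩)
    have h1 : π (⟨g, hg⟩ * x * (⟨g, hg⟩ : S)⁻¹ * x⁻¹) = 1 := by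
      rw [map_mul, map_mul, map_mul, map_inv, map_inv, h, mul_inv_cancel_right, mul_inv_cancel]
    exact mem_subgroupOf.1 ((QuotientGroup.eq_one_iff _).1 h1)

end Cfsg.Lib.TwoLength
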