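import Cfsg.Agent.TwoLength.DerivedLength.Core
import Cfsg.Agent.TwoLength.Bryukhanova.Faithful

/-!
At the end of a chain that kills the module, the derived group centralizes the abelian normal subgroups of odd
order, and at each character of a group of class two a commutator agrees with one or with a square.
-/

set_option linter.style.haveILetI false
set_option linter.unusedSectionVars false

namespace Cfsg.Lib.TwoLength

open Module Subgroup Cfsg.Lib.HallHigman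
open scoped commutatorElement

universe u v w

variable {K : Type u} [Field K] [IsAlgClosed K] [CharP K 2] {V : Type v} [AddCommGroup V] [Module K V]
  [FiniteDimensional K V] {H : Type w} [Group H] [Finite H]

/-- A chain that kills an invariant subspace fixes a character by some derived group and then kills its
eigenspace with the tail. -/
theorem stage (ρ : H →* Module.End K V) (S : Subgroup H) (hS : IsPGroup 2 S) (R : Subgroup H)
    (hR : Odd (Nat.card R)) (hSR : S ≤ normalizer (R : Set H)) (W : Submodule K V)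
    (hW : ∀ s ∈ S, ∀ w ∈ W, ρ s w ∈ W) (f : R →* Kˣ) (hf : W ⊓ SymData.wt (ρ := ρ) R f ≠ ⊥) {d : ℕ}
    (hd : ∀ p ∈ chainProd ρ S d, ∀ w ∈ W, p w = 0) :
    ∃ j, j < d ∧ (∀ s ∈ derSub S j, ∀ r r' : R, (r' : H) = s * r * s⁻¹ → f r' = f r) ∧
      ∀ p ∈ chainProd ρ (derSub S j) (d - j), ∀ w ∈ W ⊓ SymData.wt (ρ := ρ) R f, p w = 0 := by
  classical
  haveI : Fact (Nat.Prime 2) := ⟨Nat.prime_two⟩
  have hconj : ∀ g ∈ S, ∀ r : R, g⁻¹ * (r : H) * g ∈ R := fun g hg r => by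
    simpa using (mem_normalizer_iff.1 (hSR (inv_mem hg)) r).1 r.2
  let tw : H → (R →* Kˣ) → (R →* Kˣ) := fun g x =>
    if hg : g ∈ S then MonoidHom.mk' (fun r => x ⟨_, hconj g hg r⟩) fun a b => by
      rw [← map_mul]; congr 1; exact Subtype.ext (by simp [mul_assoc]) else x
  have htw : ∀ g, ∀ hg : g ∈ S, ∀ x r, tw g x r = x ⟨_, hconj g hg r⟩ := fun g hg x r => by simp [tw, hg]
  have hone : ∀ x, tw 1 x = x := fun x => MonoidHom.ext fun r => by
    rw [htw 1 (one_mem _)]; congr 1; exact Subtype.ext (by simp)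
  have hmul : ∀ a ∈ S, ∀ b ∈ S, ∀ x, tw (a * b) x = tw a (tw b x) := fun a ha b hb x => MonoidHom.ext fun r => by
    rw [htw _ (mul_mem ha hb), htw a ha, htw b hb]; congr 1; exact Subtype.ext (by simp [mul_assoc])
  let O : Set (R →* Kˣ) := {x | ∃ s ∈ S, tw s f = x}
  let Us : (R →* Kˣ) → Submodule K V := fun x => if x ∈ O then W ⊓ SymData.wt (ρ := ρ) R x else ⊥
  have hfO : f ∈ O := ⟨1, one_mem _, hone f⟩
  have hUs : ∀ x, Us x ≤ SymData.wt (ρ := ρ) R x := fun x => by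
    simp only [Us]; split_ifs
    · exact inf_le_right
    · exact bot_le
  have hU : ∀ g ∈ S, ∀ x, ∀ v ∈ Us x, ρ g v ∈ Us (tw g x) := by
    intro g hg x v hv
    by_cases hx : x ∈ O
    · have hgx : tw g x ∈ O := by
        obtain ⟨s, hs, rfl⟩ := hx
        exact ⟨g * s, mul_mem hg hs, hmul g hg s hs f⟩
      simp only [Us, if_pos hx] at hv
      simp only [Us, if_pos hgx]
      refine ⟨hW g hg v hv.1, SymData.mem_wt.2 fun r => ?_⟩
      rw [htw g hg, ← map_smul, ← SymData.mem_wt.1 hv.2 ⟨_, hconj g hg r⟩, ← Module.End.mul_apply,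
        ← Module.End.mul_apply, ← map_mul, ← map_mul]
      congr 2
      show (r : H) * g = g * (g⁻¹ * r * g)
      group
    · simp only [Us, if_neg hx, Submodule.mem_bot] at hv
      rw [hv, map_zero]
      exact zero_mem _
  have hUf : Us f = W ⊓ SymData.wt (ρ := ρ) R f := if_pos hfO
  -- some derived group fixes the character
  have hex : ∃ j < d, ∀ s ∈ derSub S j, tw s f = f := by
    by_contra hh
    push Not at hh
    obtain ⟨q, hq, hqv⟩ := exists_isolating (p := 2) tw hone ρ Us S hmul hS hU f d hh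
    obtain ⟨v, hv, hv0⟩ := Submodule.exists_mem_ne_zero_of_ne_bot hf
    refine hv0 (SymData.eq_zero_of_wt hR hv.2 ?_)
    have h := hqv v (hUf ▸ hv)
    rw [hd q hq v hv.1, zero_sub, neg_mem_iff] at h
    refine (iSup₂_le fun x hx => ?_ : (⨆ (x) (_ : ∀ t ∈ derSub S d, tw t f ≠ x), Us x) ≤
      ⨆ (x : R →* Kˣ) (_ : x ≠ f), SymData.wt (ρ := ρ) R x) h
    exact le_trans (hUs x) (le_iSup₂_of_le (f := fun x (_ : x ≠ f) => SymData.wt (ρ := ρ) R x) x
      (fun e => hx 1 (one_mem _) (by rw [hone]; exact e.symm)) le_rfl)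
  obtain ⟨j₁, hj₁, hfix₁⟩ := hex
  obtain ⟨j, hj, hfix, hmove⟩ := exists_first_fix tw S f (m := j₁) hfix₁
  refine ⟨j, lt_of_le_of_lt hj hj₁, fun s hs r r' e => ?_, fun p hp w hw => ?_⟩
  · have h := DFunLike.congr_fun (hfix s hs) r'
    rw [htw s (derSub_le _ _ hs)] at h
    rw [← h]
    congr 1
    refine Subtype.ext ?_
    simp [e]
    try group
  obtain ⟨q, hq, hqv⟩ := exists_isolating (p := 2) tw hone ρ Us S hmul hS hU f j hmove
  -- the tail keeps every point of the orbit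
  have hkeep : ∀ x, ∀ s ∈ derSub S j, ∀ v ∈ Us x, ρ s v ∈ Us x := by
    intro x s hs v hv
    by_cases hx : x ∈ O
    · have hfx : tw s x = x := by
        obtain ⟨g, hg, rfl⟩ := hx
        have hsS := derSub_le _ _ hs
        have hs' : g⁻¹ * s * g ∈ derSub S j := by simpa using derSub_conj (inv_mem hg) hs
        rw [← hmul s hsS g hg, show s * g = g * (g⁻¹ * s * g) by group, hmul g hg _ (derSub_le _ _ hs'), hfix _ hs']
      exact hfx ▸ hU s (derSub_le _ _ hs) x v hv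
    · simp only [Us, if_neg hx, Submodule.mem_bot] at hv ⊢
      rw [hv, map_zero]
  have hpkeep : ∀ n, ∀ p ∈ chainProd ρ (derSub S j) n, ∀ x, ∀ v ∈ Us x, p v ∈ Us x := by
    intro n
    induction n with
    | zero => intro p hp x v hv; rw [show p = 1 from hp]; exact hv
    | succ n ih =>
      rintro p ⟨s, hs, p', hp', rfl⟩ x v hv
      rw [Module.End.mul_apply, LinearMap.sub_apply, Module.End.one_apply]
      exact sub_mem (hkeep x s (derSub_le _ _ hs) _ (ih p' hp' x v hv)) (ih p' hp' x v hv)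
  have h0 := hd (p * q) (by
    have := chainProd_tail j (d - j) p hp q hq
    rwa [Nat.add_sub_cancel' (le_trans hj hj₁.le)] at this) w hw.1
  rw [Module.End.mul_apply] at h0
  have h1 : p (q w - w) ∈ ⨆ (x : R →* Kˣ) (_ : x ≠ f), SymData.wt (ρ := ρ) R x := by
    refine (iSup₂_le fun x hx v hv => ?_ : (⨆ (x) (_ : ∀ t ∈ derSub S j, tw t f ≠ x), Us x) ≤
      (⨆ (x : R →* Kˣ) (_ : x ≠ f), SymData.wt (ρ := ρ) R x).comap p) (hqv w (hUf ▸ hw))
    exact Submodule.mem_iSup_of_mem x (Submodule.mem_iSup_of_mem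
      (fun e => hx 1 (one_mem _) (by rw [hone]; exact e.symm)) (hUs x (hpkeep _ p hp x v hv)))
  rw [map_sub, h0, zero_sub, neg_mem_iff] at h1
  exact SymData.eq_zero_of_wt hR (hUs f (hpkeep _ p hp f w (hUf ▸ hw))) h1

/-- The last derived group centralizes the abelian normal subgroups of odd prime power order. -/
theorem derSub_le_normFix (ρ : H →* Module.End K V) (hρ : Function.Injective ρ) (S : Subgroup H) (hS : IsPGroup 2 S)
    (k : ℕ) (hzero : ChainZero ρ S (k + 2)) : derSub S (k + 1) ≤ normFix H := by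
  intro s hs q A hq hq2 hA hAn hAc a ha
  haveI := Fact.mk hq
  have hodd : Odd (Nat.card A) := by
    obtain ⟨m, hm⟩ := IsPGroup.iff_card.1 hA
    rw [hm]
    exact (hq.odd_of_ne_two hq2).pow
  have hAK : ((Nat.card A : ℕ) : K) ≠ 0 := by
    obtain ⟨j, hj⟩ := hodd
    rw [hj, Nat.cast_add, Nat.cast_mul, CharP.cast_eq_zero K 2, zero_mul, zero_add, Nat.cast_one]
    exact one_ne_zero
  have hspan := common_eigen_span (Z := A) (fun x y => Subtype.ext (hAc x x.2 y y.2)) hAK (ρ.comp A.subtype)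
  have hsa : s * a * s⁻¹ ∈ A := hAn.conj_mem a ha s
  suffices h : s * a * s⁻¹ = a by
    exact (mul_inv_eq_iff_eq_mul.1 h).symm
  refine hρ (LinearMap.ext_on hspan fun v hv => ?_)
  by_cases hv0 : v = 0
  · rw [hv0, map_zero, map_zero]
  choose f hf using hv
  have hf' : ∀ r : A, ρ (r : H) v = f r • v := hf
  have hmul : ∀ x y : A, f (x * y) = f x * f y := fun x y => smul_left_injective K hv0 (by
    show f (x * y) • v = (f x * f y) • v
    rw [← hf', Subgroup.coe_mul, map_mul, Module.End.mul_apply, hf', map_smul, hf', smul_smul, mul_comm])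
  have hone : f 1 = 1 := smul_left_injective K hv0 (by
    show f 1 • v = (1 : K) • v
    rw [← hf', OneMemClass.coe_one, map_one, Module.End.one_apply, one_smul])
  let χ : A →* Kˣ := MonoidHom.toHomUnits ⟨⟨f, hone⟩, hmul⟩
  have hvχ : v ∈ SymData.wt (ρ := ρ) A χ := SymData.mem_wt.2 hf'
  obtain ⟨j, hj, hfix, -⟩ := stage ρ S hS A hodd (by rw [normalizer_eq_top_iff.2 hAn]; exact le_top) ⊤
    (fun _ _ _ _ => trivial) χ (by
      rw [top_inf_eq, Submodule.ne_bot_iff]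
      exact ⟨v, hvχ, hv0⟩) (d := k + 2) fun p hp w _ => by rw [hzero p hp, LinearMap.zero_apply]
  have h := hfix s (derSub_antitone S (by omega) hs) ⟨a, ha⟩ ⟨_, hsa⟩ rfl
  have h2 : f ⟨_, hsa⟩ = f ⟨a, ha⟩ := congrArg Units.val h
  rw [show ρ (s * a * s⁻¹) v = f ⟨_, hsa⟩ • v from hf' ⟨_, hsa⟩, h2]
  exact (hf' ⟨a, ha⟩).symm

variable {q : ℕ} [Fact q.Prime] {Q : Subgroup H} [Fact (ClassTwo Q)]

/-- A commutator of the penultimate derived group agrees with one or with a square at a character. -/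
theorem char_commutator (hq2 : q ≠ 2) [hQn : Q.Normal] (hQ : IsPGroup q Q) (ρ : H →* Module.End K V) (S : Subgroup H)
    (hS : IsPGroup 2 S) (k : ℕ) (hzero : ChainZero ρ S (k + 2)) {e x : H} (he : e ∈ derSub S k)
    (hx : x ∈ derSub S k) (χ : cenIn Q →* Kˣ) (v : V) (hv0 : v ≠ 0) (hv : v ∈ charSpace ρ χ) :
    ∃ f ∈ zpowers (e ^ 2), ∀ hm : ⁅e, x⁆ * f⁻¹ ∈ stabChar χ, actQuot χ ⟨_, hm⟩ = 1 := by
  classical
  haveI : Fact (Nat.Prime 2) := ⟨Nat.prime_two⟩
  have hQodd : Odd (Nat.card Q) := by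
    obtain ⟨m, hm⟩ := IsPGroup.iff_card.1 hQ
    rw [hm]
    exact ((Fact.out : q.Prime).odd_of_ne_two hq2).pow
  have hN : ∀ h : H, h ∈ normalizer (Q : Set H) := fun h => by rw [normalizer_eq_top_iff.2 hQn]; exact mem_top h
  have hcn : (cenIn Q).Normal := cenIn_normal Q
  have hU : charSpace ρ χ = SymData.wt (ρ := ρ) (cenIn Q) χ := rfl
  obtain ⟨j₀, hj₀, hfix₀, hzero₀⟩ := stage ρ S hS (cenIn Q) (hQodd.of_dvd_nat (card_dvd_of_le inf_le_left))
    (by rw [normalizer_eq_top_iff.2 hcn]; exact le_top) ⊤ (fun _ _ _ _ => trivial) χ (by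
      rw [top_inf_eq, Submodule.ne_bot_iff]
      exact ⟨v, hv, hv0⟩) (d := k + 2) fun p hp w _ => by rw [hzero p hp, LinearMap.zero_apply]
  rw [top_inf_eq, ← hU] at hzero₀
  set S₀ := derSub S j₀ with hS₀
  have hstab₀ : ∀ s ∈ S₀, s ∈ stabChar χ := fun s hs =>
    (mem_stabChar χ).2 ⟨hN s, fun z => hfix₀ s hs z ⟨_, cen_conj (hN s) z.2⟩ rfl⟩
  have hS₀inv : ∀ s ∈ S₀, ∀ w ∈ charSpace ρ χ, ρ s w ∈ charSpace ρ χ := by
    intro s hs w hw
    refine mem_charSpace.2 fun z => ?_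
    have hz : s⁻¹ * (z : H) * s ∈ cenIn Q := by simpa using hcn.conj_mem _ z.2 s⁻¹
    have h2 := hfix₀ s hs ⟨_, hz⟩ z (by group)
    calc ρ (z : H) (ρ s w) = ρ s (ρ (s⁻¹ * z * s) w) := by
          rw [← Module.End.mul_apply, ← map_mul, ← Module.End.mul_apply, ← map_mul]
          congr 2
          group
      _ = (χ z : K) • ρ s w := by rw [mem_charSpace.1 hw ⟨_, hz⟩, map_smul, h2]
  -- commutation on the eigenspace
  have hcom : ∀ a b : Q, ∀ w ∈ charSpace ρ χ,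
      ρ (a : H) (ρ (b : H) w) = ((comVal χ a b : Kˣ) : K) • ρ (b : H) (ρ (a : H) w) := by
    intro a b w hw
    have hc : ⁅(a : H), (b : H)⁆ ∈ cenIn Q := (Fact.out : ClassTwo Q) a a.2 b b.2
    have hw' : ρ ((b : H) * a) w ∈ charSpace ρ χ := by
      refine mem_charSpace.2 fun z => ?_
      rw [← Module.End.mul_apply, ← map_mul, ← cen_comm z.2 (mul_mem b.2 a.2), map_mul, Module.End.mul_apply,
        mem_charSpace.1 hw z, map_smul]
    have h := mem_charSpace.1 hw' ⟨_, hc⟩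
    rw [← Module.End.mul_apply, ← map_mul] at h
    rw [← Module.End.mul_apply, ← map_mul, ← Module.End.mul_apply (ρ (b : H)), ← map_mul]
    refine Eq.trans ?_ h
    congr 2
    simp only [commutatorElement_def]; group
  have hQinv : ∀ a : Q, ∀ w ∈ charSpace ρ χ, ρ (a : H) w ∈ charSpace ρ χ := by
    intro a w hw
    refine mem_charSpace.2 fun z => ?_
    rw [← Module.End.mul_apply, ← map_mul, ← cen_comm z.2 a.2, map_mul, Module.End.mul_apply, mem_charSpace.1 hw z,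
      map_smul]
  -- the radical
  set R := (pairing χ).ker.map Q.subtype with hR
  have hRQ : R ≤ Q := map_subtype_le _
  have hRodd : Odd (Nat.card R) := hQodd.of_dvd_nat (card_dvd_of_le hRQ)
  have hSR : S₀ ≤ normalizer (R : Set H) := fun s hs => mem_normalizer_of_conj_le fun r hr => by
    obtain ⟨r, hr, rfl⟩ := hr
    refine ⟨stabConj χ ⟨s, hstab₀ s hs⟩ r, ?_, rfl⟩
    rw [← map_radical χ ⟨s, hstab₀ s hs⟩]
    exact mem_map_of_mem _ hr
  have hRrad : ∀ r : R, (⟨r, hRQ r.2⟩ : Q) ∈ (pairing χ).ker := fun r => by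
    obtain ⟨x, hx, e⟩ := r.2
    rwa [show (⟨r, hRQ r.2⟩ : Q) = x from Subtype.ext e.symm]
  have hRcomm : ∀ (r : R) (b : Q), ∀ w ∈ charSpace ρ χ, ρ (r : H) (ρ (b : H) w) = ρ (b : H) (ρ (r : H) w) := by
    intro r b w hw
    have h := hcom ⟨r, hRQ r.2⟩ b w hw
    rwa [(mem_radical χ).1 (hRrad r) b, Units.val_one, one_smul] at h
  obtain ⟨f, w₀, hw₀, hw₀U, hw₀f⟩ : ∃ (f : R →* Kˣ) (w : V), w ≠ 0 ∧ w ∈ charSpace ρ χ ∧
      w ∈ SymData.wt (ρ := ρ) R f := by
    have hinv : ∀ r : R, ∀ w ∈ charSpace ρ χ, ρ (r : H) w ∈ charSpace ρ χ := fun r => hQinv ⟨r, hRQ r.2⟩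
    haveI : Nontrivial (charSpace ρ χ) :=
      (Submodule.nontrivial_iff_ne_bot).2 ((Submodule.ne_bot_iff _).2 ⟨v, hv, hv0⟩)
    obtain ⟨f, w, hw0, -, hw⟩ := SymData.exists_wt (ρ := restrictRep (ρ.comp R.subtype) (charSpace ρ χ) hinv)
      (R := (⊤ : Subgroup R)) (by rw [Subgroup.card_top]; exact hRodd)
      (fun a b => LinearMap.ext fun w => Subtype.ext (hRcomm (a : R) ⟨(b : R), hRQ (b : R).2⟩ w w.2))
      (W := ⊤) (fun _ _ _ => trivial) top_ne_bot
    refine ⟨f.comp (Subgroup.topEquiv (G := R)).symm.toMonoidHom, w, fun h => hw0 (Subtype.ext h), w.2,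
      SymData.mem_wt.2 fun r => ?_⟩
    exact congrArg Subtype.val (SymData.mem_wt.1 hw ⟨r, mem_top r⟩)
  obtain ⟨j₁, hj₁, hfix₁, hzero₁⟩ := stage ρ S₀ (hS.to_le (derSub_le _ _)) R hRodd hSR (charSpace ρ χ) hS₀inv f
    ((Submodule.ne_bot_iff _).2 ⟨w₀, ⟨hw₀U, hw₀f⟩, hw₀⟩) (d := k + 2 - j₀) hzero₀
  set j := j₀ + j₁ with hjdef
  have hjd : j ≤ k + 1 := by omega
  set T := derSub S j with hT
  have hTS₀ : T = derSub S₀ j₁ := by rw [hS₀, derSub_add]
  set U₂ := charSpace ρ χ ⊓ SymData.wt (ρ := ρ) R f with hU₂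
  have hTstab : T ≤ stabChar χ := fun t ht => hstab₀ t (by rw [hTS₀] at ht; exact derSub_le _ _ ht)
  have hTf : ∀ t ∈ T, ∀ r r' : R, (r' : H) = t * r * t⁻¹ → f r' = f r := fun t ht => hfix₁ t (hTS₀ ▸ ht)
  have hTinv : ∀ t ∈ T, ∀ w ∈ U₂, ρ t w ∈ U₂ := by
    intro t ht w hw
    have ht₀ : t ∈ S₀ := by rw [hTS₀] at ht; exact derSub_le _ _ ht
    refine ⟨hS₀inv t ht₀ w hw.1, SymData.mem_wt.2 fun r => ?_⟩
    have hr : t⁻¹ * (r : H) * t ∈ R := by simpa using (mem_normalizer_iff.1 (hSR (inv_mem ht₀)) r).1 r.2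
    have h2 := hTf t ht ⟨_, hr⟩ r (by group)
    calc ρ (r : H) (ρ t w) = ρ t (ρ (t⁻¹ * r * t) w) := by
          rw [← Module.End.mul_apply, ← map_mul, ← Module.End.mul_apply, ← map_mul]
          congr 2
          group
      _ = (f r : K) • ρ t w := by rw [SymData.mem_wt.1 hw.2 ⟨_, hr⟩, map_smul, h2]
  have hQU₂ : ∀ a : Q, ∀ w ∈ U₂, ρ (a : H) w ∈ U₂ := by
    intro a w hw
    refine ⟨hQinv a w hw.1, SymData.mem_wt.2 fun r => ?_⟩
    rw [hRcomm r a w hw.1, SymData.mem_wt.1 hw.2 r, map_smul]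
  have hzero₂ : ∀ p ∈ chainProd ρ T (k + 2 - j), ∀ w ∈ U₂, p w = 0 := by
    intro p hp w hw
    refine hzero₁ p ?_ w hw
    rw [← hTS₀, show k + 2 - j₀ - j₁ = k + 2 - j by omega]
    exact hp
  have hU₂0 : U₂ ≠ ⊥ := (Submodule.ne_bot_iff _).2 ⟨w₀, ⟨hw₀U, hw₀f⟩, hw₀⟩
  -- the data
  set G₁ := stabSub ρ U₂ with hG₁
  have hG : ∀ g : G₁, ∀ w ∈ U₂, ρ (g : H) w ∈ U₂ := fun g => g.2
  have hQG : Q ≤ G₁ := fun a ha => hQU₂ ⟨a, ha⟩
  have hTG : T ≤ G₁ := hTinv
  let ρ₁ := restrictRep (ρ.comp G₁.subtype) U₂ hG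
  let D : SymData ρ₁ (CharQuot χ) :=
    { Q := Q.subgroupOf G₁
      T := T.subgroupOf G₁
      odd_Q := by rw [Nat.card_congr (subgroupOfEquivOfLe hQG).toEquiv]; exact hQodd
      norm := fun p _ => mem_normalizer_of_conj_le fun a ha => hQn.conj_mem (a : H) ha (p : H)
      two := ((hS.to_le (derSub_le _ _)).comap_of_injective _ G₁.subtype_injective)
      proj := (QuotientGroup.mk' (pairing χ).ker).comp (subgroupOfEquivOfLe hQG).toMonoidHom
      surj := (QuotientGroup.mk'_surjective _).comp (subgroupOfEquivOfLe hQG).surjective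
      form := formQuot χ
      good := goodForm χ hQodd
      comm := fun a b => LinearMap.ext fun w => Subtype.ext
        (hcom ⟨_, a.2⟩ ⟨_, b.2⟩ (w : V) w.2.1)
      scal := fun a ha => ⟨f ⟨((a : G₁) : H), ⟨⟨_, a.2⟩, (QuotientGroup.eq_one_iff _).1 ha, rfl⟩⟩,
        LinearMap.ext fun w => Subtype.ext
          (SymData.mem_wt.1 w.2.2 ⟨((a : G₁) : H), ⟨⟨_, a.2⟩, (QuotientGroup.eq_one_iff _).1 ha, rfl⟩⟩)⟩
      tau := (actQuot χ).comp ((Subgroup.inclusion hTstab).comp (subgroupOfEquivOfLe hTG).toMonoidHom)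
      tau_spec := fun t a _ => (actQuot_mk χ ⟨((t : G₁) : H), hTstab t.2⟩ ⟨((a : G₁) : H), a.2⟩).symm }
  have hact : ∀ g : H, ∀ hg : g ∈ T, D.act ⟨g, hTG hg⟩ = actQuot χ ⟨g, hTstab hg⟩ := fun g hg => by
    rw [D.act_of_mem (g := ⟨g, hTG hg⟩) hg]; rfl
  haveI : Nontrivial U₂ := (Submodule.nontrivial_iff_ne_bot).2 hU₂0
  have hcT : ∀ a ∈ derSub S (k + 1), a ∈ T := fun a ha => derSub_antitone S hjd ha
  have hc : ⁅e, x⁆ ∈ derSub S (k + 1) := commutator_mem_commutator he hx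
  rcases Nat.eq_or_lt_of_le hjd with hjk | hjk
  · refine ⟨1, one_mem _, fun hm => ?_⟩
    rw [show (⟨_, hm⟩ : stabChar χ) = ⟨_, hTstab (hcT _ hc)⟩ from Subtype.ext (by simp), ← hact _ (hcT _ hc)]
    refine SymData.act_eq_one_of_rho (D := D) (hcT _ hc) (LinearMap.ext fun w => Subtype.ext ?_)
    have h := hzero₂ ((ρ ⁅e, x⁆ - 1) * 1) (by
      rw [show k + 2 - j = 1 by omega]
      exact mem_chainProd_succ (i := 0) (hcT _ hc) rfl) (w : V) w.2
    rwa [mul_one, LinearMap.sub_apply, Module.End.one_apply, sub_eq_zero] at h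
  set r := k - j with hr
  have heT : e ∈ T := derSub_antitone S (by omega) he
  have hxT : x ∈ T := derSub_antitone S (by omega) hx
  obtain ⟨W', -, hW', hW'T⟩ := SymData.exists_invariant_simple (D := D) _ D.T rfl le_rfl ⊤ top_ne_bot
    (fun _ _ _ => trivial) (fun _ _ _ _ => trivial)
  let G₂ := stabSub ρ₁ W'
  have hG2 : ∀ g : G₂, ∀ w ∈ W', ρ₁ (g : G₁) w ∈ W' := fun g => g.2
  have hQ2 : D.Q ≤ G₂ := fun a ha => hW'.inv ⟨a, ha⟩
  have hT2 : D.T ≤ G₂ := hW'T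
  let D₂ := D.restrict W' G₂ hG2 hQ2 hT2
  haveI : Nontrivial W' := (Submodule.nontrivial_iff_ne_bot).2 hW'.ne_bot
  have hchain : ChainZero (R := Module.End K W') (restrictRep (ρ₁.comp G₂.subtype) W' hG2) D₂.T (r + 2) := by
    intro p hp
    obtain ⟨p₁, hp₁, he₁⟩ := chainProd_restrict ρ₁ W' G₂ hG2 hT2 _ p hp
    obtain ⟨p₀, hp₀, he₀⟩ := chainProd_restrict ρ U₂ G₁ hG hTG _ p₁ hp₁
    refine LinearMap.ext fun w => Subtype.ext ?_
    rw [he₁]
    refine Subtype.ext ((he₀ _).trans (hzero₂ p₀ ?_ _ (w : U₂).2))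
    rw [show k + 2 - j = r + 2 by omega]
    exact hp₀
  have hact₂ : ∀ g : H, ∀ hg : g ∈ T,
      D₂.act ⟨⟨g, hTG hg⟩, hT2 (show (⟨g, hTG hg⟩ : G₁) ∈ D.T from hg)⟩ = actQuot χ ⟨g, hTstab hg⟩ := fun g hg => by
    rw [← hact g hg]
    exact SymData.act_restrict (D := D) (g := ⟨⟨g, hTG hg⟩, _⟩) (show (⟨g, hTG hg⟩ : G₁) ∈ D.T from hg)
  rcases (SymData.full_restrict hW' hG2 hQ2 hT2).goal r hchain with h | ⟨-, h⟩
  · refine ⟨1, one_mem _, fun hm => ?_⟩
    rw [show (⟨_, hm⟩ : stabChar χ) = ⟨_, hTstab (hcT _ hc)⟩ from Subtype.ext (by simp), ← hact₂ _ (hcT _ hc)]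
    refine h _ ((mem_derSub_subgroupOf hT2 (r + 1) _).2 ((mem_derSub_subgroupOf hTG (r + 1) _).2 ?_))
    show ⁅e, x⁆ ∈ derSub (derSub S j) (r + 1)
    rw [derSub_add, show j + (r + 1) = k + 1 by omega]
    exact hc
  · rcases h ⟨⟨e, hTG heT⟩, hT2 (show (⟨e, hTG heT⟩ : G₁) ∈ D.T from heT)⟩ heT
      ⟨⟨x, hTG hxT⟩, hT2 (show (⟨x, hTG hxT⟩ : G₁) ∈ D.T from hxT)⟩ hxT with h1 | h1
    · refine ⟨1, one_mem _, fun hm => ?_⟩
      rw [show (⟨_, hm⟩ : stabChar χ) = ⟨_, hTstab (hcT _ hc)⟩ from Subtype.ext (by simp), ← hact₂ _ (hcT _ hc)]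
      exact h1
    · refine ⟨e ^ 2, mem_zpowers _, fun hm => ?_⟩
      rw [← hact₂ _ (mul_mem (hcT _ hc) (inv_mem (pow_mem heT 2)))]
      exact h1

end Cfsg.Lib.TwoLength
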