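import Cfsg.Agent.TwoLength.DerivedLength.Quat

/-!
The induction on the order of the form group.
-/

set_option linter.style.haveILetI false
set_option linter.unusedSectionVars false

namespace Cfsg.Lib.TwoLength

open Module Subgroup Cfsg.Lib.HallHigman
open scoped commutatorElement

universe u v w z

namespace SymData

variable {K : Type u} [Field K] [CharP K 2] [IsAlgClosed K]

theorem goal_step {n : ℕ} (ih : CoreBelow.{u, v, w, z} K n) {G : Type w} [Group G] [Finite G] {U : Type v}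
    [AddCommGroup U] [Module K U] [FiniteDimensional K U] [Nontrivial U] {ρ : G →* Module.End K U} {A : Type z}
    [CommGroup A] [Finite A] {D : SymData ρ A} (hF : D.Full) (hn : Nat.card A ≤ n) (r : ℕ)
    (hzero : ChainZero ρ D.T (r + 2)) : D.Goal r := by
  classical
  by_cases hiso : ∃ M : Subgroup A, M ≠ ⊥ ∧ M ≤ orthSub D.form M ∧ ∀ g ∈ D.T, ∀ a ∈ M, D.act g a ∈ M
  · obtain ⟨M, h0, hM, hinv⟩ := hiso
    exact goal_of_isotropic ih hn hF r hzero h0 hM hinv
  by_cases hinvM : ∃ M : Subgroup A, M ≠ ⊥ ∧ M ≠ ⊤ ∧ ∀ g ∈ D.T, ∀ a ∈ M, D.act g a ∈ M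
  · obtain ⟨M, h0, h1, hinv⟩ := hinvM
    refine goal_of_pair ih hn hF r hzero h0 h1 ?_ hinv
    by_contra hI
    exact hiso ⟨_, hI, inf_le_right.trans (D.orth_le inf_le_left), fun g hg a ha =>
      ⟨hinv g hg a ha.1, D.map_mem_orth M le_rfl hinv hg ha.2⟩⟩
  push Not at hinvM
  have hirr : D.Irred := fun M hM => by
    by_cases h0 : M = ⊥
    · exact Or.inl h0
    refine Or.inr ?_
    by_contra h1
    obtain ⟨g, hg, a, ha, hne⟩ := hinvM M h0 h1
    exact hne (hM g hg a ha)
  by_cases hns : D.NoSplit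
  · exact goal_of_nosplit hF r hzero hirr hns
  rw [NoSplit] at hns
  push Not at hns
  obtain ⟨S₀, hS₀, hS₀c⟩ := hns
  obtain ⟨S, hS, hmax⟩ := exists_max_system hS₀
  have hScard : 1 < S.card := lt_of_lt_of_le hS₀c (hmax S₀ hS₀)
  obtain ⟨F, hblk, hperm⟩ := exists_frame hS
  haveI : Nontrivial {B // B ∈ S} := by
    obtain ⟨B, hB, C, hC, hne⟩ := Finset.one_lt_card.1 hScard
    exact ⟨⟨B, hB⟩, ⟨C, hC⟩, fun e => hne (congrArg Subtype.val e)⟩
  have htrans : ∀ i j, ∃ g ∈ D.T, F.perm g i = j := fun i j => by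
    obtain ⟨g, hg, e⟩ := hS.transitive hirr i.2 j.2
    exact ⟨g, hg, Subtype.ext ((hperm g hg i).trans e)⟩
  by_cases hall : ∀ y ∈ derSub D.T (r + 1), D.act y = 1
  · exact Or.inl hall
  exfalso
  push Not at hall
  obtain ⟨y, hy, hy1⟩ := hall
  have hprim : ∀ i, (F.loc0 i).Irred ∧ (F.loc0 i).NoSplit := fun i =>
    hS.part_primitive hirr hmax (show F.blk i ∈ S by rw [hblk]; exact i.2) (F.stab i) (F.stab_le i)
      (fun g hg => by
        rw [F.mem_stab, hblk, ← hperm g hg]
        exact ⟨fun h => congrArg Subtype.val h.2, fun h => ⟨hg, Subtype.ext h⟩⟩)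
      (F.act_mem_of_stab i)
  have hdim : ∀ i, 2 ≤ finrank K (F.W i) := by
    intro i
    have hc := F.card_blk i
    have hne : Nat.card (F.blk i) ≠ 1 := fun h => hS.ne_bot i.1 i.2 (by rw [← hblk i]; exact eq_bot_of_card_eq _ h)
    have h0 : finrank K (F.W i) ≠ 0 := fun e => (Nat.card_pos (α := F.blk i)).ne' (by rw [hc, e]; rfl)
    have h1 : finrank K (F.W i) ≠ 1 := fun e => hne (by rw [hc, e, one_pow])
    omega
  have hfix1 : F.Fixes (derSub D.T (r + 1)) := by
    refine ⟨derSub_le _ _, fun s hs k => ?_⟩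
    by_contra hne
    exact F.moves_bound hF hzero (hdim k) fun l hl => ⟨s, derSub_antitone D.T (by omega) hs, hne⟩
  obtain ⟨i, a, ha, hne⟩ : ∃ i, ∃ a ∈ F.blk i, D.act y a ≠ a := by
    by_contra hh
    push Not at hh
    refine hy1 (MulEquiv.ext fun a => ?_)
    obtain ⟨f, hf, rfl⟩ := F.exists_prod_eq a
    rw [map_prod, MulAut.one_apply]
    exact Finset.prod_congr rfl fun l _ => hh l _ (hf l)
  have hbt : ∀ h : y ∈ F.stab i, F.bt i ⟨y, h⟩ ≠ 1 := fun h e =>
    hne (congrArg Subtype.val (DFunLike.congr_fun e (⟨a, ha⟩ : F.blk i)))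
  obtain ⟨j, hj, hjfix, hjmove⟩ := exists_first_fix (fun g k => F.perm g k) D.T i (m := r + 1)
    fun s hs => hfix1.fix s hs i
  have hfixj : F.Fixes (derSub D.T j) := by
    refine ⟨derSub_le _ _, fun s hs k => ?_⟩
    obtain ⟨g, hg, rfl⟩ := htrans i k
    have hsT := derSub_le _ _ hs
    have hs' : g⁻¹ * s * g ∈ derSub D.T j := by simpa using derSub_conj (inv_mem hg) hs
    rw [← Equiv.Perm.mul_apply, ← F.perm_mul _ hsT _ hg, show s * g = g * (g⁻¹ * s * g) by group,
      F.perm_mul _ hg _ (mul_mem (mul_mem (inv_mem hg) hsT) hg), Equiv.Perm.mul_apply]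
    exact congrArg (F.perm g) (hjfix _ hs')
  have hj0 : 1 ≤ j := by
    by_contra h
    obtain rfl : j = 0 := by omega
    obtain ⟨k, hk⟩ := exists_ne i
    obtain ⟨g, hg, rfl⟩ := htrans i k
    exact hk (hfixj.fix g hg i)
  have hjr : r ≤ j := by
    by_contra h
    have hys : y ∈ F.stab i := hfix1.le_stab i hy
    have h2 : y ∈ derSub (F.stab i) 2 := by
      refine derSub_mono (hfixj.le_stab i) 2 ?_
      rw [derSub_add]
      exact derSub_antitone D.T (by omega) hy
    exact hbt hys ((F.bt_eq_act _).trans (derived_two_trivial (hprim i).1 (hprim i).2 y h2))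
  rcases Nat.lt_or_ge r j with h | h
  · obtain rfl : j = r + 1 := by omega
    exact F.no_top hF hzero hprim htrans hfix1 hjmove hy (hbt _)
  · obtain rfl : j = r := by omega
    exact Frame.QHyp.no_quat (F := F) (r := j) ⟨hF, hzero, hprim, htrans, hfixj,
      fun k => F.moves_all htrans hjmove k, ⟨i, y, hy, a, ha, hne⟩⟩ hj0

theorem coreBelow : ∀ n, CoreBelow.{u, v, w, z} K n := by
  intro n
  induction n with
  | zero => exact fun G _ _ U _ _ _ _ ρ A _ _ D _ h => absurd h (Nat.not_lt_zero _)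
  | succ n ih => exact fun G _ _ U _ _ _ _ ρ A _ _ D hF h r hz => goal_step ih hF (Nat.lt_succ_iff.1 h) r hz

/-- The derived group past the length of the chain acts trivially, up to the quaternion exception. -/
theorem Full.goal {G : Type w} [Group G] [Finite G] {U : Type v} [AddCommGroup U] [Module K U] [FiniteDimensional K U]
    [Nontrivial U] {ρ : G →* Module.End K U} {A : Type z} [CommGroup A] [Finite A] {D : SymData ρ A} (hF : D.Full)
    (r : ℕ) (hzero : ChainZero ρ D.T (r + 2)) : D.Goal r :=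
  goal_step (coreBelow (Nat.card A)) hF le_rfl r hzero

end SymData

end Cfsg.Lib.TwoLength
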