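import Cfsg.Agent.TwoLength.DerivedLength.Chain
import Cfsg.Agent.TwoLength.Small
import Cfsg.Agent.HallHigman.TheoremB

/-!
A module on which a group of odd order acts through a non-degenerate alternating form, together with a
`2`-group normalizing it: lifts are unique, simple submodules exist and one of them is invariant.
-/

set_option linter.style.haveILetI false
set_option linter.unusedSectionVars false

namespace Cfsg.Lib.TwoLength

open Module Subgroup Cfsg.Lib.HallHigman

universe u v w z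

section basics

variable {K : Type u} [Field K] {U : Type v} [AddCommGroup U] [Module K U]

theorem exists_functional_off {W : Submodule K U} {v : U} (hv : v ∉ W) :
    ∃ φ : U →ₗ[K] K, φ v = 1 ∧ ∀ w ∈ W, φ w = 0 := by
  obtain ⟨f, hf, hW⟩ := Submodule.exists_dual_map_eq_bot_of_notMem hv inferInstance
  refine ⟨(f v)⁻¹ • f, ?_, fun w hw => ?_⟩
  · rw [LinearMap.smul_apply, smul_eq_mul, inv_mul_cancel₀ hf]
  · have h : f w ∈ W.map f := Submodule.mem_map_of_mem hw
    rw [hW, Submodule.mem_bot] at h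
    rw [LinearMap.smul_apply, h, smul_zero]

theorem exists_functional_one {v : U} (hv : v ≠ 0) : ∃ φ : U →ₗ[K] K, φ v = 1 := by
  obtain ⟨φ, h, -⟩ := exists_functional_off (W := (⊥ : Submodule K U)) (v := v) (by simpa using hv)
  exact ⟨φ, h⟩

theorem exists_smul_of_commute_all [Nontrivial U] (X : Module.End K U) (h : ∀ f : Module.End K U, X * f = f * X) :
    ∃ r : K, X = r • 1 := by
  obtain ⟨v, hv⟩ := exists_ne (0 : U)
  obtain ⟨φ, hφ⟩ := exists_functional_one (K := K) hv
  refine ⟨φ (X v), LinearMap.ext fun u => ?_⟩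
  have h1 := LinearMap.congr_fun (h (φ.smulRight u)) v
  simpa [hφ] using h1

theorem eq_one_of_two_pow_eq_one [CharP K 2] {x : K} {i : ℕ} (h : x ^ 2 ^ i = 1) : x = 1 := by
  haveI : ExpChar K 2 := ExpChar.prime Nat.prime_two
  refine sub_eq_zero.1 (eq_zero_of_pow_eq_zero (n := 2 ^ i) ?_)
  rw [sub_pow_expChar_pow, one_pow, h, sub_self]

theorem units_hom_eq_one [CharP K 2] {P : Type*} [Group P] (hP : IsPGroup 2 P) (f : P →* Kˣ) (x : P) : f x = 1 := by
  obtain ⟨i, hi⟩ := hP x
  refine Units.ext (eq_one_of_two_pow_eq_one (i := i) ?_)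
  rw [← Units.val_pow_eq_pow_val, ← map_pow, hi, map_one, Units.val_one]

theorem card_hom_le {A : Type z} [Group A] [Finite A] : Nat.card (A →* Kˣ) ≤ Nat.card A := by
  classical
  haveI := Fintype.ofFinite A
  let F : (A →* Kˣ) → (A →* K) := fun f => (Units.coeHom K).comp f
  have hF : Function.Injective F := fun f g h => MonoidHom.ext fun a => Units.ext (DFunLike.congr_fun h a)
  have hli : LinearIndependent K (fun f : A →* Kˣ => ((F f : A →* K) : A → K)) :=
    (linearIndependent_monoidHom A K).comp F hF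
  haveI := hli.finite
  haveI := Fintype.ofFinite (A →* Kˣ)
  have := hli.fintype_card_le_finrank
  rwa [Module.finrank_fintype_fun_eq_card, ← Nat.card_eq_fintype_card, ← Nat.card_eq_fintype_card] at this

theorem finite_hom {A : Type z} [Group A] [Finite A] : Finite (A →* Kˣ) := by
  classical
  haveI := Fintype.ofFinite A
  let F : (A →* Kˣ) → (A →* K) := fun f => (Units.coeHom K).comp f
  have hF : Function.Injective F := fun f g h => MonoidHom.ext fun a => Units.ext (DFunLike.congr_fun h a)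
  exact ((linearIndependent_monoidHom A K).comp F hF).finite

variable {A : Type z} [CommGroup A] [Finite A] {c : A →* A →* Kˣ}

/-- The orthogonal of a subgroup. -/
def orthSub (c : A →* A →* Kˣ) (M : Subgroup A) : Subgroup A where
  carrier := {a | ∀ m ∈ M, c a m = 1}
  one_mem' := fun m _ => by rw [map_one]; rfl
  mul_mem' := fun ha hb m hm => by rw [map_mul, MonoidHom.mul_apply, ha m hm, hb m hm, one_mul]
  inv_mem' := fun ha m hm => by rw [map_inv, MonoidHom.inv_apply, ha m hm, inv_one]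

theorem mem_orthSub {M : Subgroup A} {a : A} : a ∈ orthSub c M ↔ ∀ m ∈ M, c a m = 1 := Iff.rfl

theorem index_orthSub (hc : GoodForm c) (M : Subgroup A) : (orthSub c M).index = Nat.card M := by
  haveI := finite_hom (K := K) (A := M)
  haveI := finite_hom (K := K) (A := A ⧸ orthSub c M)
  refine le_antisymm ?_ ?_
  · let f : A →* (M →* Kˣ) := MonoidHom.mk' (fun a => (c a).comp M.subtype) fun a b => by ext m; simp
    have hk : f.ker = orthSub c M := by
      ext a
      refine ⟨fun h m hm => DFunLike.congr_fun (MonoidHom.mem_ker.1 h) ⟨m, hm⟩, fun h => MonoidHom.mem_ker.2 ?_⟩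
      ext m
      exact congrArg Units.val (h m m.2)
    rw [← hk, index_ker]
    exact (Nat.card_le_card_of_injective _ Subtype.val_injective).trans card_hom_le
  · let g : M → (A ⧸ orthSub c M →* Kˣ) := fun m =>
      QuotientGroup.lift _ (MonoidHom.mk' (fun a => c a (m : A)) fun a b => by simp) fun a ha => ha m m.2
    have hg : Function.Injective g := by
      intro m m' e
      have h : ∀ a, c a (m : A) = c a (m' : A) := fun a => DFunLike.congr_fun e (QuotientGroup.mk a)
      refine Subtype.ext (mul_inv_eq_one.1 (hc.nondeg _ fun b => ?_))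
      rw [swap_eq_inv hc, map_mul, map_inv, h b, mul_inv_cancel, inv_one]
    exact (Nat.card_le_card_of_injective g hg).trans (card_hom_le.trans (index_eq_card _).ge)

theorem orthSub_orthSub (hc : GoodForm c) (M : Subgroup A) : orthSub c (orthSub c M) = M := by
  refine (eq_of_le_of_card_ge (fun m hm a ha => ?_) (le_of_eq ?_)).symm
  · rw [swap_eq_inv hc, ha m hm, inv_one]
  · have h1 := index_orthSub hc (orthSub c M)
    have h2 := index_orthSub hc M
    have h3 := card_mul_index (orthSub c (orthSub c M))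
    have h4 := card_mul_index (orthSub c M)
    rw [h1] at h3
    rw [h2] at h4
    nlinarith [Nat.card_pos (α := orthSub c M)]

theorem exists_form_eq (hc : GoodForm c) (χ : A →* Kˣ) : ∃ b, c b = χ := by
  haveI := finite_hom (K := K) (A := A)
  have hinj : Function.Injective c := (injective_iff_map_eq_one c).2 fun a ha => hc.nondeg a fun b => by rw [ha]; rfl
  exact ((Nat.bijective_iff_injective_and_card _).2
    ⟨hinj, le_antisymm (Nat.card_le_card_of_injective c hinj) card_hom_le⟩).2 χ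

/-- A maximal isotropic subgroup is its own orthogonal. -/
theorem exists_lagrangian (hc : GoodForm c) : ∃ L : Subgroup A, orthSub c L = L := by
  obtain ⟨L, hL, hmax⟩ := WellFounded.has_min (IsWellFounded.wf (r := ((· > ·) : Subgroup A → Subgroup A → Prop)))
    {L | L ≤ orthSub c L} ⟨⊥, show (⊥ : Subgroup A) ≤ _ from bot_le⟩
  refine ⟨L, le_antisymm (fun a ha => ?_) hL⟩
  by_contra h
  refine hmax (L ⊔ zpowers a) ?_ (lt_of_le_of_ne le_sup_left fun e => h (e.ge (mem_sup_right (mem_zpowers a))))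
  have h1 : L ⊔ zpowers a ≤ orthSub c L := sup_le hL (zpowers_le.2 ha)
  intro x hx
  obtain ⟨l, hl, _, ⟨i, rfl⟩, rfl⟩ := mem_sup.1 hx
  intro m hm
  obtain ⟨l', hl', _, ⟨j, rfl⟩, rfl⟩ := mem_sup.1 hm
  have e1 : c l a = 1 := by rw [swap_eq_inv hc, ha l hl, inv_one]
  have e2 : c a l' = 1 := ha l' hl'
  simp [map_mul, MonoidHom.mul_apply, map_zpow, MonoidHom.zpow_apply, hL hl l' hl', hc.alt a, e1, e2]

end basics

variable {K : Type u} [Field K] {U : Type v} [AddCommGroup U] [Module K U] {G : Type w} [Group G] [Finite G]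

/-- A group of odd order acting through a form and a `2`-group normalizing it. -/
structure SymData (ρ : G →* Module.End K U) (A : Type z) [CommGroup A] [Finite A] where
  Q : Subgroup G
  T : Subgroup G
  odd_Q : Odd (Nat.card Q)
  norm : T ≤ normalizer (Q : Set G)
  two : IsPGroup 2 T
  proj : Q →* A
  surj : Function.Surjective proj
  form : A →* A →* Kˣ
  good : GoodForm form
  comm : ∀ a b : Q, ρ a * ρ b = (form (proj a) (proj b) : K) • (ρ b * ρ a)
  scal : ∀ a : Q, proj a = 1 → ∃ r : K, ρ a = r • 1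
  tau : T →* MulAut A
  tau_spec : ∀ (t : T) (a : Q) (h : (t : G) * a * (t : G)⁻¹ ∈ Q), proj ⟨_, h⟩ = tau t (proj a)

namespace SymData

variable {ρ : G →* Module.End K U} {A : Type z} [CommGroup A] [Finite A] (D : SymData ρ A)

open scoped Classical in
/-- The action, as a function on the whole group. -/
noncomputable def act (g : G) : MulAut A := if h : g ∈ D.T then D.tau ⟨g, h⟩ else 1

theorem act_of_mem {g : G} (h : g ∈ D.T) : D.act g = D.tau ⟨g, h⟩ := dif_pos h

theorem act_mul {g h : G} (hg : g ∈ D.T) (hh : h ∈ D.T) : D.act (g * h) = D.act g * D.act h := by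
  rw [act_of_mem D (mul_mem hg hh), act_of_mem D hg, act_of_mem D hh, ← map_mul]; rfl

theorem act_inv {g : G} (hg : g ∈ D.T) : D.act g⁻¹ = (D.act g)⁻¹ := by
  rw [act_of_mem D (inv_mem hg), act_of_mem D hg, ← map_inv]; rfl

theorem act_one : D.act 1 = 1 := by
  rw [act_of_mem D (one_mem D.T)]; exact map_one D.tau

theorem conj_mem {t : G} (ht : t ∈ D.T) {a : G} (ha : a ∈ D.Q) : t * a * t⁻¹ ∈ D.Q :=
  (mem_normalizer_iff.1 (D.norm ht) a).1 ha

theorem proj_conj {t : G} (ht : t ∈ D.T) (a : D.Q) :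
    D.proj ⟨t * a * t⁻¹, D.conj_mem ht a.2⟩ = D.act t (D.proj a) := by
  rw [D.act_of_mem ht]; exact D.tau_spec ⟨t, ht⟩ a _

theorem rho_mul_inv (g : G) : ρ g * ρ g⁻¹ = 1 := by rw [← map_mul, mul_inv_cancel, map_one]

theorem rho_inv_mul (g : G) : ρ g⁻¹ * ρ g = 1 := by rw [← map_mul, inv_mul_cancel, map_one]

theorem rho_ne_zero [Nontrivial U] (ρ : G →* Module.End K U) (g : G) : ρ g ≠ 0 := fun h =>
  one_ne_zero (α := Module.End K U) (by rw [← map_one ρ, ← mul_inv_cancel g, map_mul, h, zero_mul])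

theorem conj_smul (b a : D.Q) : ρ b * ρ a * ρ (b : G)⁻¹ = (D.form (D.proj b) (D.proj a) : K) • ρ a := by
  rw [D.comm, smul_mul_assoc, mul_assoc, rho_mul_inv, mul_one]

theorem proj_eq_one_of_scalar [Nontrivial U] {a : D.Q} {r : K} (h : ρ a = r • 1) : D.proj a = 1 := by
  refine D.good.nondeg _ fun b => ?_
  obtain ⟨b, rfl⟩ := D.surj b
  have h1 := D.comm a b
  rw [h, smul_mul_assoc, one_mul, mul_smul_comm, mul_one, smul_smul] at h1
  have hr : r ≠ 0 := fun e => rho_ne_zero ρ (a : G) (by rw [h, e, zero_smul])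
  exact Units.ext ((mul_eq_right₀ hr).1 (smul_left_injective K (rho_ne_zero ρ (b : G)) h1).symm)

theorem act_keeps [Nontrivial U] {t : G} (ht : t ∈ D.T) : KeepsForm D.form (D.act t) := by
  intro a b
  obtain ⟨a, rfl⟩ := D.surj a
  obtain ⟨b, rfl⟩ := D.surj b
  rw [← D.proj_conj ht a, ← D.proj_conj ht b]
  have h1 := D.comm ⟨_, D.conj_mem ht a.2⟩ ⟨_, D.conj_mem ht b.2⟩
  have h2 := congrArg (fun X => ρ t * X * ρ t⁻¹) (D.comm a b)
  simp only [mul_smul_comm, smul_mul_assoc] at h2
  simp only at h1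
  have e : ∀ p q : G, ρ (t * p * t⁻¹) * ρ (t * q * t⁻¹) = ρ t * (ρ p * ρ q) * ρ t⁻¹ := fun p q => by
    simp only [← map_mul]; congr 1; group
  rw [e, e, h2] at h1
  refine (Units.ext (smul_left_injective K (?_ : ρ t * (ρ b * ρ a) * ρ t⁻¹ ≠ 0) h1)).symm
  rw [← map_mul, ← map_mul, ← map_mul]
  exact rho_ne_zero ρ _

/-- The linear span of the operators of the group. -/
def alg : Submodule K (Module.End K U) := Submodule.span K (Set.range fun a : D.Q => ρ a)

theorem rho_mem_alg {a : G} (ha : a ∈ D.Q) : ρ a ∈ D.alg := Submodule.subset_span ⟨⟨a, ha⟩, rfl⟩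

theorem alg_mul {X Y : Module.End K U} (hX : X ∈ D.alg) (hY : Y ∈ D.alg) : X * Y ∈ D.alg := by
  induction hX using Submodule.span_induction with
  | mem x hx =>
    obtain ⟨a, rfl⟩ := hx
    induction hY using Submodule.span_induction with
    | mem y hy =>
      obtain ⟨b, rfl⟩ := hy
      show ρ (a : G) * ρ (b : G) ∈ D.alg
      rw [← map_mul]
      exact D.rho_mem_alg (mul_mem a.2 b.2)
    | zero => rw [mul_zero]; exact zero_mem _
    | add y y' _ _ h h' => rw [mul_add]; exact add_mem h h'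
    | smul r y _ h => rw [mul_smul_comm]; exact Submodule.smul_mem _ _ h
  | zero => rw [zero_mul]; exact zero_mem _
  | add x x' _ _ h h' => rw [add_mul]; exact add_mem h h'
  | smul r x _ h => rw [smul_mul_assoc]; exact Submodule.smul_mem _ _ h

theorem alg_conj {t : G} (ht : t ∈ D.T) {X : Module.End K U} (hX : X ∈ D.alg) : ρ t * X * ρ t⁻¹ ∈ D.alg := by
  induction hX using Submodule.span_induction with
  | mem x hx =>
    obtain ⟨a, rfl⟩ := hx
    show ρ t * ρ (a : G) * ρ t⁻¹ ∈ D.alg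
    rw [← map_mul, ← map_mul]
    exact D.rho_mem_alg (D.conj_mem ht a.2)
  | zero => simp
  | add x x' _ _ h h' => rw [mul_add, add_mul]; exact add_mem h h'
  | smul r x _ h => rw [mul_smul_comm, smul_mul_assoc]; exact Submodule.smul_mem _ _ h

/-- The operators of the group give all operators. -/
def Full : Prop := D.alg = ⊤

variable {D}

theorem Full.central [Nontrivial U] (hF : D.Full) (X : Module.End K U) (h : ∀ a : D.Q, X * ρ a = ρ a * X) :
    ∃ r : K, X = r • 1 := by
  refine exists_smul_of_commute_all X fun f => ?_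
  have hf : f ∈ D.alg := hF.ge Submodule.mem_top
  induction hf using Submodule.span_induction with
  | mem x hx => obtain ⟨a, rfl⟩ := hx; exact h a
  | zero => simp
  | add x x' _ _ h h' => rw [mul_add, add_mul, h, h']
  | smul r x _ h => rw [mul_smul_comm, smul_mul_assoc, h]

/-- An element acting trivially on the form group acts trivially. -/
theorem Full.rho_eq_one [CharP K 2] [Nontrivial U] (hF : D.Full) {t : G} (ht : t ∈ D.T) (h : D.act t = 1) :
    ρ t = 1 := by
  classical
  have hr : ∀ a : D.Q, ∃ r : Kˣ, ρ t * ρ a * ρ t⁻¹ = (r : K) • ρ a := by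
    intro a
    have hm : t * a * t⁻¹ * (a : G)⁻¹ ∈ D.Q := mul_mem (D.conj_mem ht a.2) (inv_mem a.2)
    obtain ⟨r, hr⟩ := D.scal ⟨_, hm⟩ (by
      rw [show (⟨_, hm⟩ : D.Q) = ⟨t * a * t⁻¹, D.conj_mem ht a.2⟩ * a⁻¹ from rfl, map_mul, D.proj_conj ht, h,
        MulAut.one_apply, map_inv, mul_inv_cancel])
    have hr0 : r ≠ 0 := fun e => rho_ne_zero ρ (t * a * t⁻¹ * (a : G)⁻¹) (by rw [show ρ _ = _ from hr, e, zero_smul])
    refine ⟨Units.mk0 r hr0, ?_⟩
    rw [Units.val_mk0, ← map_mul, ← map_mul, ← one_mul (ρ (a : G)), ← smul_mul_assoc, ← hr, ← map_mul]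
    congr 1
    group
  choose f hf using hr
  have hmul : ∀ a b : D.Q, f (a * b) = f a * f b := fun a b => Units.ext (smul_left_injective K
    (rho_ne_zero ρ ((a : G) * b)) (by
      show (f (a * b) : K) • ρ ((a : G) * b) = ((f a * f b : Kˣ) : K) • ρ ((a : G) * b)
      rw [show ρ ((a : G) * b) = ρ ((a * b : D.Q) : G) from rfl, ← hf, Units.val_mul, mul_smul,
        show ρ ((a * b : D.Q) : G) = ρ a * ρ b from map_mul ρ _ _, ← mul_smul_comm, ← smul_mul_assoc, ← hf, ← hf]
      simp only [← map_mul]; congr 1; group))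
  let F : D.Q →* Kˣ := MonoidHom.mk' f hmul
  have hker : D.proj.ker ≤ F.ker := fun a ha => by
    obtain ⟨r, hr⟩ := D.scal a ha
    refine MonoidHom.mem_ker.2 (Units.ext (smul_left_injective K (rho_ne_zero ρ (a : G)) ?_))
    show (f a : K) • ρ (a : G) = (1 : K) • ρ (a : G)
    rw [← hf, one_smul, hr, mul_smul_comm, mul_one, smul_mul_assoc, rho_mul_inv]
  obtain ⟨b, hb⟩ := exists_form_eq D.good (D.proj.liftOfSurjective D.surj ⟨F, hker⟩)
  obtain ⟨b, rfl⟩ := D.surj b
  have hfb : ∀ a : D.Q, D.form (D.proj b) (D.proj a) = f a := fun a => by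
    rw [hb]; exact MonoidHom.liftOfRightInverse_comp_apply D.proj _ _ ⟨F, hker⟩ a
  obtain ⟨κ, hκ⟩ := hF.central (ρ (b : G)⁻¹ * ρ t) fun a => by
    have e1 : ρ t * ρ (a : G) = ((f a : K) • ρ (a : G)) * ρ t := by
      rw [← hf, mul_assoc (ρ t * ρ (a : G)), rho_inv_mul, mul_one]
    have e2 : ρ (b : G)⁻¹ * ((f a : K) • ρ (a : G)) = ρ (a : G) * ρ (b : G)⁻¹ := by
      rw [← hfb, ← D.conj_smul, ← mul_assoc, ← mul_assoc, rho_inv_mul, one_mul]
    rw [mul_assoc, e1, ← mul_assoc, e2, mul_assoc]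
  have hbt : ρ t = κ • ρ (b : G) := by
    rw [← mul_one (ρ (b : G)), ← mul_smul_comm, ← hκ, ← mul_assoc, rho_mul_inv, one_mul]
  obtain ⟨i, hi⟩ := D.two ⟨t, ht⟩
  have hi' : t ^ 2 ^ i = 1 := congrArg Subtype.val hi
  have h1 : κ ^ 2 ^ i • ρ ((b ^ 2 ^ i : D.Q) : G) = 1 := by
    rw [Subgroup.coe_pow, map_pow, ← _root_.smul_pow, ← hbt, ← map_pow, hi', map_one]
  have hκ0 : κ ≠ 0 := fun e => rho_ne_zero ρ t (by rw [hbt, e, zero_smul])
  have hb2 : D.proj b ^ 2 ^ i = 1 := by
    rw [← map_pow]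
    refine D.proj_eq_one_of_scalar (r := (κ ^ 2 ^ i)⁻¹) ?_
    rw [← h1, inv_smul_smul₀ (pow_ne_zero _ hκ0)]
  have hb1 : D.proj b = 1 := orderOf_eq_one_iff.1 (Nat.eq_one_of_dvd_coprimes
    (Nat.Coprime.pow_left i D.good.odd.coprime_two_left) (orderOf_dvd_of_pow_eq_one hb2) (orderOf_dvd_natCard _))
  obtain ⟨r, hr⟩ := D.scal b hb1
  rw [hr, smul_smul] at hbt
  have h2 : (κ * r) ^ 2 ^ i = 1 := by
    have h := congrArg (· ^ 2 ^ i) hbt
    simp only [_root_.smul_pow, one_pow, ← map_pow, hi', map_one] at h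
    exact (smul_left_injective K (one_ne_zero (α := Module.End K U)) (h.symm.trans (one_smul K _).symm))
  rw [hbt, eq_one_of_two_pow_eq_one h2, one_smul]

theorem act_eq_one_of_rho [Nontrivial U] {t : G} (ht : t ∈ D.T) (h : ρ t = 1) : D.act t = 1 := by
  refine MulEquiv.ext fun a => ?_
  obtain ⟨a, rfl⟩ := D.surj a
  rw [MulAut.one_apply, ← D.proj_conj ht a, ← mul_inv_eq_one, ← map_inv, ← map_mul]
  refine D.proj_eq_one_of_scalar (r := 1) ?_
  show ρ (t * a * t⁻¹ * (a : G)⁻¹) = (1 : K) • 1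
  rw [map_mul, map_mul, map_mul, h, one_mul, show ρ t⁻¹ = 1 by
    rw [← mul_one (ρ t⁻¹), ← h, rho_inv_mul, h], mul_one, rho_mul_inv, one_smul]

variable (D)

/-- The eigenspace of a linear character. -/
def wt (R : Subgroup G) (f : R →* Kˣ) : Submodule K U := ⨅ r : R, (ρ (r : G)).eigenspace (f r : K)

variable {D}

theorem mem_wt {R : Subgroup G} {f : R →* Kˣ} {v : U} :
    v ∈ wt (ρ := ρ) R f ↔ ∀ r : R, ρ (r : G) v = (f r : K) • v := by
  simp [wt, Submodule.mem_iInf]

open scoped Classical in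
/-- The averaging projection on an eigenspace. -/
noncomputable def wtProj (R : Subgroup G) (f : R →* Kˣ) : Module.End K U :=
  haveI := Fintype.ofFinite R
  ((Nat.card R : ℕ) : K)⁻¹ • ∑ r : R, ((f r)⁻¹ : Kˣ) • ρ (r : G)

open scoped Classical in
theorem wtProj_apply_mem [CharP K 2] {R : Subgroup G} (hR : Odd (Nat.card R)) {f f' : R →* Kˣ} {v : U}
    (hv : v ∈ wt (ρ := ρ) R f') : (wtProj (ρ := ρ) R f) v = if f = f' then v else 0 := by
  classical
  letI := Fintype.ofFinite R
  have hK : ((Nat.card R : ℕ) : K) = 1 := by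
    obtain ⟨j, hj⟩ := hR
    rw [hj, Nat.cast_add, Nat.cast_mul, CharP.cast_eq_zero K 2, zero_mul, zero_add, Nat.cast_one]
  simp only [wtProj, hK, inv_one, one_smul, LinearMap.sum_apply, LinearMap.smul_apply]
  have e : ∀ r : R, (((f r)⁻¹ : Kˣ) • ρ (r : G) v : U) = (((Units.coeHom K).comp (f⁻¹ * f') : R →* K) r) • v :=
    fun r => by
      rw [mem_wt.1 hv r, Units.smul_def, smul_smul]
      rfl
  simp only [e, ← Finset.sum_smul]
  split_ifs with h
  · subst h
    rw [Finset.sum_congr rfl (fun r _ => (show ((Units.coeHom K).comp (f⁻¹ * f) : R →* K) r = 1 by simp)), Finset.sum_const,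
      Finset.card_univ, ← Nat.card_eq_fintype_card, nsmul_one, hK, one_smul]
  · rw [sum_hom_units_eq_zero _ fun e0 => h ?_, zero_smul]
    refine MonoidHom.ext fun r => ?_
    have := DFunLike.congr_fun e0 r
    simp only [MonoidHom.comp_apply, MonoidHom.mul_apply, MonoidHom.inv_apply, Units.coeHom_apply,
      MonoidHom.one_apply, Units.val_eq_one, inv_mul_eq_one] at this
    exact this

theorem wtProj_mem_alg {R : Subgroup G} (hR : R ≤ D.Q) (f : R →* Kˣ) : wtProj (ρ := ρ) R f ∈ D.alg := by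
  classical
  refine Submodule.smul_mem _ _ (Submodule.sum_mem _ fun r _ => ?_)
  rw [Units.smul_def]
  exact Submodule.smul_mem _ _ (D.rho_mem_alg (hR r.2))

theorem eq_zero_of_wt [CharP K 2] {R : Subgroup G} (hR : Odd (Nat.card R)) {f : R →* Kˣ} {v : U}
    (hv : v ∈ wt (ρ := ρ) R f) (h : v ∈ ⨆ (f' : R →* Kˣ) (_ : f' ≠ f), wt (ρ := ρ) R f') : v = 0 := by
  classical
  have hle : (⨆ (f' : R →* Kˣ) (_ : f' ≠ f), wt (ρ := ρ) R f') ≤ LinearMap.ker (wtProj (ρ := ρ) R f) :=
    iSup₂_le fun f' hf' w hw => by rw [LinearMap.mem_ker, wtProj_apply_mem hR hw, if_neg hf'.symm]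
  have h1 := hle h
  rw [LinearMap.mem_ker, wtProj_apply_mem hR hv, if_pos rfl] at h1
  exact h1

theorem exists_wt [IsAlgClosed K] [CharP K 2] [FiniteDimensional K U] {R : Subgroup G} (hR : Odd (Nat.card R))
    (hcomm : ∀ a b : R, ρ (a : G) * ρ (b : G) = ρ (b : G) * ρ (a : G)) {W : Submodule K U}
    (hW : ∀ r : R, ∀ w ∈ W, ρ (r : G) w ∈ W) (hW0 : W ≠ ⊥) :
    ∃ (f : R →* Kˣ) (v : U), v ≠ 0 ∧ v ∈ W ∧ v ∈ wt (ρ := ρ) R f := by
  classical
  haveI : Nontrivial W := (Submodule.nontrivial_iff_ne_bot).2 hW0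
  let σ : R →* (Module.End K W)ˣ := (restrictRep (ρ.comp R.subtype) W hW).toHomUnits
  haveI : Finite σ.range := .of_surjective σ.rangeRestrict σ.rangeRestrict_surjective
  have hZ : ((Nat.card σ.range : ℕ) : K) ≠ 0 := by
    obtain ⟨j, hj⟩ := hR.of_dvd_nat (card_range_dvd σ)
    rw [hj, Nat.cast_add, Nat.cast_mul, CharP.cast_eq_zero K 2, zero_mul, zero_add, Nat.cast_one]
    exact one_ne_zero
  have hspan := common_eigen_span (Z := σ.range) (by
    rintro ⟨_, a, rfl⟩ ⟨_, b, rfl⟩
    refine Subtype.ext (Units.ext (LinearMap.ext fun w => Subtype.ext ?_))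
    exact LinearMap.congr_fun (hcomm a b) (w : U)) hZ ((Units.coeHom _).comp σ.range.subtype)
  obtain ⟨w, hw, hw0⟩ : ∃ w ∈ {w : W | ∀ a : σ.range, ∃ c : K,
      ((Units.coeHom _).comp σ.range.subtype) a w = c • w}, w ≠ 0 := by
    by_contra hh
    push Not at hh
    have hle := hspan.ge.trans (Submodule.span_le.2 fun w hw => (Submodule.mem_bot K).2 (hh w hw))
    exact top_ne_bot (le_bot_iff.1 hle)
  have hw' : ∀ r : R, ∃ c : K, ρ (r : G) (w : U) = c • (w : U) := fun r => by
    obtain ⟨c, hc⟩ := hw ⟨σ r, r, rfl⟩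
    exact ⟨c, congrArg Subtype.val hc⟩
  have hv0 : (w : U) ≠ 0 := fun e => hw0 (Subtype.ext e)
  choose f hf using hw'
  have hmul : ∀ a b : R, f (a * b) = f a * f b := fun a b => smul_left_injective K hv0 (by
    show f (a * b) • (w : U) = (f a * f b) • (w : U)
    rw [← hf, Subgroup.coe_mul, map_mul, Module.End.mul_apply, hf, map_smul, hf, smul_smul, mul_comm])
  have hone : f 1 = 1 := smul_left_injective K hv0 (by
    show f 1 • (w : U) = (1 : K) • (w : U)
    rw [← hf, OneMemClass.coe_one, map_one, Module.End.one_apply, one_smul])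
  exact ⟨MonoidHom.toHomUnits ⟨⟨f, hone⟩, hmul⟩, w, hv0, w.2, mem_wt.2 hf⟩

variable (D)

/-- The lift of a subgroup of the form group. -/
def lift (M : Subgroup A) : Subgroup G := (M.comap D.proj).map D.Q.subtype

theorem lift_le (M : Subgroup A) : D.lift M ≤ D.Q := map_subtype_le _

theorem mem_lift {M : Subgroup A} {g : G} : g ∈ D.lift M ↔ ∃ h : g ∈ D.Q, D.proj ⟨g, h⟩ ∈ M :=
  ⟨by rintro ⟨⟨g, hg⟩, h, rfl⟩; exact ⟨hg, h⟩, fun ⟨hg, h⟩ => ⟨⟨g, hg⟩, h, rfl⟩⟩

theorem odd_lift (M : Subgroup A) : Odd (Nat.card (D.lift M)) :=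
  D.odd_Q.of_dvd_nat (card_dvd_of_le (D.lift_le M))

theorem lift_comm {M : Subgroup A} (hM : M ≤ orthSub D.form M) (a b : D.lift M) :
    ρ (a : G) * ρ (b : G) = ρ (b : G) * ρ (a : G) := by
  obtain ⟨ha, ha'⟩ := (D.mem_lift).1 a.2
  obtain ⟨hb, hb'⟩ := (D.mem_lift).1 b.2
  have h := D.comm ⟨a, ha⟩ ⟨b, hb⟩
  rw [hM ha' _ hb', Units.val_one, one_smul] at h
  exact h

/-- The twist of a character by an element of the form group. -/
noncomputable def twist {M : Subgroup A} (f : D.lift M →* Kˣ) (a : A) : D.lift M →* Kˣ :=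
  f * MonoidHom.mk' (fun r : D.lift M => D.form (D.proj ⟨(r : G), ((D.mem_lift).1 r.2).1⟩) a) fun r r' => by
    show D.form (D.proj (⟨r, ((D.mem_lift).1 r.2).1⟩ * ⟨r', ((D.mem_lift).1 r'.2).1⟩)) a = _
    rw [map_mul, map_mul, MonoidHom.mul_apply]

theorem rho_mem_wt {M : Subgroup A} {f : D.lift M →* Kˣ} (a : D.Q) {v : U}
    (hv : v ∈ wt (ρ := ρ) (D.lift M) f) : ρ (a : G) v ∈ wt (ρ := ρ) (D.lift M) (D.twist f (D.proj a)) := by
  refine mem_wt.2 fun r => ?_
  have h := LinearMap.congr_fun (D.comm ⟨r, ((D.mem_lift).1 r.2).1⟩ a) v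
  simp only [Module.End.mul_apply, LinearMap.smul_apply] at h
  rw [h, mem_wt.1 hv r, map_smul, smul_smul, twist, MonoidHom.mul_apply, Units.val_mul, mul_comm]
  rfl

theorem twist_eq_iff {M : Subgroup A} (f : D.lift M →* Kˣ) (a b : A) :
    D.twist f a = D.twist f b ↔ a * b⁻¹ ∈ orthSub D.form M := by
  constructor
  · intro h m hm
    obtain ⟨m, rfl⟩ := D.surj m
    have h1 := DFunLike.congr_fun h ⟨(m : G), (D.mem_lift).2 ⟨m.2, hm⟩⟩
    simp only [twist, MonoidHom.mul_apply, mul_right_inj] at h1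
    have h2 : D.form (D.proj m) a = D.form (D.proj m) b := h1
    rw [map_mul, map_inv, MonoidHom.mul_apply, MonoidHom.inv_apply, swap_eq_inv D.good (D.proj m) a,
      swap_eq_inv D.good (D.proj m) b, h2, mul_inv_cancel]
  · intro h
    ext r
    have h1 := h _ ((D.mem_lift).1 r.2).2
    rw [map_mul, map_inv, MonoidHom.mul_apply, MonoidHom.inv_apply, mul_inv_eq_one] at h1
    simp only [twist, MonoidHom.mul_apply, Units.val_mul]
    congr 2
    show D.form _ a = D.form _ b
    rw [swap_eq_inv D.good a, swap_eq_inv D.good b, h1]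

/-- A subspace on which the group induces all operators. -/
structure IsSimple (W : Submodule K U) : Prop where
  ne_bot : W ≠ ⊥
  inv : ∀ a : D.Q, ∀ w ∈ W, ρ (a : G) w ∈ W
  full : ∀ f : W →ₗ[K] W, ∃ X ∈ D.alg, ∀ w : W, X (w : U) = (f w : U)

variable {D}

theorem alg_inv {W : Submodule K U} (hW : ∀ a : D.Q, ∀ w ∈ W, ρ (a : G) w ∈ W) {X : Module.End K U}
    (hX : X ∈ D.alg) : ∀ w ∈ W, X w ∈ W := by
  induction hX using Submodule.span_induction with
  | mem x hx => obtain ⟨a, rfl⟩ := hx; exact hW a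
  | zero => intro w _; simp
  | add x x' _ _ h h' => intro w hw; rw [LinearMap.add_apply]; exact add_mem (h w hw) (h' w hw)
  | smul r x _ h => intro w hw; rw [LinearMap.smul_apply]; exact Submodule.smul_mem _ _ (h w hw)

/-- The operators are determined on any invariant subspace. -/
theorem alg_eq_zero [CharP K 2] [Nontrivial U] {W : Submodule K U} (hW : ∀ a : D.Q, ∀ w ∈ W, ρ (a : G) w ∈ W)
    (hW0 : W ≠ ⊥) {X : Module.End K U} (hX : X ∈ D.alg) (h : ∀ w ∈ W, X w = 0) : X = 0 := by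
  classical
  haveI := Fintype.ofFinite A
  choose sec hsec using D.surj
  have hspan : D.alg ≤ Submodule.span K (Set.range fun a : A => ρ (sec a : G)) := by
    refine Submodule.span_le.2 ?_
    rintro _ ⟨a, rfl⟩
    obtain ⟨r, hr⟩ := D.scal ((sec (D.proj a))⁻¹ * a) (by rw [map_mul, map_inv, hsec, inv_mul_cancel])
    have e : ρ (a : G) = r • ρ (sec (D.proj a) : G) := by
      rw [← mul_one (ρ (sec (D.proj a) : G)), ← mul_smul_comm, ← hr, ← map_mul]
      simp
    show ρ (a : G) ∈ _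
    rw [e]
    exact Submodule.smul_mem _ _ (Submodule.subset_span ⟨_, rfl⟩)
  obtain ⟨co, rfl⟩ := Submodule.mem_span_range_iff_exists_fun K |>.1 (hspan hX)
  suffices hco : ∀ b, co b = 0 by simp [hco]
  intro b
  obtain ⟨w, hwW, hw0⟩ := Submodule.exists_mem_ne_zero_of_ne_bot hW0
  -- average the conjugates against a character
  have hz : ∀ a' : A, ∀ w ∈ W, ∑ a : A, (D.form a' a : K) • (co a • ρ (sec a : G) w) = 0 := by
    intro a' w hw
    have h1 := h (ρ (sec a' : G)⁻¹ w) (hW (sec a')⁻¹ w hw)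
    have h2 := congrArg (ρ (sec a' : G)) h1
    rw [map_zero, LinearMap.sum_apply, map_sum] at h2
    refine Eq.trans (Finset.sum_congr rfl fun a _ => ?_) h2
    have h3 := LinearMap.congr_fun (D.conj_smul (sec a') (sec a)) w
    rw [hsec, hsec] at h3
    simp only [Module.End.mul_apply, LinearMap.smul_apply] at h3
    rw [LinearMap.smul_apply, map_smul, h3, smul_comm]
  have h4 : ∑ a' : A, ((D.form a' b)⁻¹ : Kˣ) • ∑ a : A, (D.form a' a : K) • (co a • ρ (sec a : G) w) = 0 := by
    simp [hz _ w hwW]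
  simp only [Units.smul_def, Finset.smul_sum, smul_smul] at h4
  rw [Finset.sum_comm] at h4
  have h5 : ∀ a : A, ∑ a' : A, (((D.form a' b)⁻¹ : Kˣ) : K) * ((D.form a' a : K) * co a) =
      if a = b then co a else 0 := by
    intro a
    let F : A →* K := (Units.coeHom K).comp
      (MonoidHom.mk' (fun a' => (D.form a' b)⁻¹ * D.form a' a) fun x y => by simp only [map_mul, MonoidHom.mul_apply, mul_inv]; ac_rfl)
    rw [Finset.sum_congr rfl (fun a' _ => (show _ = F a' * co a from by simp [F, mul_assoc])), ← Finset.sum_mul]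
    split_ifs with hab
    · subst hab
      obtain ⟨j, hj⟩ := D.good.odd
      rw [Finset.sum_congr rfl (fun a' _ => (show F a' = 1 by simp [F])), Finset.sum_const, Finset.card_univ,
        ← Nat.card_eq_fintype_card, hj, nsmul_one, Nat.cast_add, Nat.cast_mul, CharP.cast_eq_zero K 2, zero_mul,
        zero_add, Nat.cast_one, one_mul]
    · rw [sum_hom_units_eq_zero F fun e => hab ?_, zero_mul]
      refine mul_inv_eq_one.1 (D.good.nondeg _ fun a' => ?_)
      have h6 := DFunLike.congr_fun e a'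
      simp only [F, MonoidHom.comp_apply, MonoidHom.mk'_apply, Units.coeHom_apply, MonoidHom.one_apply,
        Units.val_eq_one, inv_mul_eq_one] at h6
      rw [swap_eq_inv D.good, map_mul, map_inv, h6, mul_inv_cancel, inv_one]
  simp only [← Finset.sum_smul, h5, ite_smul, zero_smul, Finset.sum_ite_eq', Finset.mem_univ, if_true] at h4
  exact (smul_eq_zero.1 h4).resolve_right fun e => hw0 (by
    rw [show w = ρ (sec b : G)⁻¹ (ρ (sec b : G) w) by rw [← Module.End.mul_apply, rho_inv_mul]; rfl, e, map_zero])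

/-- A weight vector of a self-orthogonal subgroup spans a simple subspace. -/
theorem isSimple_span [CharP K 2] [Nontrivial U] {L : Subgroup A} (hL : orthSub D.form L = L)
    {f : D.lift L →* Kˣ} {v : U} (hv0 : v ≠ 0) (hv : v ∈ wt (ρ := ρ) (D.lift L) f) :
    D.IsSimple (Submodule.span K (Set.range fun a : D.Q => ρ (a : G) v)) ∧
      Nat.card A = Module.finrank K (Submodule.span K (Set.range fun a : D.Q => ρ (a : G) v)) ^ 2 := by
  classical
  haveI := Fintype.ofFinite (A ⧸ L)
  choose sec hsec using D.surj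
  let s : A ⧸ L → D.Q := fun b => sec b.out
  let e : A ⧸ L → U := fun b => ρ (s b : G) v
  set W := Submodule.span K (Set.range fun a : D.Q => ρ (a : G) v) with hW
  have hmk : ∀ b, (QuotientGroup.mk (D.proj (s b)) : A ⧸ L) = b := fun b => by
    show (QuotientGroup.mk (D.proj (sec b.out)) : A ⧸ L) = b
    rw [hsec]; exact QuotientGroup.out_eq' b
  have hew : ∀ b, e b ∈ wt (ρ := ρ) (D.lift L) (D.twist f (D.proj (s b))) := fun b => D.rho_mem_wt (s b) hv
  have he0 : ∀ b, e b ≠ 0 := fun b h => hv0 (by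
    have := congrArg (ρ (s b : G)⁻¹) h
    rwa [map_zero, ← Module.End.mul_apply, rho_inv_mul, Module.End.one_apply] at this)
  have hne : ∀ b b', b ≠ b' → D.twist f (D.proj (s b)) ≠ D.twist f (D.proj (s b')) := by
    intro b b' h h'
    rw [twist_eq_iff, hL] at h'
    refine h ?_
    rw [← hmk b, ← hmk b', QuotientGroup.eq]
    simpa [mul_comm] using inv_mem h'
  have hP : ∀ b b', (wtProj (ρ := ρ) (D.lift L) (D.twist f (D.proj (s b)))) (e b') = if b = b' then e b' else 0 := by
    intro b b'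
    rw [wtProj_apply_mem (D.odd_lift L) (hew b')]
    by_cases h : b = b'
    · subst h; simp
    · rw [if_neg (hne b b' h), if_neg h]
  have hspan : ∀ a : D.Q, ρ (a : G) v ∈ Submodule.span K (Set.range e) := by
    intro a
    set b : A ⧸ L := QuotientGroup.mk (D.proj a)
    have hl : ((s b)⁻¹ * a : D.Q).1 ∈ D.lift L := (D.mem_lift).2 ⟨((s b)⁻¹ * a).2, by
      show D.proj ((s b)⁻¹ * a) ∈ L
      rw [map_mul, map_inv, ← QuotientGroup.eq, hmk]⟩
    have h1 : ρ (a : G) v = (f ⟨_, hl⟩ : K) • e b := by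
      rw [show (a : G) = (s b : G) * ((s b)⁻¹ * a : D.Q).1 by simp, map_mul, Module.End.mul_apply,
        mem_wt.1 hv ⟨_, hl⟩, map_smul]
    rw [h1]
    exact Submodule.smul_mem _ _ (Submodule.subset_span ⟨b, rfl⟩)
  have hWe : W = Submodule.span K (Set.range e) := le_antisymm
    (Submodule.span_le.2 (by rintro _ ⟨a, rfl⟩; exact hspan a))
    (Submodule.span_le.2 (by rintro _ ⟨b, rfl⟩; exact Submodule.subset_span ⟨s b, rfl⟩))
  have hli : LinearIndependent K e := by
    rw [Fintype.linearIndependent_iff]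
    intro g hg b
    have := congrArg (wtProj (ρ := ρ) (D.lift L) (D.twist f (D.proj (s b)))) hg
    simp only [map_sum, map_smul, hP, map_zero, smul_ite, smul_zero, Finset.sum_ite_eq, Finset.mem_univ, if_true] at this
    exact (smul_eq_zero.1 this).resolve_right (he0 b)
  have hinv : ∀ a : D.Q, ∀ w ∈ W, ρ (a : G) w ∈ W := by
    intro a w hw
    induction hw using Submodule.span_induction with
    | mem x hx =>
      obtain ⟨b, rfl⟩ := hx
      refine Submodule.subset_span ⟨a * b, ?_⟩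
      show ρ ((a : G) * b) v = _
      rw [map_mul]; rfl
    | zero => simp
    | add x y _ _ hx hy => rw [map_add]; exact add_mem hx hy
    | smul r x _ hx => rw [map_smul]; exact Submodule.smul_mem _ _ hx
  refine ⟨⟨fun h => he0 1 ((Submodule.eq_bot_iff W).1 h _ (Submodule.subset_span ⟨s 1, rfl⟩)), hinv, fun g => ?_⟩, ?_⟩
  · have heW : ∀ b, e b ∈ W := fun b => Submodule.subset_span ⟨s b, rfl⟩
    have hco : ∀ b, ∃ co : A ⧸ L → K, ∑ c, co c • e c = (g ⟨e b, heW b⟩ : U) := fun b =>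
      (Submodule.mem_span_range_iff_exists_fun K).1 (hWe ▸ (g ⟨e b, heW b⟩).2)
    choose co hco using hco
    refine ⟨∑ b, ∑ c, co b c • (ρ (s c : G) * ρ (s b : G)⁻¹ * wtProj (ρ := ρ) (D.lift L) (D.twist f (D.proj (s b)))),
      Submodule.sum_mem _ fun b _ => Submodule.sum_mem _ fun c _ => Submodule.smul_mem _ _ (D.alg_mul
        (D.alg_mul (D.rho_mem_alg (s c).2) (D.rho_mem_alg (inv_mem (s b).2)))
        (wtProj_mem_alg (D.lift_le L) _)), fun w => ?_⟩
    obtain ⟨w, hw⟩ := w
    have hw' : w ∈ Submodule.span K (Set.range e) := hWe ▸ hw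
    obtain ⟨d, rfl⟩ := (Submodule.mem_span_range_iff_exists_fun K).1 hw'
    have hsum : (⟨∑ b, d b • e b, hw⟩ : W) = ∑ b, d b • (⟨e b, heW b⟩ : W) := Subtype.ext (by simp)
    have hXe : ∀ b, (∑ a, ∑ c, co a c • (ρ (s c : G) * ρ (s a : G)⁻¹ *
        wtProj (ρ := ρ) (D.lift L) (D.twist f (D.proj (s a))))) (e b) = (g ⟨e b, heW b⟩ : U) := by
      intro b
      simp only [LinearMap.sum_apply, LinearMap.smul_apply, Module.End.mul_apply, hP]
      rw [Finset.sum_eq_single b (fun a _ hab => by simp [hab]) (by simp), ← hco]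
      refine Finset.sum_congr rfl fun c _ => ?_
      have e1 : ρ (s b : G)⁻¹ (e b) = v := by
        show (ρ (s b : G)⁻¹) ((ρ (s b : G)) v) = v
        rw [← Module.End.mul_apply, rho_inv_mul]; rfl
      rw [if_pos rfl, e1]
    rw [hsum, map_sum g, Submodule.coe_sum, map_sum, Submodule.coe_sum]
    refine Finset.sum_congr rfl fun b _ => ?_
    rw [Submodule.coe_smul, map_smul, map_smul g, Submodule.coe_smul, hXe]
  · rw [hWe, finrank_span_eq_card hli, ← Nat.card_eq_fintype_card, ← index_eq_card, pow_two]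
    conv_rhs => arg 2; rw [← hL, index_orthSub D.good]
    rw [mul_comm, card_mul_index]

theorem IsSimple.eq_of_le [FiniteDimensional K U] {W W' : Submodule K U} (hW : D.IsSimple W) (h0 : W' ≠ ⊥)
    (hinv : ∀ a : D.Q, ∀ w ∈ W', ρ (a : G) w ∈ W') (hle : W' ≤ W) : W' = W := by
  refine le_antisymm hle fun x hx => ?_
  obtain ⟨w, hwW', hw0⟩ := Submodule.exists_mem_ne_zero_of_ne_bot h0
  obtain ⟨φ, hφ⟩ := exists_functional_one (K := K) (v := (⟨w, hle hwW'⟩ : W)) fun e => hw0 (congrArg Subtype.val e)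
  obtain ⟨X, hX, hXw⟩ := hW.full (φ.smulRight ⟨x, hx⟩)
  have h1 := hXw ⟨w, hle hwW'⟩
  simp only [LinearMap.smulRight_apply, hφ, one_smul] at h1
  exact h1 ▸ alg_inv hinv hX w hwW'

/-- The group has a simple subspace. -/
theorem exists_simple [IsAlgClosed K] [CharP K 2] [FiniteDimensional K U] [Nontrivial U] {W₀ : Submodule K U}
    (hinv : ∀ a : D.Q, ∀ w ∈ W₀, ρ (a : G) w ∈ W₀) (h0 : W₀ ≠ ⊥) :
    ∃ W ≤ W₀, D.IsSimple W ∧ Nat.card A = Module.finrank K W ^ 2 := by
  obtain ⟨L, hL⟩ := exists_lagrangian D.good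
  obtain ⟨f, v, hv0, hvW, hv⟩ := exists_wt (ρ := ρ) (D.odd_lift L) (D.lift_comm hL.ge)
    (W := W₀) (fun r => hinv ⟨r, ((D.mem_lift).1 r.2).1⟩) h0
  exact ⟨_, Submodule.span_le.2 (by rintro _ ⟨a, rfl⟩; exact hinv a v hvW), (isSimple_span hL hv0 hv)⟩

theorem IsSimple.finrank_sq [IsAlgClosed K] [CharP K 2] [FiniteDimensional K U] [Nontrivial U] {W : Submodule K U}
    (hW : D.IsSimple W) : Nat.card A = Module.finrank K W ^ 2 := by
  obtain ⟨W', hle, hW', hcard⟩ := exists_simple hW.inv hW.ne_bot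
  rwa [hW.eq_of_le hW'.ne_bot hW'.inv hle] at hcard

end SymData

end Cfsg.Lib.TwoLength
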