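import Cfsg.Agent.TwoLength.DerivedLength.CharLemma
import Cfsg.Agent.TwoLength.Bryukhanova.Layer
import Cfsg.Agent.S4748

/-!
The layers inside the largest normal `2`-subgroup when the products along the derived series kill the module.
-/

set_option linter.style.haveILetI false
set_option linter.unusedSectionVars false

namespace Cfsg.Lib.TwoLength

open Module Subgroup Cfsg.Lib.HallHigman Cfsg.Lib.PLengthSeries
open scoped commutatorElement

universe u v w

/-- A faithful group over two elements whose products along the derived series vanish has small length. -/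
def ChainLength (m : ℕ) : Prop :=
  ∀ (Γ : Type u) [Group Γ] [Finite Γ] (W : Type u) [AddCommGroup W] [Module (ZMod 2) W] [Finite W]
    (σ : Γ →* Module.End (ZMod 2) W), Cfsg.IsPSolvable 2 Γ → Cfsg.pCore 2 Γ = ⊥ → Function.Injective σ →
    (∀ P : Sylow 2 Γ, ChainZero σ (P : Subgroup Γ) (m + 1)) → Cfsg.PLengthLE 2 m Γ

/-- The length modulo the largest normal `p`-subgroup, from the layers. -/
theorem pLengthLE_quotient_of_layer {G : Type u} [Group G] [Finite G] {p : ℕ} [Fact p.Prime]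
    (hsol : Cfsg.IsPSolvable p G) (hO' : Cfsg.pPrimeCore p G = ⊥) (m : ℕ)
    (hmove : ∀ C : Subgroup G, C.Normal → Cfsg.pCore p G ≤ C →
      (∃ r ∈ C, (orderOf r).Coprime p ∧ ∃ j ∈ Cfsg.pCore p G, r * j ≠ j * r) →
      ∃ (N : Subgroup G) (_ : N.Normal), Cfsg.pCore p G ≤ N ∧ ¬ C ≤ N ∧ Cfsg.PLengthLE p m (G ⧸ N)) :
    Cfsg.PLengthLE p m (G ⧸ Cfsg.pCore p G) := by
  classical
  set O := Cfsg.pCore p G with hOdef
  have htop : Cfsg.PLengthLE p m (G ⧸ (⊤ : Subgroup G)) := by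
    haveI : Subsingleton (G ⧸ (⊤ : Subgroup G)) := QuotientGroup.subsingleton_quotient_top
    exact top_le_iff.1 fun x _ => by rw [Subsingleton.elim x 1]; exact one_mem _
  obtain ⟨C, ⟨hCn, hOC, hClen⟩, hCmin⟩ := WellFounded.has_min (wellFounded_lt (α := Subgroup G))
    {C | ∃ _ : C.Normal, O ≤ C ∧ Cfsg.PLengthLE p m (G ⧸ C)} ⟨⊤, inferInstance, le_top, htop⟩
  haveI := hCn
  by_cases hCO : C ≤ O
  · obtain rfl : C = O := le_antisymm hCO hOC
    exact hClen
  exfalso
  set π := QuotientGroup.mk' O with hπdef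
  have hπ : Function.Surjective π := QuotientGroup.mk'_surjective O
  have hsolb := Cfsg.Lib.GaschutzYen.isPSolvable_quotient (p := p) O hsol
  set Ob := Cfsg.pPrimeCore p (G ⧸ O) with hOb
  haveI : Ob.Normal := Cfsg.Lib.Components.pPrimeCore_normal' p
  haveI : (C.map π).Normal := hCn.map π hπ
  have hne : C.map π ⊓ Ob ≠ ⊥ := by
    intro hbot
    refine hCO fun c hc => ?_
    have hcc : π c ∈ centralizer (Ob : Set (G ⧸ O)) := mem_centralizer_iff.2 fun o ho =>
      (commute_of_normal_of_disjoint _ _ inferInstance inferInstance (disjoint_iff.2 hbot) (π c) o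
        (mem_map_of_mem π hc) ho).symm.eq
    have hco := Cfsg.Agent.S4748.centralizer_pPrimeCore_le p hsolb pCore_quotient_pCore hcc
    have h1 : π c ∈ C.map π ⊓ Ob := ⟨mem_map_of_mem π hc, hco⟩
    rw [hbot, mem_bot] at h1
    exact (QuotientGroup.eq_one_iff c).1 h1
  obtain ⟨⟨yb, hyC, hyO⟩, hy1⟩ := Subgroup.ne_bot_iff_exists_ne_one.1 hne
  obtain ⟨y, hy, rfl⟩ := hyC
  obtain ⟨a, o, ho, hyo⟩ := Nat.exists_eq_pow_mul_and_not_dvd (orderOf_pos y).ne' p (Fact.out : p.Prime).ne_one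
  have hcop : (orderOf (π y)).Coprime p :=
    Nat.Coprime.coprime_dvd_left (Subgroup.orderOf_dvd_natCard Ob hyO) (Cfsg.Lib.Components.coprime_card_pPrimeCore p)
  obtain ⟨t, ht⟩ := exists_pow_eq_self_of_coprime (x := π y) (n := p ^ a) (hcop.symm.pow_left a)
  set r := y ^ (p ^ a * t) with hr
  have hro : (orderOf r).Coprime p := by
    refine Nat.Coprime.coprime_dvd_left (orderOf_dvd_of_pow_eq_one ?_) (((Fact.out : p.Prime).coprime_iff_not_dvd.2 ho).symm)
    rw [hr, ← pow_mul, show p ^ a * t * o = p ^ a * o * t by ring, ← hyo, pow_mul, pow_orderOf_eq_one, one_pow]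
  have hrπ : π r = π y := by rw [hr, map_pow, pow_mul, ht]
  have hrO : r ∉ O := fun h => hy1 (Subtype.ext (by
    show π y = 1
    rw [← hrπ]; exact (QuotientGroup.eq_one_iff r).2 h))
  obtain ⟨j, hj, hjr⟩ : ∃ j ∈ O, r * j ≠ j * r := by
    by_contra hh
    push Not at hh
    exact hrO (Cfsg.Lib.StableClosure.centralizer_pCore_le_of_pSolvable hsol hO' (mem_centralizer_iff.2 fun j hj => (hh j hj).symm))
  obtain ⟨N, hN, hON, hCN, hNlen⟩ := hmove C hCn hOC ⟨r, pow_mem hy _, hro, j, hj, hjr⟩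
  exact hCmin (C ⊓ N) ⟨inferInstance, le_inf hOC hON, pLengthLE_inf C N hClen hNlen⟩
    (lt_of_le_of_ne inf_le_left fun e => hCN (inf_eq_left.1 e))

variable {H : Type u} [Group H] [Finite H] {K : Type v} [Field K] [IsAlgClosed K] [CharP K 2] {V : Type w}
  [AddCommGroup V] [Module K V] [FiniteDimensional K V] [Nontrivial V]

/-- The layers inside the largest normal `2`-subgroup. -/
theorem exists_layer_chain (hsol : Cfsg.IsPSolvable 2 H) (hO : Cfsg.pCore 2 H = ⊥)
    (ρ : H →* Module.End K V) (hρ : Function.Injective ρ) (k : ℕ)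
    (hzero : ∀ P : Sylow 2 H, ChainZero ρ (P : Subgroup H) (k + 2))
    (hlow : ChainLength.{u} k) {Hb : Type u} [Group Hb] [Finite Hb] (π : H →* Hb) (hπ : Function.Surjective π)
    (hker : (Nat.card π.ker).Coprime 2) (C : Subgroup Hb) (hC : C.Normal)
    (hmove : ∃ r ∈ C, (orderOf r).Coprime 2 ∧ ∃ j ∈ Cfsg.pCore 2 Hb, r * j ≠ j * r) :
    ∃ (N : Subgroup Hb) (_ : N.Normal), Cfsg.pCore 2 Hb ≤ N ∧ ¬ C ≤ N ∧ Cfsg.PLengthLE 2 k (Hb ⧸ N) := by
  classical
  haveI : Fact (Nat.Prime 2) := ⟨Nat.prime_two⟩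
  haveI := hC
  set O := Cfsg.pCore 2 Hb with hOdef
  have hOp : IsPGroup 2 O := Cfsg.Lib.Components.isPGroup_pCore 2
  haveI : O.Normal := Cfsg.Lib.Components.pCore_normal' 2
  obtain ⟨S⟩ : Nonempty (Sylow 2 H) := inferInstance
  set M := O.comap π with hM
  obtain ⟨PM, hPM⟩ := Cfsg.Lib.Chars.sylow_inf_normal S M
  set OS := (S : Subgroup H) ⊓ M with hOS
  have hPMmap : (PM : Subgroup M).map M.subtype = OS := by rw [hPM, subgroupOf_map_subtype]
  have hOSp : IsPGroup 2 OS := S.2.to_le inf_le_left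
  have hOsurj : ∀ o ∈ O, ∃ s ∈ OS, π s = o := by
    intro o ho
    obtain ⟨s, hs, rfl⟩ := Cfsg.Lib.Coprime.pCore_le_sylow 2 (S.mapSurjective hπ) ho
    exact ⟨s, ⟨hs, ho⟩, rfl⟩
  set L := normalizer (OS : Set H) with hL
  have hπL : ∀ b : Hb, ∃ l ∈ L, π l = b := by
    intro b
    obtain ⟨h, rfl⟩ := hπ b
    have hmem : h ∈ normalizer (OS : Set H) ⊔ M := by
      rw [← hPMmap, Sylow.normalizer_sup_eq_top PM]; exact mem_top h
    obtain ⟨l, hl, m, hm, rfl⟩ := mem_sup_of_normal_right.1 hmem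
    obtain ⟨s, hs, e⟩ := hOsurj (π m) hm
    exact ⟨l * s, mul_mem hl (le_normalizer hs), by rw [map_mul, map_mul, e]⟩
  have hLOS' : L ≤ normalizer (OS : Set H) := le_rfl
  -- the moving elements
  set C₂ := Subgroup.closure {a : H | (a ∈ L ∧ π a ∈ C) ∧ (orderOf a).Coprime 2} with hC₂
  have hC₂L : C₂ ≤ L := (closure_le L).2 fun a ha => ha.1.1
  have hLC₂ : L ≤ normalizer (C₂ : Set H) := fun g hg => mem_normalizer_of_conj_le fun z hz => by
    have h : C₂ ≤ C₂.comap (MulAut.conj g).toMonoidHom := (closure_le _).2 fun a ha => by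
      refine subset_closure ⟨⟨mul_mem (mul_mem hg ha.1.1) (inv_mem hg), ?_⟩, ?_⟩
      · show π (g * a * g⁻¹) ∈ C
        rw [map_mul, map_mul, map_inv]
        exact hC.conj_mem _ ha.1.2 _
      · rw [show orderOf ((MulAut.conj g).toMonoidHom a) = orderOf a from (MulAut.conj g).orderOf_eq a]
        exact ha.2
    exact h hz
  have hmoveOS : ¬ C₂ ≤ centralizer (OS : Set H) := by
    intro hle
    obtain ⟨r, hr, hro, j, hj, hne⟩ := hmove
    obtain ⟨l, hl, rfl⟩ := hπL r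
    obtain ⟨s, hs, rfl⟩ := hOsurj j hj
    obtain ⟨a, o, ho, hlo⟩ := Nat.exists_eq_two_pow_mul_odd (orderOf_pos l).ne'
    obtain ⟨m, hm⟩ := exists_pow_eq_self_of_coprime (x := π l) (n := 2 ^ a) (hro.symm.pow_left a)
    have hl' : l ^ (2 ^ a * m) ∈ C₂ := by
      refine subset_closure ⟨⟨pow_mem hl _, ?_⟩, ?_⟩
      · rw [map_pow]; exact pow_mem hr _
      · refine Nat.Coprime.coprime_dvd_left (orderOf_dvd_of_pow_eq_one ?_) ho.coprime_two_right
        rw [← pow_mul, show 2 ^ a * m * o = 2 ^ a * o * m by ring, ← hlo, pow_mul, pow_orderOf_eq_one, one_pow]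
    refine hne ?_
    have h := congrArg π (mem_centralizer_iff.1 (hle hl') s hs)
    rw [map_mul, map_mul, map_pow, pow_mul, hm] at h
    exact h.symm
  -- the minimal moved subgroup
  obtain ⟨E, ⟨hEOS, hLE, hEm⟩, hEmin⟩ := WellFounded.has_min (wellFounded_lt (α := Subgroup H))
    {E | E ≤ OS ∧ L ≤ normalizer (E : Set H) ∧ ¬ C₂ ≤ centralizer (E : Set H)} ⟨OS, le_rfl, hLOS', hmoveOS⟩
  have hEp : IsPGroup 2 E := hOSp.to_le hEOS
  have hE1 : E ≠ ⊥ := by
    rintro rfl
    exact hEm fun a _ => mem_centralizer_iff.2 fun z hz => by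
      rw [SetLike.mem_coe, mem_bot] at hz; rw [hz, one_mul, mul_one]
  have hfixM : ∀ R : Subgroup H, R ≤ E → R ≠ E → L ≤ normalizer (R : Set H) → C₂ ≤ centralizer (R : Set H) := by
    intro R h1 h2 h3
    by_contra h4
    exact hEmin R ⟨h1.trans hEOS, h3, h4⟩ (lt_of_le_of_ne h1 h2)
  have hCE : C₂ ≤ normalizer (E : Set H) := hC₂L.trans hLE
  have hfull : ⁅E, C₂⁆ = E := by
    have hle : ⁅E, C₂⁆ ≤ E := commutator_le.2 fun u hu a ha => by
      rw [commutatorElement_def, show u * a * u⁻¹ * a⁻¹ = u * (a * u⁻¹ * a⁻¹) by group]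
      exact mul_mem hu ((mem_normalizer_iff.1 (hCE ha) _).1 (inv_mem hu))
    by_contra hne
    have hc := hfixM _ hle hne (le_normalizer_commutator hLE hLC₂)
    refine hEm ((closure_le _).2 fun a ha => mem_centralizer_iff.2 fun u hu => ?_)
    have haC : a ∈ C₂ := subset_closure ha
    have hz : a * u * a⁻¹ * u⁻¹ ∈ ⁅E, C₂⁆ := by
      have h := inv_mem (commutator_mem_commutator hu haC)
      rw [commutatorElement_def] at h
      rwa [show (u * a * u⁻¹ * a⁻¹)⁻¹ = a * u * a⁻¹ * u⁻¹ by group] at h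
    refine (commute_of_fixed_commutator (pow_orderOf_eq_one a) ?_ ?_).symm.eq
    · exact mem_centralizer_iff.1 (hc haC) _ hz
    · obtain ⟨i, hi⟩ := hEp ⟨_, hle hz⟩
      exact Nat.Coprime.coprime_dvd_left (orderOf_dvd_of_pow_eq_one (congrArg Subtype.val hi))
        (ha.2.symm.pow_left i)
  set Φ := (frattini E).map E.subtype with hΦ
  have hΦE : Φ ≤ E := map_subtype_le _
  have hLΦ : L ≤ normalizer (Φ : Set H) := le_normalizer_map_frattini hLE
  -- the base
  obtain ⟨B, hΦB, hBE, hBne, hLB, hkey⟩ : ∃ B : Subgroup H, Φ ≤ B ∧ B ≤ E ∧ B ≠ E ∧ L ≤ normalizer (B : Set H) ∧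
      ∀ S₁ : Sylow 2 H, ∀ e ∈ derSub (S₁ : Subgroup H) k, e ∈ E → ∀ x ∈ derSub (S₁ : Subgroup H) k,
        x ∈ normalizer (E : Set H) → ⁅e, x⁆ ∈ B := by
    have hcE : ∀ e x : H, e ∈ E → x ∈ normalizer (E : Set H) → ⁅e, x⁆ ∈ E := fun e x he hx => by
      rw [commutatorElement_def, show e * x * e⁻¹ * x⁻¹ = e * (x * e⁻¹ * x⁻¹) by group]
      exact mul_mem he ((mem_normalizer_iff.1 hx _).1 (inv_mem he))
    by_cases hEN : E ≤ normFix H
    · refine ⟨agreeSub ρ E Φ hEN hΦE, le_agreeSub ρ hEN hΦE, agreeSub_le ρ hEN hΦE,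
        agreeSub_ne ρ hsol hO hρ hEN hEp hE1, fun g hg => agreeSub_conj ρ hEN hΦE (hLE hg) (hLΦ hg),
        fun S₁ e he heE x hx hxE => ⟨hcE e x heE hxE, fun q _ Q _ hq2 hQ hQn χ v hv0 hv => ?_⟩⟩
      haveI := hQn
      obtain ⟨f, hf, hf'⟩ := char_commutator hq2 hQ ρ (S₁ : Subgroup H) S₁.2 k (hzero S₁) he hx χ v hv0 hv
      exact ⟨f, (zpowers_le.2 ⟨(⟨e, heE⟩ : E) ^ 2, Cfsg.Lib.PGroups.pow_mem_frattini hEp _, rfl⟩ :
        zpowers (e ^ 2) ≤ Φ) hf, hf'⟩
    · refine ⟨Φ ⊔ (E ⊓ normFix H), le_sup_left, sup_le hΦE inf_le_left, fun h => hEN ?_, fun g hg => ?_,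
        fun S₁ e he heE x hx hxE => mem_sup_right ⟨hcE e x heE hxE,
          derSub_le_normFix ρ hρ (S₁ : Subgroup H) S₁.2 k (hzero S₁) (commutator_mem_commutator he hx)⟩⟩
      · have htop : (normFix H).subgroupOf E ⊔ frattini E = ⊤ := by
          apply map_injective (subtype_injective E)
          rw [Subgroup.map_sup, subgroupOf_map_subtype, ← MonoidHom.range_eq_map, range_subtype, sup_comm,
            inf_comm]
          exact h
        exact subgroupOf_eq_top.1 (frattini_nongenerating htop)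
      · refine mem_normalizer_of_conj_le fun z hz => ?_
        have h : Φ ⊔ (E ⊓ normFix H) ≤ (Φ ⊔ (E ⊓ normFix H)).comap (MulAut.conj g).toMonoidHom :=
          sup_le (fun z hz => mem_sup_left ((mem_normalizer_iff.1 (hLΦ hg) z).1 hz))
            (fun z hz => mem_sup_right ⟨(mem_normalizer_iff.1 (hLE hg) z).1 hz.1, normFix_normal.conj_mem z hz.2 g⟩)
        exact h hz
  obtain ⟨R, ⟨hBR, hRE, hRne, hLR⟩, hRmax⟩ := WellFounded.has_min
    (IsWellFounded.wf (r := ((· > ·) : Subgroup H → Subgroup H → Prop)))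
    {R | B ≤ R ∧ R ≤ E ∧ R ≠ E ∧ L ≤ normalizer (R : Set H)} ⟨B, le_rfl, hBE, hBne, hLB⟩
  have hΦR : Φ ≤ R := hΦB.trans hBR
  have hOSL : OS ≤ L := le_normalizer
  haveI hRn : (R.subgroupOf E).Normal :=
    normal_subgroupOf_of_le_normalizer ((hEOS.trans hOSL).trans hLR)
  have hfr : frattini E ≤ R.subgroupOf E := fun z hz => hΦR (mem_map_of_mem _ hz)
  letI : CommGroup (E ⧸ R.subgroupOf E) :=
    { (inferInstance : Group (E ⧸ R.subgroupOf E)) with
      mul_comm := ((Subgroup.Normal.quotient_commutative_iff_commutator_le (N := R.subgroupOf E)).2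
        ((Cfsg.Lib.PGroups.commutator_le_frattini hEp).trans hfr)).is_comm.comm }
  haveI : Module (ZMod 2) (Additive (E ⧸ R.subgroupOf E)) := AddCommGroup.zmodModule fun c => by
    obtain ⟨c, rfl⟩ := Additive.ofMul.surjective c
    obtain ⟨u, rfl⟩ := QuotientGroup.mk_surjective c
    apply Additive.toMul.injective
    rw [toMul_nsmul, toMul_ofMul, toMul_zero, ← QuotientGroup.mk_pow]
    exact (QuotientGroup.eq_one_iff _).2 (hfr (Cfsg.Lib.PGroups.pow_mem_frattini hEp u))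
  set act := sectionAct L E R hLE hLR with hact
  set Γ := act.range with hΓ
  have hrr : Function.Surjective act.rangeRestrict := act.rangeRestrict_surjective
  -- no normal two-subgroup in the induced group
  have hΓO : Cfsg.pCore 2 Γ = ⊥ := by
    set P := Cfsg.pCore 2 Γ with hP
    have hPp : IsPGroup 2 P := Cfsg.Lib.Components.isPGroup_pCore 2
    haveI hPn : P.Normal := Cfsg.Lib.Components.pCore_normal' 2
    let Fe : Subgroup H :=
      { carrier := {a | ∃ ha : a ∈ E, ∀ γ ∈ P, (γ : MulAut (E ⧸ R.subgroupOf E)) (QuotientGroup.mk ⟨a, ha⟩) =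
          QuotientGroup.mk (⟨a, ha⟩ : E)}
        one_mem' := ⟨one_mem E, fun γ _ => map_one (γ : MulAut (E ⧸ R.subgroupOf E))⟩
        mul_mem' := by
          rintro a b ⟨ha, ha'⟩ ⟨hb, hb'⟩
          refine ⟨mul_mem ha hb, fun γ hγ => ?_⟩
          rw [show (⟨a * b, mul_mem ha hb⟩ : E) = ⟨a, ha⟩ * ⟨b, hb⟩ from rfl, QuotientGroup.mk_mul, map_mul,
            ha' γ hγ, hb' γ hγ]
        inv_mem' := by
          rintro a ⟨ha, ha'⟩
          refine ⟨inv_mem ha, fun γ hγ => ?_⟩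
          rw [show (⟨a⁻¹, inv_mem ha⟩ : E) = (⟨a, ha⟩ : E)⁻¹ from rfl, QuotientGroup.mk_inv, map_inv, ha' γ hγ] }
    have hFeR : R ≤ Fe := fun a ha => ⟨hRE ha, fun γ _ => by
      rw [show (QuotientGroup.mk (⟨a, hRE ha⟩ : E) : E ⧸ R.subgroupOf E) = 1 from (QuotientGroup.eq_one_iff _).2 ha,
        map_one]⟩
    have hLFe : L ≤ normalizer (Fe : Set H) := fun g hg => mem_normalizer_of_conj_le fun a ha0 => by
      obtain ⟨ha, ha'⟩ := ha0
      have hga : g * a * g⁻¹ ∈ E := (mem_normalizer_iff.1 (hLE hg) a).1 ha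
      refine ⟨hga, fun γ hγ => ?_⟩
      set gg : Γ := act.rangeRestrict ⟨g, hg⟩ with hgg
      have h := ha' (gg⁻¹ * γ * gg) (by simpa using hPn.conj_mem γ hγ gg⁻¹)
      have he : (gg : MulAut (E ⧸ R.subgroupOf E)) (QuotientGroup.mk ⟨a, ha⟩) =
          QuotientGroup.mk (⟨g * a * g⁻¹, hga⟩ : E) := sectionAct_mk L E R hLE hLR ⟨g, hg⟩ ⟨a, ha⟩
      rw [← he]
      have h' := congrArg (gg : MulAut (E ⧸ R.subgroupOf E)) h
      simpa using h'
    -- a non-trivial fixed point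
    letI : MulAction P (E ⧸ R.subgroupOf E) :=
      MulAction.compHom _ (Γ.subtype.comp P.subtype)
    have hU : Nat.card (E ⧸ R.subgroupOf E) ≠ 1 := by
      intro h
      have h1 : R.subgroupOf E = ⊤ := index_eq_one.1 h
      exact hRne (le_antisymm hRE (subgroupOf_eq_top.1 h1))
    obtain ⟨i, hi⟩ := IsPGroup.iff_card.1 (hEp.to_quotient (R.subgroupOf E))
    have hdvd : 2 ∣ Nat.card (E ⧸ R.subgroupOf E) := by
      rcases Nat.eq_zero_or_pos i with rfl | h
      · exact absurd (by rw [hi, pow_zero]) hU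
      · exact hi ▸ dvd_pow_self 2 h.ne'
    obtain ⟨b, hb, hb1⟩ := hPp.exists_fixed_point_of_prime_dvd_card_of_fixed_point (α := E ⧸ R.subgroupOf E) hdvd
      (a := 1) (fun γ => map_one ((γ : Γ) : MulAut (E ⧸ R.subgroupOf E)))
    obtain ⟨⟨c, hc⟩, rfl⟩ := QuotientGroup.mk_surjective b
    have hcFe : c ∈ Fe := ⟨hc, fun γ hγ => hb ⟨γ, hγ⟩⟩
    have hFeE : Fe = E := by
      by_contra hne
      refine hRmax Fe ⟨hBR.trans hFeR, fun a ha => ha.1, hne, hLFe⟩ (lt_of_le_of_ne hFeR ?_)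
      intro e
      exact hb1 ((QuotientGroup.eq_one_iff (⟨c, hc⟩ : E)).2 (e.ge hcFe)).symm
    rw [eq_bot_iff]
    intro γ hγ
    refine mem_bot.2 (Subtype.ext (MulEquiv.ext fun z => ?_))
    obtain ⟨⟨a, ha⟩, rfl⟩ := QuotientGroup.mk_surjective z
    obtain ⟨_, ha'⟩ := hFeE.ge ha
    exact ha' γ hγ
  have hOStriv : ∀ s, ∀ hs : s ∈ OS, act ⟨s, hOSL hs⟩ = 1 := by
    intro s hs
    have hn : (OS.subgroupOf L).Normal := normal_subgroupOf_of_le_normalizer le_rfl
    haveI : ((OS.comap L.subtype).map act.rangeRestrict).Normal := hn.map _ hrr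
    have h := Cfsg.Lib.Components.le_pCore (((hOSp.comap_of_injective _ L.subtype_injective) :
      IsPGroup 2 (OS.subgroupOf L)).map act.rangeRestrict) (mem_map_of_mem _ (show (⟨s, hOSL hs⟩ : L) ∈ OS.subgroupOf L from hs))
    rw [hΓO, mem_bot] at h
    exact congrArg Subtype.val h
  have hkerL : (π.comp L.subtype).ker ≤ act.rangeRestrict.ker := by
    intro g hg
    refine Subtype.ext (sectionAct_eq_one_of_commute fun a ha => ?_)
    have haO : a ∈ OS := hEOS ha
    refine commutatorElement_eq_one_iff_mul_comm.1 (Cfsg.Lib.Coprime.eq_one_of_coprime (N := OS) (H := π.ker) ?_ ?_ ?_)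
    · obtain ⟨i, hi⟩ := IsPGroup.iff_card.1 hOSp
      rw [hi]
      exact hker.symm.pow_left i
    · rw [commutatorElement_def]
      exact mul_mem ((mem_normalizer_iff.1 g.2 a).1 haO) (inv_mem haO)
    · rw [MonoidHom.mem_ker, map_commutatorElement, show π (g : H) = 1 from hg, commutatorElement_one_left]
  -- the products in the induced group
  have hbounds : ∀ P : Sylow 2 Γ,
      ChainZero ((mulAutToEnd 2 (E ⧸ R.subgroupOf E)).comp Γ.subtype) (P : Subgroup Γ) (k + 1) := by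
    intro P
    obtain ⟨P', rfl⟩ := Sylow.mapSurjective_surjective hrr 2 P
    obtain ⟨S₁, hS₁⟩ := (P'.2.map L.subtype).exists_le_sylow
    have hOSS₁ : OS ≤ (S₁ : Subgroup H) := fun s hs => by
      haveI : (OS.comap L.subtype).Normal := (normal_subgroupOf_of_le_normalizer le_rfl : (OS.subgroupOf L).Normal)
      exact hS₁ ⟨⟨s, hOSL hs⟩, Cfsg.Lib.Coprime.pCore_le_sylow 2 P'
        (Cfsg.Lib.Components.le_pCore (hOSp.comap_of_injective _ L.subtype_injective)
          (show (⟨s, hOSL hs⟩ : L) ∈ OS.subgroupOf L from hs)), rfl⟩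
    have hlift : ∀ i, ∀ γ ∈ derSub ((P'.mapSurjective hrr : Sylow 2 Γ) : Subgroup Γ) i,
        ∃ x : L, act.rangeRestrict x = γ ∧ (x : H) ∈ derSub (S₁ : Subgroup H) i := by
      intro i γ hγ
      rw [Sylow.coe_mapSurjective, ← map_derSub] at hγ
      obtain ⟨x, hx, rfl⟩ := hγ
      refine ⟨x, rfl, derSub_mono hS₁ i ?_⟩
      rw [← map_derSub]
      exact mem_map_of_mem L.subtype hx
    set σ := (mulAutToEnd 2 (E ⧸ R.subgroupOf E)).comp Γ.subtype with hσdef
    have hstep : ∀ (x : L) (u : E), ∃ h : ⁅(x : H), (u : H)⁆ ∈ E,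
        (σ (act.rangeRestrict x) - 1) (Additive.ofMul (QuotientGroup.mk u : E ⧸ R.subgroupOf E)) =
          Additive.ofMul (QuotientGroup.mk (⟨_, h⟩ : E) : E ⧸ R.subgroupOf E) := by
      intro x u
      refine ⟨mul_mem ((mem_normalizer_iff.1 (hLE x.2) _).1 u.2) (inv_mem u.2), ?_⟩
      rw [LinearMap.sub_apply, Module.End.one_apply, hσdef, MonoidHom.comp_apply, Subgroup.coe_subtype,
        MonoidHom.coe_rangeRestrict, mulAutToEnd_apply, hact, sectionAct_mk, ← ofMul_div, div_eq_mul_inv,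
        ← QuotientGroup.mk_inv, ← QuotientGroup.mk_mul]
      rfl
    have hchain : ∀ i, ∀ p ∈ chainProd σ ((P'.mapSurjective hrr : Sylow 2 Γ) : Subgroup Γ) i,
        ∀ c : Additive (E ⧸ R.subgroupOf E), ∃ u : E, (u : H) ∈ derSub (S₁ : Subgroup H) i ∧
          p c = Additive.ofMul (QuotientGroup.mk u : E ⧸ R.subgroupOf E) := by
      intro i
      induction i with
      | zero =>
        intro p hp c
        obtain ⟨c, rfl⟩ := Additive.ofMul.surjective c
        obtain ⟨u, rfl⟩ := QuotientGroup.mk_surjective c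
        rw [show p = 1 from hp]
        exact ⟨u, hOSS₁ (hEOS u.2), rfl⟩
      | succ i ih =>
        rintro p ⟨γ, hγ, p', hp', rfl⟩ c
        obtain ⟨u, hu, hpu⟩ := ih p' hp' c
        obtain ⟨x, rfl, hx⟩ := hlift i γ hγ
        obtain ⟨h, he⟩ := hstep x u
        refine ⟨⟨_, h⟩, commutator_mem_commutator hx hu, ?_⟩
        rw [Module.End.mul_apply, hpu]
        exact he
    rintro p ⟨γ, hγ, p', hp', rfl⟩
    refine LinearMap.ext fun c => ?_
    obtain ⟨u, hu, hpu⟩ := hchain k p' hp' c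
    obtain ⟨x, rfl, hx⟩ := hlift k γ hγ
    obtain ⟨h, he⟩ := hstep x u
    rw [Module.End.mul_apply, hpu, LinearMap.zero_apply]
    refine he.trans (congrArg Additive.ofMul ((QuotientGroup.eq_one_iff _).2 (hBR ?_)))
    show ⁅(x : H), (u : H)⁆ ∈ B
    rw [← commutatorElement_inv]
    exact inv_mem (hkey S₁ u hu u.2 x hx (hLE x.2))
  have hσ : Function.Injective ((mulAutToEnd 2 (E ⧸ R.subgroupOf E)).comp Γ.subtype) := fun a b e =>
    Subtype.ext (MulEquiv.ext fun z => Additive.ofMul.injective (LinearMap.congr_fun e (Additive.ofMul z)))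
  have hsolL : Cfsg.IsPSolvable 2 L := Cfsg.Lib.SolvStruct.CoprimeOrbits.isPSolvable_subgroup hsol Nat.prime_two L
  have hsolΓ : Cfsg.IsPSolvable 2 Γ :=
    Cfsg.Lib.Constraint.isPSolvable_of_surjective hrr hsolL
  have hlenΓ : Cfsg.PLengthLE 2 k Γ := hlow Γ (Additive (E ⧸ R.subgroupOf E)) _ hsolΓ hΓO hσ hbounds
  have hsurjL : Function.Surjective (π.comp L.subtype) := fun b => by
    obtain ⟨l, hl, e⟩ := hπL b; exact ⟨⟨l, hl⟩, e⟩
  let φ : Hb →* Γ := (π.comp L.subtype).liftOfSurjective hsurjL ⟨act.rangeRestrict, hkerL⟩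
  have hφ : ∀ l : L, φ (π l) = act.rangeRestrict l := fun l =>
    MonoidHom.liftOfRightInverse_comp_apply (π.comp L.subtype) _ _ ⟨act.rangeRestrict, hkerL⟩ l
  have hφs : Function.Surjective φ := fun γ => by
    obtain ⟨l, rfl⟩ := hrr γ; exact ⟨π l, hφ l⟩
  refine ⟨φ.ker, inferInstance, fun o ho => ?_, fun hle => ?_, ?_⟩
  · obtain ⟨s, hs, rfl⟩ := hOsurj o ho
    show φ (π ((⟨s, hOSL hs⟩ : L) : H)) = 1
    rw [hφ]
    exact Subtype.ext (hOStriv s hs)
  · refine hRne (le_antisymm hRE (hfull.ge.trans (commutator_le.2 fun u hu a ha => ?_)))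
    have hk : C₂ ≤ act.ker.map L.subtype := (closure_le _).2 fun b hb =>
      ⟨⟨b, hb.1.1⟩, by
        have h := hle hb.1.2
        rw [MonoidHom.mem_ker, show π b = π ((⟨b, hb.1.1⟩ : L) : H) from rfl, hφ] at h
        exact congrArg Subtype.val h, rfl⟩
    obtain ⟨a', ha', rfl⟩ := hk ha
    have h := inv_mem (sectionAct_eq_one ha' hu)
    rw [commutatorElement_def]
    rwa [show ((a' : H) * u * (a' : H)⁻¹ * u⁻¹)⁻¹ = u * a' * u⁻¹ * (a' : H)⁻¹ by group] at h
  · exact Cfsg.Lib.PLengthSeries.pLengthLE_map (QuotientGroup.quotientKerEquivOfSurjective φ hφs).symm.toMonoidHom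
      (QuotientGroup.quotientKerEquivOfSurjective φ hφs).symm.surjective hlenΓ

end Cfsg.Lib.TwoLength
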