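import Cfsg.Agent.TwoLength.DerivedLength.Rank

/-!
One part of a frame with its stabilizer, and the values of differences on vectors with given components.
-/

set_option linter.style.haveILetI false
set_option linter.unusedSectionVars false

namespace Cfsg.Lib.TwoLength

open Module Subgroup Cfsg.Lib.HallHigman
open scoped commutatorElement

universe u v w z t

variable {K : Type u} [Field K] [CharP K 2] [IsAlgClosed K] {U : Type v} [AddCommGroup U] [Module K U] [Nontrivial U]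
  [FiniteDimensional K U] {G : Type w} [Group G] [Finite G]

namespace SymData

namespace Frame

variable {ρ : G →* Module.End K U} {A : Type z} [CommGroup A] [Finite A] {D : SymData ρ A} {ι : Type t} [Fintype ι]
  (F : D.Frame ι)

/-- The stabilizer of a part. -/
def stab (i : ι) : Subgroup G where
  carrier := {g | g ∈ D.T ∧ F.perm g i = i}
  one_mem' := ⟨one_mem _, by rw [F.perm_one]; rfl⟩
  mul_mem' := fun {a b} ha hb => ⟨mul_mem ha.1 hb.1, by
    rw [F.perm_mul _ ha.1 _ hb.1, Equiv.Perm.mul_apply, hb.2, ha.2]⟩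
  inv_mem' := fun {a} ha => ⟨inv_mem ha.1, by
    conv_lhs => rw [← ha.2]
    exact F.perm_inv_apply ha.1 i⟩

theorem mem_stab {i : ι} {g : G} : g ∈ F.stab i ↔ g ∈ D.T ∧ F.perm g i = i := Iff.rfl

theorem stab_le (i : ι) : F.stab i ≤ D.T := fun _ hg => hg.1

theorem act_mem_of_stab (i : ι) : ∀ g ∈ F.stab i, ∀ a ∈ F.blk i, D.act g a ∈ F.blk i := fun g hg a ha => by
  have h := F.perm_spec g hg.1 i a ha
  rwa [hg.2] at h

theorem W_stab {i : ι} {g : G} (hg : g ∈ F.stab i) {w : U} (hw : w ∈ F.W i) : ρ g w ∈ F.W i := by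
  have h := F.W_perm g hg.1 i w hw
  rwa [hg.2] at h

/-- The data of a part with its stabilizer. -/
noncomputable abbrev loc0 (i : ι) : SymData ρ (F.blk i) :=
  D.block (F.blk i) (F.nondeg i) (F.stab i) (F.stab_le i) (F.act_mem_of_stab i)

theorem stab_sub (i : ι) : F.stab i ≤ stabSub ρ (F.W i) := fun _ hg _ hw => F.W_stab hg hw

theorem loc_lift_sub (i : ι) : (F.loc0 i).Q ≤ stabSub ρ (F.W i) := fun a ha => (F.simple i).inv ⟨a, ha⟩

/-- The data of a part on its subspace. -/
noncomputable abbrev loc (i : ι) :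
    SymData (restrictRep (ρ.comp (stabSub ρ (F.W i)).subtype) (F.W i) fun g => g.2) (F.blk i) :=
  (F.loc0 i).restrict (F.W i) (stabSub ρ (F.W i)) (fun g => g.2) (F.loc_lift_sub i) (F.stab_sub i)

theorem loc_full (i : ι) : (F.loc i).Full :=
  full_restrict (D := F.loc0 i) ⟨(F.simple i).ne_bot, (F.simple i).inv, (F.simple i).full⟩ _ _ _

theorem W_nontrivial (i : ι) : Nontrivial (F.W i) := (Submodule.nontrivial_iff_ne_bot).2 (F.simple i).ne_bot

/-- The operators of the stabilizer on the subspace of a part. -/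
def res (i : ι) : F.stab i →* Module.End K (F.W i) :=
  (restrictRep (ρ.comp (stabSub ρ (F.W i)).subtype) (F.W i) fun g => g.2).comp (Subgroup.inclusion (F.stab_sub i))

theorem res_apply {i : ι} (g : F.stab i) (w : F.W i) : ((F.res i g w : F.W i) : U) = ρ (g : G) w := rfl

/-- The automorphisms of a part given by its stabilizer. -/
noncomputable def bt (i : ι) : F.stab i →* MulAut (F.blk i) := (F.loc0 i).tau

theorem bt_apply {i : ι} (g : F.stab i) (a : F.blk i) : ((F.bt i g a : F.blk i) : A) = D.act (g : G) a := rfl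

theorem bt_eq_act {i : ι} (g : F.stab i) : F.bt i g = (F.loc0 i).act (g : G) :=
  ((F.loc0 i).act_of_mem g.2).symm

theorem bt_eq_loc {i : ι} (g : F.stab i) : F.bt i g = (F.loc i).act ⟨g, F.stab_sub i g.2⟩ := by
  rw [bt_eq_act]
  exact (act_restrict (D := F.loc0 i) (g := ⟨(g : G), F.stab_sub i g.2⟩) g.2).symm

theorem res_one_iff {i : ι} (g : F.stab i) : F.res i g = 1 ↔ F.bt i g = 1 := by
  haveI := F.W_nontrivial i
  rw [bt_eq_loc]
  constructor
  · intro h
    exact act_eq_one_of_rho (D := F.loc i) (t := ⟨g, F.stab_sub i g.2⟩) g.2 h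
  · intro h
    exact (F.loc_full i).rho_eq_one (t := ⟨g, F.stab_sub i g.2⟩) g.2 h

theorem res_eq_iff {i : ι} (g h : F.stab i) : F.res i g = F.res i h ↔ F.bt i g = F.bt i h := by
  rw [← inv_mul_eq_one (a := F.bt i g), ← map_inv, ← map_mul, ← res_one_iff, map_mul]
  constructor
  · intro e
    rw [← e, ← map_mul, inv_mul_cancel, map_one]
  · intro e
    calc F.res i g = F.res i g * (F.res i g⁻¹ * F.res i h) := by rw [e, mul_one]
      _ = F.res i h := by rw [← mul_assoc, ← map_mul, mul_inv_cancel, map_one, one_mul]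

theorem card_blk (i : ι) : Nat.card (F.blk i) = finrank K (F.W i) ^ 2 := by
  haveI := F.W_nontrivial i
  exact (F.loc_full i).card_eq

theorem card_W (i : ι) {g : G} (hg : g ∈ D.T) : finrank K (F.W (F.perm g i)) = finrank K (F.W i) := by
  have key : ∀ (j : ι) (h : G), h ∈ D.T → finrank K (F.W j) ≤ finrank K (F.W (F.perm h j)) := by
    intro j h hh
    have hinj : Function.Injective ((ρ h).restrict (fun w hw => F.W_perm h hh j w hw)) := by
      intro a b e
      refine Subtype.ext ?_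
      have e' : ρ h (a : U) = ρ h (b : U) := congrArg Subtype.val e
      have := congrArg (ρ h⁻¹) e'
      rwa [← Module.End.mul_apply, ← Module.End.mul_apply, rho_inv_mul] at this
    exact LinearMap.finrank_le_finrank_of_injective hinj
  refine le_antisymm ?_ (key i g hg)
  have := key (F.perm g i) g⁻¹ (inv_mem hg)
  rwa [F.perm_inv_apply hg] at this

theorem conj_mem_stab {g : G} (hg : g ∈ D.T) {i : ι} {x : G} (hx : x ∈ F.stab i) :
    g * x * g⁻¹ ∈ F.stab (F.perm g i) := by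
  refine ⟨mul_mem (mul_mem hg hx.1) (inv_mem hg), ?_⟩
  rw [F.perm_mul _ (mul_mem hg hx.1) _ (inv_mem hg), F.perm_mul _ hg _ hx.1, Equiv.Perm.mul_apply,
    Equiv.Perm.mul_apply, F.perm_inv_apply hg, hx.2]

/-- A subgroup of the acting group fixing every part. -/
structure Fixes (H : Subgroup G) : Prop where
  le : H ≤ D.T
  fix : ∀ s ∈ H, ∀ k, F.perm s k = k

variable {F}

theorem Fixes.le_stab {H : Subgroup G} (hH : F.Fixes H) (i : ι) : H ≤ F.stab i :=
  fun s hs => ⟨hH.le hs, hH.fix s hs i⟩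

theorem Fixes.mono {H H' : Subgroup G} (hH : F.Fixes H) (h : H' ≤ H) : F.Fixes H' :=
  ⟨h.trans hH.le, fun s hs => hH.fix s (h hs)⟩

variable (F)

/-- The translated components. -/
noncomputable def push (g : G) (a : ι → U) : ι → U := fun k => ρ g (a ((F.perm g)⁻¹ k))

theorem push_mem {g : G} (hg : g ∈ D.T) {a : ι → U} (ha : ∀ k, a k ∈ F.W k) (k : ι) : F.push g a k ∈ F.W k := by
  have := F.W_perm g hg _ _ (ha ((F.perm g)⁻¹ k))
  rwa [F.apply_perm_inv hg] at this

theorem rho_pure_push (hF : D.Full) {g : G} (hg : g ∈ D.T) {a : ι → U} (ha : ∀ k, a k ∈ F.W k) :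
    ρ g (F.pure a) = F.pure (F.push g a) := F.rho_pure hF hg ha

theorem push_perm {g : G} (hg : g ∈ D.T) (a : ι → U) (k : ι) : F.push g a (F.perm g k) = ρ g (a k) := by
  rw [push, ← F.perm_inv hg, F.perm_inv_apply hg]

theorem push_of_e {g : G} (hg : g ∈ D.T) (a : ι → U) {k : ι} (h : a ((F.perm g)⁻¹ k) = F.e ((F.perm g)⁻¹ k)) :
    F.push g a k = F.e k := by
  rw [push, h, F.e_perm g hg, F.apply_perm_inv hg]

theorem value_fix (hF : D.Full) {H : Subgroup G} (hH : F.Fixes H) {s : G} (hs : s ∈ H) (φ : ι → U →ₗ[K] K)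
    {b : ι → U} (hb : ∀ k, b k ∈ F.W k) : F.pureDual φ (ρ s (F.pure b)) = ∏ k, φ k (ρ s (b k)) := by
  rw [F.pureDual_rho φ hb (hH.le hs) hF]
  refine Finset.prod_congr rfl fun k _ => ?_
  rw [show (F.perm s)⁻¹ k = k by rw [Equiv.Perm.inv_eq_iff_eq, hH.fix s hs k]]

variable [DecidableEq ι]

/-- One difference, one moving component. -/
theorem diff_one (hF : D.Full) {H : Subgroup G} (hH : F.Fixes H) {y : G} (hy : y ∈ H) (φ : ι → U →ₗ[K] K)
    {b : ι → U} (hb : ∀ k, b k ∈ F.W k) (i : ι) (hinv : ∀ k ≠ i, φ k (ρ y (b k)) = φ k (b k)) :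
    F.pureDual φ ((ρ y - 1) (F.pure b)) =
      φ i ((ρ y - 1) (b i)) * ∏ k ∈ Finset.univ.erase i, φ k (b k) := by
  rw [LinearMap.sub_apply, Module.End.one_apply, map_sub, F.value_fix hF hH hy φ hb, F.pureDual_pure φ hb,
    ← Finset.mul_prod_erase _ _ (Finset.mem_univ i), ← Finset.mul_prod_erase _ _ (Finset.mem_univ i),
    Finset.prod_congr rfl (fun k hk => hinv k (Finset.ne_of_mem_erase hk)), LinearMap.sub_apply,
    Module.End.one_apply, map_sub, sub_mul]

/-- Two differences, one moving component. -/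
theorem diff_two_one (hF : D.Full) {H : Subgroup G} (hH : F.Fixes H) {y x : G} (hy : y ∈ H) (hx : x ∈ H)
    (φ : ι → U →ₗ[K] K) {b : ι → U} (hb : ∀ k, b k ∈ F.W k) (i : ι)
    (hinv : ∀ k ≠ i, ∀ s ∈ H, φ k (ρ s (b k)) = φ k (b k)) :
    F.pureDual φ (((ρ y - 1) * (ρ x - 1)) (F.pure b)) =
      φ i (((ρ y - 1) * (ρ x - 1)) (b i)) * ∏ k ∈ Finset.univ.erase i, φ k (b k) := by
  have e : ∀ v : U, ((ρ y - 1) * (ρ x - 1)) v = ρ (y * x) v - ρ y v - ρ x v + v := fun v => by
    simp only [Module.End.mul_apply, LinearMap.sub_apply, Module.End.one_apply, map_sub, map_mul]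
    abel
  have hval : ∀ s ∈ H, F.pureDual φ (ρ s (F.pure b)) = φ i (ρ s (b i)) * ∏ k ∈ Finset.univ.erase i, φ k (b k) :=
    fun s hs => by
      rw [F.value_fix hF hH hs φ hb, ← Finset.mul_prod_erase _ _ (Finset.mem_univ i),
        Finset.prod_congr rfl fun k hk => hinv k (Finset.ne_of_mem_erase hk) s hs]
  rw [e, e, map_add, map_sub, map_sub, hval _ (mul_mem hy hx), hval y hy, hval x hx, F.pureDual_pure φ hb,
    ← Finset.mul_prod_erase _ _ (Finset.mem_univ i), map_add, map_sub, map_sub]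
  ring

/-- Two differences, two moving components. -/
theorem diff_two_two (hF : D.Full) {H : Subgroup G} (hH : F.Fixes H) {y x : G} (hy : y ∈ H) (hx : x ∈ H)
    (φ : ι → U →ₗ[K] K) {b : ι → U} (hb : ∀ k, b k ∈ F.W k) {i j : ι} (hij : i ≠ j)
    (hinv : ∀ k, k ≠ i → k ≠ j → ∀ s ∈ H, φ k (ρ s (b k)) = φ k (b k)) :
    F.pureDual φ (((ρ y - 1) * (ρ x - 1)) (F.pure b)) =
      (φ i (ρ (y * x) (b i)) * φ j (ρ (y * x) (b j)) - φ i (ρ y (b i)) * φ j (ρ y (b j)) -
        φ i (ρ x (b i)) * φ j (ρ x (b j)) + φ i (b i) * φ j (b j)) *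
        ∏ k ∈ (Finset.univ.erase i).erase j, φ k (b k) := by
  have hjm : j ∈ Finset.univ.erase i := Finset.mem_erase.2 ⟨hij.symm, Finset.mem_univ j⟩
  have e : ∀ v : U, ((ρ y - 1) * (ρ x - 1)) v = ρ (y * x) v - ρ y v - ρ x v + v := fun v => by
    simp only [Module.End.mul_apply, LinearMap.sub_apply, Module.End.one_apply, map_sub, map_mul]
    abel
  have hsplit : ∀ f : ι → K, ∏ k, f k = f i * f j * ∏ k ∈ (Finset.univ.erase i).erase j, f k := fun f => by
    rw [← Finset.mul_prod_erase _ f (Finset.mem_univ i), ← Finset.mul_prod_erase _ f hjm, mul_assoc]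
  have hval : ∀ s ∈ H, F.pureDual φ (ρ s (F.pure b)) =
      φ i (ρ s (b i)) * φ j (ρ s (b j)) * ∏ k ∈ (Finset.univ.erase i).erase j, φ k (b k) := fun s hs => by
    rw [F.value_fix hF hH hs φ hb, hsplit, Finset.prod_congr rfl fun k hk => hinv k
      (Finset.ne_of_mem_erase (Finset.mem_of_mem_erase hk)) (Finset.ne_of_mem_erase hk) s hs]
  rw [e, map_add, map_sub, map_sub, hval _ (mul_mem hy hx), hval y hy, hval x hx, F.pureDual_pure φ hb,
    hsplit fun k => φ k (b k)]
  ring

omit [DecidableEq ι] in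
/-- What a product along the derived series sends to zero at the isolated point. -/
theorem isolate_kill {d : ℕ} (hzero : ChainZero ρ D.T d) (i : ι) {j n : ℕ} (hjn : j + n = d)
    (hmove : ∀ l < j, ∃ s ∈ derSub D.T l, F.perm s i ≠ i) (X : U) (ψ : U →ₗ[K] K) {q : Module.End K U}
    (hq : q ∈ chainProd ρ (derSub D.T j) n) (hkill : ∀ g ∈ D.T, F.perm g i ≠ i → ψ (q (ρ g X)) = 0) :
    ψ (q X) = 0 := by
  classical
  haveI : Fact (Nat.Prime 2) := ⟨Nat.prime_two⟩
  let Us : ι → Submodule K U := fun k => Submodule.span K {v | ∃ g ∈ D.T, F.perm g i = k ∧ ρ g X = v}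
  have hU : ∀ s ∈ D.T, ∀ k, ∀ v ∈ Us k, ρ s v ∈ Us (F.perm s k) := by
    intro s hs k v hv
    refine (Submodule.span_le (p := (Us (F.perm s k)).comap (ρ s))).2 ?_ hv
    rintro _ ⟨g, hg, rfl, rfl⟩
    exact Submodule.subset_span ⟨s * g, mul_mem hs hg, by rw [F.perm_mul _ hs _ hg]; rfl,
      by rw [map_mul]; rfl⟩
  obtain ⟨q', hq', hqv⟩ := exists_isolating (p := 2) (fun g k => F.perm g k) (fun k => by rw [F.perm_one]; rfl) ρ Us
    D.T (fun a ha b hb k => by show F.perm (a * b) k = _; rw [F.perm_mul _ ha _ hb]; rfl) D.two hU i j hmove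
  have hX : X ∈ Us i := Submodule.subset_span ⟨1, one_mem _, by rw [F.perm_one]; rfl, by rw [map_one]; rfl⟩
  have h0 : (q * q') = 0 := hzero _ (hjn ▸ chainProd_tail j n q hq q' hq')
  have h1 : (⨆ (k) (_ : ∀ s ∈ derSub D.T j, F.perm s i ≠ k), Us k) ≤ LinearMap.ker (ψ ∘ₗ q) := by
    refine iSup₂_le fun k hk => Submodule.span_le.2 ?_
    rintro _ ⟨g, hg, rfl, rfl⟩
    exact hkill g hg fun e => hk 1 (one_mem _) (by rw [F.perm_one]; exact e.symm)
  have h2 : ψ (q (q' X - X)) = 0 := h1 (hqv X hX)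
  rw [map_sub, ← Module.End.mul_apply, h0, LinearMap.zero_apply, zero_sub, map_neg, neg_eq_zero] at h2
  exact h2

end Frame

end SymData

end Cfsg.Lib.TwoLength
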