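import Cfsg.Agent.TwoLength.DerivedLength.QuatBlock
import Cfsg.Agent.TwoLength.DerivedLength.ChainVec

/-!
The level before the last cannot fix the parts: the parts are counted, and the difference of a fixed class
is killed by the annihilation along the derived series.
-/

set_option linter.style.haveILetI false
set_option linter.unusedSectionVars false

namespace Cfsg.Lib.TwoLength

open Module Subgroup Cfsg.Lib.HallHigman
open scoped commutatorElement

universe u v w z t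

variable {K : Type u} [Field K] [CharP K 2] [IsAlgClosed K] {U : Type v} [AddCommGroup U] [Module K U] [Nontrivial U]
  [FiniteDimensional K U] {G : Type w} [Group G] [Finite G]

namespace SymData

namespace Frame

variable {ρ : G →* Module.End K U} {A : Type z} [CommGroup A] [Finite A] {D : SymData ρ A} {ι : Type t} [Fintype ι]
  (F : D.Frame ι)

/-- The layers of a part under the fixing level. -/
noncomputable def layer (r : ℕ) (k : ι) : ℕ → Submodule K U
  | 0 => F.W k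
  | m + 1 => Submodule.span K {v | ∃ x ∈ derSub D.T r, ∃ w ∈ layer r k m, ρ x w - w = v}

/-- The orbit of a part under a derived group. -/
noncomputable def orb (l : ℕ) (k : ι) : Finset ι :=
  haveI := Classical.decPred fun j => ∃ s ∈ derSub D.T l, F.perm s k = j
  Finset.univ.filter fun j => ∃ s ∈ derSub D.T l, F.perm s k = j

theorem mem_orb {l : ℕ} {k j : ι} : j ∈ F.orb l k ↔ ∃ s ∈ derSub D.T l, F.perm s k = j := by
  simp [orb]

theorem self_mem_orb (l : ℕ) (k : ι) : k ∈ F.orb l k := F.mem_orb.2 ⟨1, one_mem _, by rw [F.perm_one]; rfl⟩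

theorem orb_eq_of_mem {l : ℕ} {k j : ι} (h : j ∈ F.orb l k) : F.orb l j = F.orb l k := by
  obtain ⟨s, hs, rfl⟩ := F.mem_orb.1 h
  ext x
  simp only [mem_orb]
  constructor
  · rintro ⟨t, ht, rfl⟩
    exact ⟨t * s, mul_mem ht hs, by rw [F.perm_mul _ (derSub_le _ _ ht) _ (derSub_le _ _ hs)]; rfl⟩
  · rintro ⟨t, ht, rfl⟩
    refine ⟨t * s⁻¹, mul_mem ht (inv_mem hs), ?_⟩
    rw [F.perm_mul _ (derSub_le _ _ ht) _ (inv_mem (derSub_le _ _ hs)), Equiv.Perm.mul_apply,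
      F.perm_inv_apply (derSub_le _ _ hs)]

theorem orb_succ_subset (l : ℕ) (k : ι) : F.orb (l + 1) k ⊆ F.orb l k := fun x hx => by
  obtain ⟨s, hs, rfl⟩ := F.mem_orb.1 hx
  exact F.mem_orb.2 ⟨s, derSub_succ_le _ _ hs, rfl⟩

theorem orb_perm [DecidableEq ι] {g : G} (hg : g ∈ D.T) (l : ℕ) (k : ι) :
    F.orb l (F.perm g k) = (F.orb l k).image (F.perm g) := by
  ext x
  rw [mem_orb, Finset.mem_image]
  constructor
  · rintro ⟨s, hs, rfl⟩
    refine ⟨F.perm (g⁻¹ * s * g) k, F.mem_orb.2 ⟨_, by simpa using derSub_conj (inv_mem hg) hs, rfl⟩, ?_⟩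
    rw [← Equiv.Perm.mul_apply, ← F.perm_mul _ hg _ (mul_mem (mul_mem (inv_mem hg) (derSub_le _ _ hs)) hg),
      show g * (g⁻¹ * s * g) = s * g by group, F.perm_mul _ (derSub_le _ _ hs) _ hg, Equiv.Perm.mul_apply]
  · rintro ⟨y, hy, rfl⟩
    obtain ⟨s, hs, rfl⟩ := F.mem_orb.1 hy
    refine ⟨g * s * g⁻¹, derSub_conj hg hs, ?_⟩
    rw [F.perm_mul _ (mul_mem hg (derSub_le _ _ hs)) _ (inv_mem hg), F.perm_mul _ hg _ (derSub_le _ _ hs),
      Equiv.Perm.mul_apply, Equiv.Perm.mul_apply, F.perm_inv_apply hg]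

theorem sum_orb_inv [DecidableEq ι] {g : G} (hg : g ∈ D.T) (l : ℕ) (k : ι) (f : ι → K) :
    ∑ x ∈ F.orb l k, f ((F.perm g)⁻¹ x) = ∑ x ∈ F.orb l ((F.perm g)⁻¹ k), f x := by
  conv_rhs => rw [← F.perm_inv hg, F.orb_perm (inv_mem hg) l k, F.perm_inv hg]
  rw [Finset.sum_image fun a _ b _ e => ((F.perm g)⁻¹).injective e]

variable {F} {r : ℕ}

theorem layer_succ_le : ∀ (m : ℕ) (k : ι), (∀ x ∈ derSub D.T r, F.perm x k = k) →
    F.layer r k (m + 1) ≤ F.layer r k m := by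
  intro m
  induction m with
  | zero =>
    intro k hk
    refine Submodule.span_le.2 ?_
    rintro _ ⟨x, hx, w, hw, rfl⟩
    exact sub_mem (F.W_stab ⟨derSub_le _ _ hx, hk x hx⟩ hw) hw
  | succ m ih =>
    intro k hk
    refine Submodule.span_le.2 ?_
    rintro _ ⟨x, hx, w, hw, rfl⟩
    exact Submodule.subset_span ⟨x, hx, w, ih k hk hw, rfl⟩

theorem layer_rho {g : G} (hg : g ∈ D.T) :
    ∀ (m : ℕ) (k : ι) (w : U), w ∈ F.layer r k m → ρ g w ∈ F.layer r (F.perm g k) m := by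
  intro m
  induction m with
  | zero => exact fun k w hw => F.W_perm g hg k w hw
  | succ m ih =>
    intro k w hw
    refine (Submodule.span_le (p := (F.layer r (F.perm g k) (m + 1)).comap (ρ g))).2 ?_ hw
    rintro _ ⟨x, hx, u, hu, rfl⟩
    refine Submodule.subset_span ⟨g * x * g⁻¹, derSub_conj hg hx, ρ g u, ih k u hu, ?_⟩
    rw [map_sub, ← Module.End.mul_apply, ← map_mul, ← Module.End.mul_apply, ← map_mul, inv_mul_cancel_right]

theorem layer_sub {k : ι} {x : G} (hx : x ∈ derSub D.T r) {m : ℕ} {w : U} (hw : w ∈ F.layer r k m) :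
    ρ x w - w ∈ F.layer r k (m + 1) :=
  Submodule.subset_span ⟨x, hx, w, hw, rfl⟩

theorem QHyp.no_quat [Nontrivial ι] (H : F.QHyp r) (hr : 1 ≤ r) : False := by
  classical
  have hlayerW : ∀ m k, F.layer r k m ≤ F.W k := by
    intro m k
    induction m with
    | zero => exact le_rfl
    | succ m ih => exact (layer_succ_le m k fun x hx => H.fixes.fix x hx k).trans ih
  -- a fixed class on the last level
  let K₀ : Subgroup G :=
    { carrier := {y | y ∈ derSub D.T (r + 1) ∧ D.act y = 1}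
      one_mem' := ⟨one_mem _, D.act_one⟩
      mul_mem' := fun {a b} ha hb => ⟨mul_mem ha.1 hb.1, by
        rw [D.act_mul (derSub_le _ _ ha.1) (derSub_le _ _ hb.1), ha.2, hb.2, one_mul]⟩
      inv_mem' := fun {a} ha => ⟨inv_mem ha.1, by rw [D.act_inv (derSub_le _ _ ha.1), ha.2, inv_one]⟩ }
  obtain ⟨ys, hys, hys0, hysf⟩ := exists_fixed_class D.two (derSub_le _ (r + 1)) (N₀ := K₀) (fun y hy => hy.1)
    (fun g hg x hx => derSub_conj hg hx)
    (fun g hg x hx => ⟨derSub_conj hg hx.1, by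
      rw [D.act_mul (mul_mem hg (derSub_le _ _ hx.1)) (inv_mem hg), D.act_mul hg (derSub_le _ _ hx.1), hx.2, mul_one,
        D.act_inv hg, mul_inv_cancel]⟩)
    (fun h => by
      obtain ⟨i, y, hy, a, ha, hne⟩ := H.some_moved
      exact hne (by rw [(h hy).2]; rfl))
  have hysT : ys ∈ D.T := derSub_le _ _ hys
  have hysconj : ∀ g ∈ D.T, D.act (g * ys * g⁻¹) = D.act ys := fun g hg => by
    have hcT : g * ys * g⁻¹ ∈ D.T := mul_mem (mul_mem hg hysT) (inv_mem hg)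
    have := (hysf g hg).2
    rw [D.act_mul hcT (inv_mem hysT), D.act_inv hysT, mul_inv_eq_one] at this
    exact this
  have hysne : ∀ k, F.bt k ⟨ys, H.memY hys⟩ ≠ 1 := by
    intro k h
    refine hys0 ⟨hys, MulEquiv.ext fun a => ?_⟩
    obtain ⟨f, hf, rfl⟩ := F.exists_prod_eq a
    rw [map_prod, MulAut.one_apply]
    refine Finset.prod_congr rfl fun l _ => ?_
    obtain ⟨g, hg, rfl⟩ := H.trans k l
    have ha : D.act g⁻¹ (f (F.perm g k)) ∈ F.blk k := by
      have := F.perm_spec g⁻¹ (inv_mem hg) _ _ (hf (F.perm g k))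
      rwa [F.perm_inv_apply hg] at this
    have h1 : D.act ys (D.act g⁻¹ (f (F.perm g k))) = D.act g⁻¹ (f (F.perm g k)) :=
      congrArg Subtype.val (DFunLike.congr_fun h (⟨_, ha⟩ : F.blk k))
    rw [← hysconj g hg, D.act_mul (mul_mem hg hysT) (inv_mem hg), D.act_mul hg hysT, MulAut.mul_apply,
      MulAut.mul_apply, h1, D.act_inv hg, MulAut.apply_inv_self]
  have hysinv : ∀ k, F.Inverts k ⟨ys, H.memY hys⟩ := fun k => H.inverts hys (hysne k)
  have hinv_ne : ∀ k (x : F.stab k), F.Inverts k x → F.bt k x ≠ 1 := fun k x hx h =>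
    hysne k ((Inverts.eq (hysinv k) hx).trans h)
  -- a fixed class on the fixing level
  let N₀ : Subgroup G :=
    { carrier := {z | z ∈ derSub D.T r ∧ ∀ w ∈ derSub D.T r, D.act z * D.act w = D.act w * D.act z}
      one_mem' := ⟨one_mem _, fun w _ => by rw [D.act_one, one_mul, mul_one]⟩
      mul_mem' := fun {a b} ha hb => ⟨mul_mem ha.1 hb.1, fun w hw => by
        rw [D.act_mul (derSub_le _ _ ha.1) (derSub_le _ _ hb.1), mul_assoc, hb.2 w hw, ← mul_assoc, ha.2 w hw, mul_assoc]⟩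
      inv_mem' := fun {a} ha => ⟨inv_mem ha.1, fun w hw => by
        rw [D.act_inv (derSub_le _ _ ha.1)]
        exact (show Commute (D.act a) (D.act w) from ha.2 w hw).inv_left.eq⟩ }
  obtain ⟨z₀, hz₀, hz₀0, hz₀f⟩ := exists_fixed_class D.two (derSub_le _ r) (N₀ := N₀) (fun y hy => hy.1)
    (fun g hg x hx => derSub_conj hg hx)
    (fun g hg x hx => ⟨derSub_conj hg hx.1, fun w hw => by
      have hxT := derSub_le _ _ hx.1
      have hw' : g⁻¹ * w * g ∈ derSub D.T r := by simpa using derSub_conj (inv_mem hg) hw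
      have hgx : g * x * g⁻¹ ∈ D.T := mul_mem (mul_mem hg hxT) (inv_mem hg)
      have h := hx.2 _ hw'
      rw [D.act_mul (mul_mem (inv_mem hg) (derSub_le _ _ hw)) hg, D.act_mul (inv_mem hg) (derSub_le _ _ hw),
        D.act_inv hg] at h
      rw [D.act_mul (mul_mem hg hxT) (inv_mem hg), D.act_mul hg hxT, D.act_inv hg]
      calc D.act g * D.act x * (D.act g)⁻¹ * D.act w
          = D.act g * (D.act x * ((D.act g)⁻¹ * D.act w * D.act g)) * (D.act g)⁻¹ := by group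
        _ = D.act g * ((D.act g)⁻¹ * D.act w * D.act g * D.act x) * (D.act g)⁻¹ := by rw [h]
        _ = D.act w * (D.act g * D.act x * (D.act g)⁻¹) := by group⟩)
    (fun h => by
      obtain ⟨i, -⟩ := H.some_moved
      obtain ⟨a, ha, b, hb, hab⟩ := H.exists_pair i
      refine hab (MulEquiv.ext fun x => Subtype.ext ?_)
      exact DFunLike.congr_fun ((h ha).2 b hb) (x : A))
  have hz₀T : z₀ ∈ D.T := derSub_le _ _ hz₀
  -- central elements of the fixing level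
  have hN₀ : ∀ c ∈ N₀, ∀ k, ∀ hc : c ∈ derSub D.T r,
      F.bt k ⟨c, H.memZ hc⟩ = 1 ∨ F.Inverts k ⟨c, H.memZ hc⟩ := by
    intro c hc k hcZ
    rcases H.sq_cases (i := k) ⟨c, H.memZ hcZ⟩ with h | h | h
    · exact Or.inl h
    · exact Or.inr h
    · refine absurd (H.central_sq (i := k) ⟨c, H.memZ hcZ⟩ fun w hw => ?_) (hinv_ne k _ h)
      exact MulEquiv.ext fun x => Subtype.ext (DFunLike.congr_fun (hc.2 w hw) (x : A))
  have hz₀sq : ∀ k, F.Inverts k (⟨z₀, H.memZ hz₀⟩ * ⟨z₀, H.memZ hz₀⟩) := by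
    intro k
    suffices hnc : ¬ ∀ w, ∀ hw : w ∈ derSub D.T r, F.bt k ⟨z₀, H.memZ hz₀⟩ * F.bt k ⟨w, H.memZ hw⟩ =
        F.bt k ⟨w, H.memZ hw⟩ * F.bt k ⟨z₀, H.memZ hz₀⟩ by
      rcases H.sq_cases (i := k) ⟨z₀, H.memZ hz₀⟩ with h | h | h
      · exact absurd (fun w hw => by rw [h, one_mul, mul_one]) hnc
      · exact absurd (fun w hw => by rw [← map_mul, ← map_mul, h.comm]) hnc
      · exact h
    intro hcen
    refine hz₀0 ⟨hz₀, fun w hw => MulEquiv.ext fun a => ?_⟩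
    obtain ⟨f, hf, rfl⟩ := F.exists_prod_eq a
    rw [map_prod, map_prod]
    refine Finset.prod_congr rfl fun l _ => ?_
    obtain ⟨g, hg, rfl⟩ := H.trans k l
    set m := f (F.perm g k)
    have hwT := derSub_le _ _ hw
    have hw' : g⁻¹ * w * g ∈ derSub D.T r := by simpa using derSub_conj (inv_mem hg) hw
    have ha : D.act g⁻¹ m ∈ F.blk k := by
      have := F.perm_spec g⁻¹ (inv_mem hg) _ _ (hf (F.perm g k))
      rwa [F.perm_inv_apply hg] at this
    have h1 : D.act z₀ (D.act (g⁻¹ * w * g) (D.act g⁻¹ m)) = D.act (g⁻¹ * w * g) (D.act z₀ (D.act g⁻¹ m)) :=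
      congrArg Subtype.val (DFunLike.congr_fun (hcen _ hw') (⟨_, ha⟩ : F.blk k))
    obtain ⟨c, hc, hce⟩ : ∃ c ∈ N₀, g⁻¹ * z₀ * g = c * z₀ :=
      ⟨_, hz₀f g⁻¹ (inv_mem hg), by group⟩
    have hcT := derSub_le _ _ hc.1
    have hge : z₀ * g⁻¹ = c⁻¹ * (g⁻¹ * z₀) := by
      calc z₀ * g⁻¹ = c⁻¹ * (c * z₀) * g⁻¹ := by group
        _ = c⁻¹ * (g⁻¹ * z₀ * g) * g⁻¹ := by rw [hce]
        _ = c⁻¹ * (g⁻¹ * z₀) := by group
    have he : D.act z₀ * D.act g⁻¹ = D.act c⁻¹ * (D.act g⁻¹ * D.act z₀) := by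
      rw [← D.act_mul hz₀T (inv_mem hg), ← D.act_mul (inv_mem hg) hz₀T,
        ← D.act_mul (inv_mem hcT) (mul_mem (inv_mem hg) hz₀T), hge]
    have h2 : ∀ x : A, D.act z₀ (D.act g⁻¹ x) = D.act c⁻¹ (D.act g⁻¹ (D.act z₀ x)) := fun x =>
      DFunLike.congr_fun he x
    have hback : ∀ x : A, D.act g (D.act g⁻¹ x) = x := fun x => by rw [D.act_inv hg, MulAut.apply_inv_self]
    have h3 : ∀ x : A, D.act (g⁻¹ * w * g) (D.act g⁻¹ x) = D.act g⁻¹ (D.act w x) := fun x => by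
      rw [D.act_mul (mul_mem (inv_mem hg) hwT) hg, D.act_mul (inv_mem hg) hwT, MulAut.mul_apply, MulAut.mul_apply, hback]
    rw [h3, h2, h2] at h1
    have h4 : ∀ x : A, D.act (g⁻¹ * w * g) (D.act c⁻¹ x) = D.act c⁻¹ (D.act (g⁻¹ * w * g) x) := fun x => by
      have := ((inv_mem hc : c⁻¹ ∈ N₀).2 _ hw')
      exact (DFunLike.congr_fun this x).symm
    rw [h4, h3] at h1
    rw [MulAut.mul_apply, MulAut.mul_apply]
    exact (D.act g⁻¹).injective ((D.act c⁻¹).injective h1)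
  have hρsq : ∀ k, ∀ w ∈ F.W k, ρ z₀ (ρ z₀ w) = ρ ys w := fun k w hw => by
    rw [← Module.End.mul_apply, ← map_mul]
    exact F.rho_stab_eq (g := ⟨z₀, H.memZ hz₀⟩ * ⟨z₀, H.memZ hz₀⟩) (h := ⟨ys, H.memY hys⟩)
      ((hz₀sq k).eq (hysinv k)) hw
  have hcases : ∀ k c, c ∈ N₀ → (∀ w ∈ F.W k, ρ c w = w) ∨ (∀ w ∈ F.W k, ρ c w = ρ ys w) := fun k c hc =>
    (hN₀ c hc k hc.1).imp (fun h => (F.bt_one_iff _).1 h) fun h w hw => F.rho_stab_eq (h.eq (hysinv k)) hw
  have hysg : ∀ g ∈ D.T, ∀ k, ∀ w ∈ F.W k, ρ (g * ys * g⁻¹) w = ρ ys w := fun g hg k w hw => by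
    refine F.rho_stab_eq (g := ⟨g * ys * g⁻¹, H.memY (derSub_conj hg hys)⟩) (h := ⟨ys, H.memY hys⟩) ?_ hw
    refine MulEquiv.ext fun a => Subtype.ext ?_
    rw [F.bt_apply, F.bt_apply, hysconj g hg]
  have hyscomm : ∀ k x, x ∈ F.stab k → ∀ w ∈ F.W k, ρ ys (ρ x w) = ρ x (ρ ys w) := fun k x hx w hw => by
    rw [← Module.End.mul_apply, ← map_mul, ← Module.End.mul_apply, ← map_mul]
    exact F.rho_stab_eq (g := ⟨ys, H.memY hys⟩ * ⟨x, hx⟩) (h := ⟨x, hx⟩ * ⟨ys, H.memY hys⟩) ((hysinv k).comm _) hw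
  have hNW : ∀ k, ∀ w ∈ F.W k, ρ ys w - w ∈ F.layer r k 2 := by
    intro k w hw
    have e : ρ ys w - w = ρ z₀ (ρ z₀ w - w) - (ρ z₀ w - w) := by
      rw [← hρsq k w hw]
      have := LinearMap.congr_fun (sub_one_sq (ρ z₀)) w
      simp only [Module.End.mul_apply, LinearMap.sub_apply, Module.End.one_apply, map_sub] at this ⊢
      exact this.symm
    rw [e]
    exact layer_sub hz₀ (layer_sub hz₀ (m := 0) hw)
  have hNI : ∀ k, ∀ d ∈ F.layer r k 1, ρ ys d - d ∈ F.layer r k 3 := by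
    intro k d hd
    have hd' : d ∈ Submodule.span K {v | ∃ x ∈ derSub D.T r, ∃ w ∈ F.layer r k 0, ρ x w - w = v} := hd
    induction hd' using Submodule.span_induction with
    | mem v hv =>
      obtain ⟨x, hx, w, hw, rfl⟩ := hv
      have e : ρ ys (ρ x w - w) - (ρ x w - w) = ρ x (ρ ys w - w) - (ρ ys w - w) := by
        rw [map_sub, map_sub, hyscomm k x (H.memZ hx) w hw]; abel
      rw [e]
      exact layer_sub hx (hNW k w hw)
    | zero => simp
    | add a b _ _ ha hb =>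
      rw [map_add, show ρ ys a + ρ ys b - (a + b) = (ρ ys a - a) + (ρ ys b - b) by abel]
      exact add_mem (ha ‹_›) (hb ‹_›)
    | smul c a _ ha =>
      rw [map_smul, ← smul_sub]
      exact Submodule.smul_mem _ c (ha ‹_›)
  -- the base part
  obtain ⟨i₀, -⟩ := H.some_moved
  obtain ⟨a, ha, b, hb, hab⟩ := H.exists_pair i₀
  obtain ⟨nv, hnv⟩ : ∃ V : Submodule K U, (∀ w ∈ F.W i₀, ∀ x ∈ derSub D.T r,
      ρ ys (ρ x w - w) - (ρ x w - w) ∈ V) ∧ (∀ x ∈ derSub D.T r, ∀ v ∈ V, ρ x v ∈ V) ∧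
      ∃ w ∈ F.W i₀, ρ ys w - w ∉ V := by
    by_cases hline : ∀ w ∈ F.W i₀, ρ ys w - w ∈ K ∙ F.e i₀
    · refine ⟨⊥, fun w hw x hx => ?_, fun x _ v hv => by rw [Submodule.mem_bot] at hv ⊢; rw [hv, map_zero], ?_⟩
      · obtain ⟨c, hc⟩ := Submodule.mem_span_singleton.1 (hline w hw)
        rw [Submodule.mem_bot, map_sub, hyscomm i₀ x (H.memZ hx) w hw,
          show ρ x (ρ ys w) - ρ ys w - (ρ x w - w) = ρ x (ρ ys w - w) - (ρ ys w - w) by rw [map_sub]; abel, ← hc,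
          map_smul, H.e_fix hx, sub_self]
      · by_contra hh
        push Not at hh
        exact hysne i₀ ((F.bt_one_iff _).2 fun w hw => sub_eq_zero.1 ((Submodule.mem_bot K).1 (hh w hw)))
    · push Not at hline
      refine ⟨K ∙ F.e i₀, fun w hw x hx => ?_, fun x hx v hv => ?_, hline⟩
      · have h := H.line hys hx hw
        simpa only [Module.End.mul_apply, LinearMap.sub_apply, Module.End.one_apply] using h
      · obtain ⟨c, rfl⟩ := Submodule.mem_span_singleton.1 hv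
        rw [map_smul, H.e_fix hx]
        exact Submodule.smul_mem _ _ (Submodule.mem_span_singleton_self _)
  obtain ⟨hV1, hV2, w₀, hw₀, hw₀V⟩ := hnv
  have hsame : ∀ {x : G} (hx : x ∈ derSub D.T r) (c : F.stab i₀), F.bt i₀ c = F.bt i₀ ⟨x, H.memZ hx⟩ →
      ∀ w ∈ F.W i₀, ρ (c : G) w = ρ x w := fun hx c e w hw => F.rho_stab_eq (h := ⟨_, H.memZ hx⟩) e hw
  have hroot : ∀ x, ∀ hx : x ∈ derSub D.T r, ∀ x', ∀ hx' : x' ∈ derSub D.T r,
      F.bt i₀ ⟨x, H.memZ hx⟩ * F.bt i₀ ⟨x', H.memZ hx'⟩ ≠ F.bt i₀ ⟨x', H.memZ hx'⟩ * F.bt i₀ ⟨x, H.memZ hx⟩ →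
      ∀ w ∈ F.W i₀, ρ x (ρ x w) = ρ ys w := by
    intro x hx x' hx' hne w hw
    rcases H.sq_cases (i := i₀) ⟨x, H.memZ hx⟩ with h | h | h
    · exact absurd (by rw [h, one_mul, mul_one]) hne
    · exact absurd (by rw [← map_mul, ← map_mul, h.comm]) hne
    · rw [← Module.End.mul_apply, ← map_mul]
      exact F.rho_stab_eq (g := ⟨x, H.memZ hx⟩ * ⟨x, H.memZ hx⟩) (h := ⟨ys, H.memY hys⟩) (h.eq (hysinv i₀)) hw
  have haa : ∀ w ∈ F.W i₀, ρ a (ρ a w - w) - (ρ a w - w) = ρ ys w - w := fun w hw => by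
    have := LinearMap.congr_fun (sub_one_sq (ρ a)) w
    simp only [Module.End.mul_apply, LinearMap.sub_apply, Module.End.one_apply] at this
    rw [this, hroot a ha b hb hab w hw]
  have hbb : ∀ w ∈ F.W i₀, ρ b (ρ b w - w) - (ρ b w - w) = ρ ys w - w := fun w hw => by
    have := LinearMap.congr_fun (sub_one_sq (ρ b)) w
    simp only [Module.End.mul_apply, LinearMap.sub_apply, Module.End.one_apply] at this
    rw [this, hroot b hb a ha (fun e => hab e.symm) w hw]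
  have habw : ∀ w ∈ F.W i₀, ρ a (ρ b w) = ρ ys (ρ b (ρ a w)) := by
    intro w hw
    have hc : ⁅a, b⁆ ∈ derSub D.T (r + 1) := commutator_mem_commutator ha hb
    have hne : F.bt i₀ ⟨⁅a, b⁆, H.memY hc⟩ ≠ 1 := by
      rw [show (⟨⁅a, b⁆, H.memY hc⟩ : F.stab i₀) = ⁅(⟨a, H.memZ ha⟩ : F.stab i₀), ⟨b, H.memZ hb⟩⁆ from rfl,
        map_commutatorElement, Ne, commutatorElement_eq_one_iff_mul_comm]
      exact hab
    have hbaW : ρ (b * a) w ∈ F.W i₀ := F.W_stab (mul_mem (H.memZ hb) (H.memZ ha)) hw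
    have h1 := F.rho_stab_eq ((H.inverts hc hne).eq (hysinv i₀)) hbaW
    rw [← Module.End.mul_apply (ρ b), ← map_mul, ← h1, ← Module.End.mul_apply, ← map_mul, ← Module.End.mul_apply,
      ← map_mul]
    congr 2
    simp only [commutatorElement_def]; group
  set X : Module.End K U := ρ a - 1 with hX
  set Y : Module.End K U := ρ b - 1 with hY
  have hXW : ∀ w ∈ F.W i₀, X w ∈ F.W i₀ := fun w hw => sub_mem (F.W_stab (H.memZ ha) hw) hw
  have hYW : ∀ w ∈ F.W i₀, Y w ∈ F.W i₀ := fun w hw => sub_mem (F.W_stab (H.memZ hb) hw) hw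
  have hcommXY : ∀ w ∈ F.W i₀, X (Y w) = Y (X w) + (ρ ys (ρ b (ρ a w)) - ρ b (ρ a w)) := fun w hw => by
    simp only [hX, hY, LinearMap.sub_apply, Module.End.one_apply, map_sub]
    rw [habw w hw]
    abel
  have hgen : ∀ m, F.layer r i₀ (m + 1) ≤ (F.layer r i₀ m).map X ⊔ (F.layer r i₀ m).map Y := by
    intro m
    have hinvm : ∀ x ∈ F.stab i₀, ∀ w ∈ F.layer r i₀ m, ρ x w ∈ F.layer r i₀ m := fun x hx w hw => by
      have := layer_rho (F := F) hx.1 m i₀ w hw
      rwa [hx.2] at this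
    set J := (F.layer r i₀ m).map X ⊔ (F.layer r i₀ m).map Y with hJ
    let S : Subgroup (F.stab i₀) :=
      { carrier := {x | ∀ w ∈ F.layer r i₀ m, ρ (x : G) w - w ∈ J}
        one_mem' := fun w _ => by simp
        mul_mem' := fun {x y} hx hy w hw => by
          rw [Subgroup.coe_mul, map_mul, Module.End.mul_apply,
            show ρ (x : G) (ρ (y : G) w) - w = (ρ (x : G) (ρ (y : G) w) - ρ (y : G) w) + (ρ (y : G) w - w) by abel]
          exact add_mem (hx _ (hinvm _ y.2 w hw)) (hy w hw)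
        inv_mem' := fun {x} hx w hw => by
          have h := hx _ (hinvm _ (inv_mem x.2) w hw)
          rw [Subgroup.coe_inv]
          rw [← Module.End.mul_apply, rho_mul_inv, Module.End.one_apply] at h
          rw [← neg_sub]
          exact neg_mem h }
    refine Submodule.span_le.2 ?_
    rintro _ ⟨x, hx, w, hw, rfl⟩
    have htop := closure_pair_eq_top (H.image_dvd i₀) (a := F.img i₀ ⟨a, H.memZ ha⟩) (b := F.img i₀ ⟨b, H.memZ hb⟩)
      fun e => hab (congrArg Subtype.val e)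
    have hle : closure ({F.img i₀ ⟨a, H.memZ ha⟩, F.img i₀ ⟨b, H.memZ hb⟩} : Set (F.loc0 i₀).tau.range) ≤
        S.map (F.img i₀) := by
      refine (closure_le _).2 fun y hy => ?_
      rcases hy with rfl | rfl
      · exact mem_map_of_mem _ fun w hw => Submodule.mem_sup_left ⟨w, hw, rfl⟩
      · exact mem_map_of_mem _ fun w hw => Submodule.mem_sup_right ⟨w, hw, rfl⟩
    obtain ⟨x', hx', hxe⟩ := hle (htop ▸ mem_top (F.img i₀ ⟨x, H.memZ hx⟩))
    rw [← hsame hx x' (congrArg Subtype.val hxe) w (hlayerW m i₀ hw)]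
    exact hx' w hw
  have hI3 : F.layer r i₀ 3 ≤ nv := by
    have hV : ∀ w ∈ F.W i₀, ρ ys (X w) - X w ∈ nv ∧ ρ ys (Y w) - Y w ∈ nv := fun w hw => ⟨hV1 w hw a ha, hV1 w hw b hb⟩
    have hXN : ∀ w ∈ F.W i₀, X (ρ ys w - w) = ρ ys (X w) - X w := fun w hw => by
      simp only [hX, LinearMap.sub_apply, Module.End.one_apply, map_sub]
      rw [hyscomm i₀ a (H.memZ ha) w hw]; try abel
    have hYN : ∀ w ∈ F.W i₀, Y (ρ ys w - w) = ρ ys (Y w) - Y w := fun w hw => by
      simp only [hY, LinearMap.sub_apply, Module.End.one_apply, map_sub]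
      rw [hyscomm i₀ b (H.memZ hb) w hw]; try abel
    have hba : ∀ w ∈ F.W i₀, ∀ Z : Module.End K U, (∀ u ∈ F.W i₀, Z u ∈ F.W i₀ ∧ ρ ys (Z u) - Z u ∈ nv) →
        ρ ys (ρ b (ρ a (Z w))) - ρ b (ρ a (Z w)) ∈ nv := by
      intro w hw Z hZ
      rw [hyscomm i₀ b (H.memZ hb) _ (F.W_stab (H.memZ ha) (hZ w hw).1), hyscomm i₀ a (H.memZ ha) _ (hZ w hw).1,
        ← map_sub, ← map_sub]
      exact hV2 b hb _ (hV2 a ha _ (hZ w hw).2)
    have hXX : ∀ w ∈ F.W i₀, X (X w) = ρ ys w - w := fun w hw => haa w hw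
    have hYY : ∀ w ∈ F.W i₀, Y (Y w) = ρ ys w - w := fun w hw => hbb w hw
    have h1 : ∀ w ∈ F.W i₀, X (X (X w)) ∈ nv ∧ X (X (Y w)) ∈ nv ∧ X (Y (X w)) ∈ nv ∧ X (Y (Y w)) ∈ nv ∧
        Y (X (X w)) ∈ nv ∧ Y (X (Y w)) ∈ nv ∧ Y (Y (X w)) ∈ nv ∧ Y (Y (Y w)) ∈ nv := by
      intro w hw
      refine ⟨?_, ?_, ?_, ?_, ?_, ?_, ?_, ?_⟩
      · rw [hXX _ (hXW w hw)]; exact (hV w hw).1
      · rw [hXX _ (hYW w hw)]; exact (hV w hw).2
      · rw [hcommXY _ (hXW w hw), hXX w hw, hYN w hw]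
        exact add_mem (hV w hw).2 (hba w hw X fun u hu => ⟨hXW u hu, (hV u hu).1⟩)
      · rw [hYY w hw, hXN w hw]; exact (hV w hw).1
      · rw [hXX w hw, hYN w hw]; exact (hV w hw).2
      · have e := hcommXY _ (hYW w hw)
        rw [hYY w hw, hXN w hw] at e
        rw [show Y (X (Y w)) = (ρ ys (X w) - X w) - (ρ ys (ρ b (ρ a (Y w))) - ρ b (ρ a (Y w))) from
          eq_sub_of_add_eq e.symm]
        exact sub_mem (hV w hw).1 (hba w hw Y fun u hu => ⟨hYW u hu, (hV u hu).2⟩)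
      · rw [hYY _ (hXW w hw)]; exact (hV w hw).1
      · rw [hYY _ (hYW w hw)]; exact (hV w hw).2
    refine (hgen 2).trans (sup_le ?_ ?_) <;>
      refine Submodule.map_le_iff_le_comap.2 ((hgen 1).trans (sup_le ?_ ?_)) <;>
        refine Submodule.map_le_iff_le_comap.2 ((hgen 0).trans (sup_le ?_ ?_)) <;>
          refine Submodule.map_le_iff_le_comap.2 fun w hw => ?_
    all_goals simp only [Submodule.mem_comap]
    · exact (h1 w hw).1
    · exact (h1 w hw).2.1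
    · exact (h1 w hw).2.2.1
    · exact (h1 w hw).2.2.2.1
    · exact (h1 w hw).2.2.2.2.1
    · exact (h1 w hw).2.2.2.2.2.1
    · exact (h1 w hw).2.2.2.2.2.2.1
    · exact (h1 w hw).2.2.2.2.2.2.2
  obtain ⟨ω₀, hω₀w, hω₀V⟩ := exists_functional_off (K := K) hw₀V
  have hω₀3 : ∀ v ∈ F.layer r i₀ 3, ω₀ v = 0 := fun v hv => hω₀V v (hI3 hv)
  -- transport
  choose tr htr htri using fun k => H.trans i₀ k
  have hbackk : ∀ k, F.perm (tr k)⁻¹ k = i₀ := fun k => by
    conv_lhs => arg 2; rw [← htri k]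
    exact F.perm_inv_apply (htr k) i₀
  let ω : ι → U →ₗ[K] K := fun k => ω₀ ∘ₗ ρ (tr k)⁻¹
  let lam : ι → U →ₗ[K] K := fun k => ω k ∘ₗ (ρ ys - 1)
  let η : ι → U →ₗ[K] K := fun k => ω k ∘ₗ (ρ z₀ - 1)
  let uu : ι → U := fun k => ρ (tr k) w₀
  have hlamdef : ∀ k w, lam k w = ω k (ρ ys w) - ω k w := fun k w => map_sub (ω k) _ _
  have hηdef : ∀ k w, η k w = ω k (ρ z₀ w) - ω k w := fun k w => map_sub (ω k) _ _
  have huu : ∀ k, uu k ∈ F.W k := fun k => by
    have := F.W_perm _ (htr k) i₀ _ hw₀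
    rwa [htri k] at this
  have hω3 : ∀ k, ∀ v ∈ F.layer r k 3, ω k v = 0 := fun k v hv => hω₀3 _ (by
    have := layer_rho (F := F) (inv_mem (htr k)) 3 k v hv
    rwa [hbackk k] at this)
  have hω2 : ∀ g ∈ D.T, ∀ q, ∀ v ∈ F.layer r q 2, ω (F.perm g q) (ρ g v) = ω q v := by
    intro g hg q v hv
    set c := (tr (F.perm g q))⁻¹ * g * tr q with hc
    have hcs : c ∈ F.stab i₀ := by
      refine ⟨mul_mem (mul_mem (inv_mem (htr _)) hg) (htr q), ?_⟩
      rw [hc, F.perm_mul _ (mul_mem (inv_mem (htr _)) hg) _ (htr q), F.perm_mul _ (inv_mem (htr _)) _ hg,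
        Equiv.Perm.mul_apply, Equiv.Perm.mul_apply, htri q, hbackk]
    obtain ⟨x, hx, hxe⟩ := H.stab_eq ⟨c, hcs⟩
    set v₀ := ρ (tr q)⁻¹ v with hv₀
    have hv₀2 : v₀ ∈ F.layer r i₀ 2 := by
      have := layer_rho (F := F) (inv_mem (htr q)) 2 q v hv
      rwa [hbackk q] at this
    have h1 : ρ (tr (F.perm g q))⁻¹ (ρ g v) = ρ c v₀ := by
      rw [← Module.End.mul_apply, ← map_mul, hv₀, ← Module.End.mul_apply, ← map_mul, hc]
      congr 2
      group
    show ω₀ (ρ (tr (F.perm g q))⁻¹ (ρ g v)) = ω₀ v₀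
    rw [h1, hsame hx ⟨c, hcs⟩ hxe v₀ (hlayerW 2 i₀ hv₀2), ← sub_eq_zero, ← map_sub]
    exact hω₀3 _ (layer_sub hx hv₀2)
  have hlam1 : ∀ k, ∀ d ∈ F.layer r k 1, lam k d = 0 := fun k d hd => by
    rw [hlamdef, ← map_sub]; exact hω3 k _ (hNI k d hd)
  have hysback : ∀ g ∈ D.T, ∀ q, ∀ w ∈ F.W q, ρ g⁻¹ (ρ ys (ρ g w)) = ρ ys w := fun g hg q w hw => by
    rw [← Module.End.mul_apply, ← map_mul, ← Module.End.mul_apply, ← map_mul]
    have := hysg g⁻¹ (inv_mem hg) q w hw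
    rwa [inv_inv] at this
  have hρback : ∀ (g : G) (v : U), ρ g (ρ g⁻¹ v) = v := fun g v => by
    rw [← Module.End.mul_apply, rho_mul_inv]; rfl
  have hlaminv : ∀ g ∈ D.T, ∀ q, ∀ w ∈ F.W q, lam (F.perm g q) (ρ g w) = lam q w := fun g hg q w hw => by
    have e : ρ ys (ρ g w) - ρ g w = ρ g (ρ ys w - w) := by
      rw [map_sub, ← hysback g hg q w hw, hρback]
    rw [hlamdef, ← map_sub, e, hω2 g hg q _ (hNW q w hw), map_sub, ← hlamdef]
  have hlamu : ∀ k, lam k (uu k) = 1 := fun k => by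
    have h := hlaminv (tr k) (htr k) i₀ w₀ hw₀
    rw [htri k] at h
    show lam k (ρ (tr k) w₀) = 1
    rw [h, hlamdef, ← map_sub]
    have h2 := hω2 (tr i₀)⁻¹ (inv_mem (htr i₀)) i₀ _ (hNW i₀ w₀ hw₀)
    rw [hbackk i₀] at h2
    rw [← h2]
    show ω₀ (ρ (tr i₀)⁻¹ (ρ (tr i₀)⁻¹ (ρ ys w₀ - w₀))) = 1
    have hs : (tr i₀)⁻¹ * (tr i₀)⁻¹ ∈ F.stab i₀ := by
      have h3 : (tr i₀)⁻¹ ∈ F.stab i₀ := ⟨inv_mem (htr i₀), hbackk i₀⟩
      exact mul_mem h3 h3
    obtain ⟨x, hx, hxe⟩ := H.stab_eq ⟨_, hs⟩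
    rw [← Module.End.mul_apply, ← map_mul, hsame hx ⟨_, hs⟩ hxe _ (hlayerW 2 i₀ (hNW i₀ w₀ hw₀))]
    have h4 := hω₀3 _ (layer_sub hx (hNW i₀ w₀ hw₀))
    rw [map_sub, sub_eq_zero] at h4
    rw [h4]
    exact hω₀w
  have hshift : ∀ g ∈ D.T, ∀ q, ρ g (uu q) - uu (F.perm g q) ∈ F.layer r (F.perm g q) 1 := by
    intro g hg q
    set c := (tr (F.perm g q))⁻¹ * g * tr q with hc
    have hcs : c ∈ F.stab i₀ := by
      refine ⟨mul_mem (mul_mem (inv_mem (htr _)) hg) (htr q), ?_⟩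
      rw [hc, F.perm_mul _ (mul_mem (inv_mem (htr _)) hg) _ (htr q), F.perm_mul _ (inv_mem (htr _)) _ hg,
        Equiv.Perm.mul_apply, Equiv.Perm.mul_apply, htri q, hbackk]
    obtain ⟨x, hx, hxe⟩ := H.stab_eq ⟨c, hcs⟩
    have h1 : ρ g (uu q) - uu (F.perm g q) = ρ (tr (F.perm g q)) (ρ c w₀ - w₀) := by
      rw [map_sub]
      show ρ g (ρ (tr q) w₀) - ρ (tr (F.perm g q)) w₀ = _
      rw [← Module.End.mul_apply, ← map_mul, ← Module.End.mul_apply, ← map_mul, hc]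
      congr 3
      group
    rw [h1, hsame hx ⟨c, hcs⟩ hxe w₀ hw₀]
    have h2 := layer_rho (F := F) (htr (F.perm g q)) 1 i₀ _ (layer_sub hx (m := 0) hw₀)
    rwa [htri] at h2
  have hηinv : ∀ g ∈ D.T, ∀ q, ∀ d ∈ F.layer r q 1, η (F.perm g q) (ρ g d) = η q d := by
    intro g hg q d hd
    obtain ⟨c, hc, hce⟩ : ∃ c ∈ N₀, g⁻¹ * z₀ * g = c * z₀ :=
      ⟨_, hz₀f g⁻¹ (inv_mem hg), by group⟩
    have hz₀d : ρ z₀ d ∈ F.layer r q 1 := by
      have := layer_rho (F := F) hz₀T 1 q d hd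
      rwa [H.fixes.fix z₀ hz₀ q] at this
    have hc3 : ρ c (ρ z₀ d) - ρ z₀ d ∈ F.layer r q 3 := by
      rcases hcases q c hc with h | h
      · rw [h _ (hlayerW 1 q hz₀d), sub_self]; exact zero_mem _
      · rw [h _ (hlayerW 1 q hz₀d)]; exact hNI q _ hz₀d
    have e : ρ z₀ (ρ g d) - ρ g d = ρ g (ρ z₀ d - d) + ρ g (ρ c (ρ z₀ d) - ρ z₀ d) := by
      rw [← map_add, show ρ z₀ d - d + (ρ c (ρ z₀ d) - ρ z₀ d) = ρ c (ρ z₀ d) - d by abel, map_sub,
        ← Module.End.mul_apply, ← map_mul, ← Module.End.mul_apply (ρ c), ← map_mul, ← hce, ← Module.End.mul_apply,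
        ← map_mul]
      congr 3
      group
    have h2 : ρ g (ρ c (ρ z₀ d) - ρ z₀ d) ∈ F.layer r (F.perm g q) 3 := layer_rho hg 3 q _ hc3
    rw [hηdef, ← map_sub, e, map_add, hω3 _ _ h2, add_zero, hω2 g hg q _ (layer_sub hz₀ hd), map_sub, ← hηdef]
  have hlamZ : ∀ k, ∀ s ∈ derSub D.T r, ∀ w ∈ F.W k, lam k (ρ s w) = lam k w := fun k s hs w hw => by
    have := hlaminv s (derSub_le _ _ hs) k w hw
    rwa [H.fixes.fix s hs k] at this
  have hηη : ∀ k, η k (ρ z₀ (uu k) - uu k) = 1 := fun k => by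
    rw [hηdef, ← map_sub]
    have := LinearMap.congr_fun (sub_one_sq (ρ z₀)) (uu k)
    simp only [Module.End.mul_apply, LinearMap.sub_apply, Module.End.one_apply] at this
    rw [this, hρsq k _ (huu k), map_sub, ← hlamdef, hlamu]
  have hysZ : ys ∈ derSub D.T r := derSub_succ_le _ _ hys
  set L : Module.End K U := (ρ ys - 1) * (ρ z₀ - 1) with hL
  have hLchain : (ρ ys - 1) * ((ρ z₀ - 1) * 1) ∈ chainProd ρ (derSub D.T r) 2 :=
    mem_chainProd_succ (S := derSub D.T r) (i := 1) (by rw [derSub_add]; exact hys)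
      (mem_chainProd_succ (S := derSub D.T r) (i := 0) hz₀ rfl)
  have hLkill : ∀ q ∈ chainProd ρ D.T r, L * q = 0 := fun q hq => by
    have := H.zero _ (chainProd_tail r 2 _ hLchain q hq)
    rwa [mul_one] at this
  -- the pairs
  let Φ : ι → ι → U →ₗ[K] K := fun i j => F.pureDual (Function.update (Function.update lam i (ω i)) j (ω j))
  have hpair : ∀ i j, i ≠ j → ∀ c : ι → U, (∀ k, c k ∈ F.W k) → Φ i j (L (F.pure c)) =
      (lam i (c i) * η j (c j) + lam j (c j) * η i (c i)) *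
        ∏ k ∈ (Finset.univ.erase i).erase j, lam k (c k) := by
    intro i j hij c hc
    have hφ : ∀ k, k ≠ i → k ≠ j → Function.update (Function.update lam i (ω i)) j (ω j) k = lam k := fun k h1 h2 => by
      rw [Function.update_of_ne h2, Function.update_of_ne h1]
    show F.pureDual _ (((ρ ys - 1) * (ρ z₀ - 1)) (F.pure c)) = _
    rw [F.diff_two_two H.full H.fixes hysZ hz₀ _ hc hij fun k h1 h2 s hs => by
      rw [hφ k h1 h2, hlamZ k s hs _ (hc k)]]
    rw [Finset.prod_congr rfl fun k hk => by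
      rw [hφ k (Finset.ne_of_mem_erase (Finset.mem_of_mem_erase hk)) (Finset.ne_of_mem_erase hk)]]
    rw [Function.update_self, Function.update_of_ne hij, Function.update_self]
    have e1 : ∀ k, ω k (ρ (ys * z₀) (c k)) = ω k (ρ z₀ (c k)) + lam k (c k) := fun k => by
      have h1 := hlamdef k (ρ z₀ (c k))
      rw [hlamZ k z₀ hz₀ _ (hc k)] at h1
      rw [map_mul, Module.End.mul_apply, h1]
      ring
    have e2 : ∀ k, ω k (ρ ys (c k)) = ω k (c k) + lam k (c k) := fun k => by rw [hlamdef]; ring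
    rw [e1, e1, e2, e2, hηdef, hηdef]
    ring
  have hpush : ∀ g ∈ D.T, ∀ c : ι → U, ∀ k, c k = uu k →
      lam (F.perm g k) (F.push g c (F.perm g k)) = 1 := fun g hg c k hk => by
    rw [F.push_perm hg, hk, hlaminv g hg k _ (huu k), hlamu]
  haveI : Fact (Nat.Prime 2) := ⟨Nat.prime_two⟩
  have hactone : ∀ k, F.perm 1 k = k := fun k => by rw [F.perm_one]; rfl
  have hactmul : ∀ a ∈ D.T, ∀ b ∈ D.T, ∀ k, F.perm (a * b) k = F.perm a (F.perm b k) := fun a ha b hb k => by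
    rw [F.perm_mul _ ha _ hb]; rfl
  -- there are few parts
  have hcard : Fintype.card ι ≤ 2 ^ r := by
    set d₀ := ρ z₀ (uu i₀) - uu i₀ with hd₀
    have hd₀1 : d₀ ∈ F.layer r i₀ 1 := layer_sub hz₀ (m := 0) (huu i₀)
    set c := Function.update uu i₀ d₀ with hc
    have hcW : ∀ k, c k ∈ F.W k := F.update_mem huu (hlayerW 1 i₀ hd₀1)
    have hci : c i₀ = d₀ := Function.update_self ..
    have hcne : ∀ k ≠ i₀, c k = uu k := fun k hk => Function.update_of_ne hk ..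
    let Us : ι → Submodule K U := fun k => Submodule.span K {v | ∃ g ∈ D.T, F.perm g i₀ = k ∧ ρ g (F.pure c) = v}
    have hUs : ∀ s ∈ D.T, ∀ k, ∀ v ∈ Us k, ρ s v ∈ Us (F.perm s k) := by
      intro s hs k v hv
      refine (Submodule.span_le (p := (Us (F.perm s k)).comap (ρ s))).2 ?_ hv
      rintro _ ⟨g, hg, rfl, rfl⟩
      exact Submodule.subset_span ⟨s * g, mul_mem hs hg, hactmul s hs g hg i₀, by rw [map_mul]; rfl⟩
    obtain ⟨q, hq, Y, hYc, hYi, hqv⟩ := exists_isolating_small (p := 2) (fun g k => F.perm g k) hactone ρ Us D.T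
      hactmul D.two hUs i₀ r (H.moves i₀)
    have hX₀ : F.pure c ∈ Us i₀ := Submodule.subset_span ⟨1, one_mem _, hactone i₀, by rw [map_one]; rfl⟩
    have hall : (Finset.univ : Finset ι) ⊆ insert i₀ Y := by
      intro j _
      by_contra hj
      rw [Finset.mem_insert, not_or] at hj
      obtain ⟨hji, hjY⟩ := hj
      have hker : (⨆ y ∈ Y, Us y) ≤ LinearMap.ker (Φ i₀ j ∘ₗ L) := by
        refine iSup₂_le fun y hy => Submodule.span_le.2 ?_
        rintro _ ⟨g, hg, rfl, rfl⟩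
        show Φ i₀ j (L (ρ g (F.pure c))) = 0
        rw [F.rho_pure_push H.full hg hcW, hpair i₀ j (Ne.symm hji) _ (F.push_mem hg hcW)]
        refine mul_eq_zero_of_right _ (Finset.prod_eq_zero (i := F.perm g i₀) (Finset.mem_erase.2
          ⟨fun e => hjY (e ▸ hy), Finset.mem_erase.2 ⟨fun e => hYi _ hy 1 (one_mem _) (by
            rw [F.perm_one]; exact e.symm), Finset.mem_univ _⟩⟩) ?_)
        rw [F.push_perm hg, hci, hlaminv g hg i₀ _ (hlayerW 1 i₀ hd₀1), hlam1 i₀ _ hd₀1]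
      have h1 : Φ i₀ j (L (q (F.pure c) - F.pure c)) = 0 := hker (hqv _ hX₀)
      rw [map_sub, ← Module.End.mul_apply, hLkill q hq, LinearMap.zero_apply, zero_sub, map_neg, neg_eq_zero,
        hpair i₀ j (Ne.symm hji) c hcW, hci, hcne j hji, hlam1 i₀ _ hd₀1, hlamu, hd₀, hηη, zero_mul, zero_add,
        one_mul, one_mul] at h1
      obtain ⟨k, hk, hk0⟩ := Finset.prod_eq_zero_iff.1 h1
      rw [hcne k (Finset.ne_of_mem_erase (Finset.mem_of_mem_erase hk)), hlamu] at hk0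
      exact one_ne_zero hk0
    have h1 := Finset.card_le_card hall
    have h2 := Finset.card_insert_le i₀ Y
    rw [Finset.card_univ] at h1
    omega
  -- the orbits halve
  have horbr : ∀ p, F.orb r p = {p} := fun p => by
    ext x
    rw [F.mem_orb, Finset.mem_singleton]
    exact ⟨fun ⟨s, hs, e⟩ => by rw [← e, H.fixes.fix s hs p], fun e => ⟨1, one_mem _, by rw [e, hactone]⟩⟩
  have hout : ∀ l < r, ∀ p, ∃ s ∈ derSub D.T l, F.perm s p ∉ F.orb (l + 1) p := by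
    intro l hl p
    obtain ⟨s, hs, hsne⟩ := exists_moved_out (p := 2) (fun g k => F.perm g k) hactone D.T hactmul D.two l p
      (H.moves p l hl)
    exact ⟨s, hs, fun h => by obtain ⟨t, ht, e⟩ := F.mem_orb.1 h; exact hsne t ht e.symm⟩
  have hsplit : ∀ l < r, ∀ p s, s ∈ derSub D.T l → F.perm s p ∉ F.orb (l + 1) p →
      Disjoint (F.orb (l + 1) p) (F.orb (l + 1) (F.perm s p)) ∧
      F.orb (l + 1) p ∪ F.orb (l + 1) (F.perm s p) ⊆ F.orb l p ∧
      (F.orb (l + 1) (F.perm s p)).card = (F.orb (l + 1) p).card := by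
    intro l _ p s hs hne
    refine ⟨Finset.disjoint_left.2 fun x hx hx' => hne ?_, ?_, ?_⟩
    · have h1 := F.orb_eq_of_mem hx
      have h2 := F.orb_eq_of_mem hx'
      rw [← h1, h2]
      exact F.self_mem_orb _ _
    · refine Finset.union_subset (F.orb_succ_subset l p) ?_
      rw [← F.orb_eq_of_mem (F.mem_orb.2 ⟨s, hs, rfl⟩)]
      exact F.orb_succ_subset l _
    · rw [F.orb_perm (derSub_le _ _ hs), Finset.card_image_of_injective _ (F.perm s).injective]
  have hhalf : ∀ l < r, ∀ p, 2 * (F.orb (l + 1) p).card ≤ (F.orb l p).card := by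
    intro l hl p
    obtain ⟨s, hs, hne⟩ := hout l hl p
    obtain ⟨hd, hu, hcs⟩ := hsplit l hl p s hs hne
    have := Finset.card_le_card hu
    rw [Finset.card_union_of_disjoint hd, hcs] at this
    omega
  have hup : ∀ l ≤ r, ∀ p, 2 ^ l * (F.orb l p).card ≤ 2 ^ r := by
    intro l
    induction l with
    | zero => intro _ p; rw [pow_zero, one_mul]; exact (Finset.card_le_univ _).trans hcard
    | succ l ih =>
      intro hl p
      refine le_trans ?_ (ih (by omega) p)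
      rw [pow_succ, mul_assoc]
      exact Nat.mul_le_mul_left _ (hhalf l (by omega) p)
  have hdown : ∀ d l, l + d = r → ∀ p, 2 ^ d ≤ (F.orb l p).card := by
    intro d
    induction d with
    | zero => intro l hl p; rw [add_zero] at hl; subst hl; rw [horbr, Finset.card_singleton, pow_zero]
    | succ d ih =>
      intro l hl p
      have h1 := ih (l + 1) (by omega) p
      have h2 := hhalf l (by omega) p
      rw [pow_succ]
      omega
  have horbcard : ∀ l ≤ r, ∀ p, (F.orb l p).card = 2 ^ (r - l) := by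
    intro l hl p
    refine le_antisymm ?_ (hdown (r - l) l (by omega) p)
    refine Nat.le_of_mul_le_mul_left ?_ (Nat.two_pow_pos l)
    rw [← pow_add, Nat.add_sub_cancel' hl]
    exact hup l hl p
  have hdich : ∀ l < r, ∀ p s, s ∈ derSub D.T l → F.orb (l + 1) (F.perm s p) = F.orb (l + 1) p ∨
      ∀ f : ι → K, ∑ x ∈ F.orb (l + 1) (F.perm s p), f x - ∑ x ∈ F.orb (l + 1) p, f x = ∑ x ∈ F.orb l p, f x := by
    intro l hl p s hs
    by_cases hne : F.perm s p ∈ F.orb (l + 1) p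
    · exact Or.inl (F.orb_eq_of_mem hne)
    refine Or.inr fun f => ?_
    obtain ⟨hd, hu, hcs⟩ := hsplit l hl p s hs hne
    rw [← Finset.eq_of_subset_of_card_le hu (by
      rw [Finset.card_union_of_disjoint hd, hcs, horbcard l hl.le, horbcard (l + 1) hl, ← two_mul, ← pow_succ',
        show r - (l + 1) + 1 = r - l by omega]), Finset.sum_union hd, CharTwo.sub_eq_add, add_comm]
  -- the values
  set v : U := F.pure uu with hv
  let Fn : ι → U →ₗ[K] K := fun p => F.pureDual (Function.update lam p (η p))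
  have hFn : ∀ p, ∀ g ∈ D.T, Fn p (ρ g v) = η p (F.push g uu p) := by
    intro p g hg
    show F.pureDual _ (ρ g (F.pure uu)) = _
    rw [F.rho_pure_push H.full hg huu, F.pureDual_pure _ (F.push_mem hg huu),
      Finset.prod_eq_single p (fun k _ hk => ?_) (fun h => absurd (Finset.mem_univ p) h), Function.update_self]
    rw [Function.update_of_ne hk]
    have := hpush g hg uu ((F.perm g)⁻¹ k) rfl
    rwa [F.apply_perm_inv hg] at this
  have hFv : ∀ p, Fn p v = η p (uu p) := by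
    intro p
    show F.pureDual _ (F.pure uu) = _
    rw [F.pureDual_pure _ huu, Finset.prod_eq_single p (fun k _ hk => by rw [Function.update_of_ne hk]; exact hlamu k)
      (fun h => absurd (Finset.mem_univ p) h), Function.update_self]
  let V₁ : Submodule K U := Submodule.span K {x | ∃ g ∈ D.T, ρ g v - v = x}
  have hV₁inv : ∀ s ∈ D.T, ∀ x ∈ V₁, ρ s x ∈ V₁ := by
    intro s hs x hx
    refine (Submodule.span_le (p := V₁.comap (ρ s))).2 ?_ hx
    rintro _ ⟨g, hg, rfl⟩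
    show ρ s (ρ g v - v) ∈ V₁
    rw [map_sub, ← Module.End.mul_apply, ← map_mul, show ρ (s * g) v - ρ s v = (ρ (s * g) v - v) - (ρ s v - v) by abel]
    exact sub_mem (Submodule.subset_span ⟨_, mul_mem hs hg, rfl⟩) (Submodule.subset_span ⟨_, hs, rfl⟩)
  have hFequiv : ∀ s ∈ D.T, ∀ x ∈ V₁, ∀ p, Fn p (ρ s x) = Fn ((F.perm s)⁻¹ p) x := by
    intro s hs x hx p
    refine LinearMap.eqOn_span (f := Fn p ∘ₗ ρ s) (g := Fn ((F.perm s)⁻¹ p)) ?_ hx
    rintro _ ⟨g, hg, rfl⟩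
    set q := (F.perm s)⁻¹ p with hq
    set o := (F.perm g)⁻¹ q with ho
    show Fn p (ρ s (ρ g v - v)) = Fn q (ρ g v - v)
    rw [map_sub, map_sub, map_sub, hFv, ← Module.End.mul_apply, ← map_mul, hFn _ _ (mul_mem hs hg), hFn _ _ hs,
      hFn _ _ hg]
    have hp : F.perm s q = p := F.apply_perm_inv hs p
    have hgo : F.perm g o = q := F.apply_perm_inv hg q
    have hd : ρ g (uu o) - uu q ∈ F.layer r q 1 := by
      have := hshift g hg o
      rwa [hgo] at this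
    have h1 : F.push (s * g) uu p = ρ (s * g) (uu o) := by
      rw [← F.push_perm (mul_mem hs hg) uu o, hactmul s hs g hg, hgo, hp]
    have h2 : F.push g uu q = ρ g (uu o) := by rw [← F.push_perm hg uu o, hgo]
    have h3 : F.push s uu p = ρ s (uu q) := by rw [← F.push_perm hs uu q, hp]
    rw [h1, h2, h3, ← map_sub (η p), ← map_sub (η q), map_mul, Module.End.mul_apply, ← map_sub (ρ s)]
    have h4 := hηinv s hs q _ hd
    rwa [hp] at h4
  have hsum : ∀ s ∈ D.T, ∀ x ∈ V₁, ∀ l p,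
      ∑ k ∈ F.orb l p, Fn k (ρ s x) = ∑ k ∈ F.orb l (F.perm s⁻¹ p), Fn k x := by
    intro s hs x hx l p
    rw [F.perm_inv hs, ← F.sum_orb_inv hs l p fun k => Fn k x]
    exact Finset.sum_congr rfl fun k _ => hFequiv s hs x hx k
  have hqV : ∀ m, ∀ q ∈ chainProd ρ (derSub D.T 1) m, ∀ x ∈ V₁, q x ∈ V₁ := by
    intro m
    induction m with
    | zero => intro q hq x hx; rw [show q = 1 from hq]; exact hx
    | succ m ih =>
      rintro q ⟨s, hs, q', hq', rfl⟩ x hx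
      rw [Module.End.mul_apply, LinearMap.sub_apply, Module.End.one_apply]
      exact sub_mem (hV₁inv s (derSub_le _ 1 (derSub_le _ _ hs)) _ (ih q' hq' x hx)) (ih q' hq' x hx)
  have hclaim : ∀ m < r, ∀ q ∈ chainProd ρ (derSub D.T 1) m, ∀ p, ∃ ε : K, (ε = 0 ∨ ε = 1) ∧
      ∀ x ∈ V₁, ∑ k ∈ F.orb (m + 1) p, Fn k (q x) = ε * ∑ k ∈ F.orb 1 p, Fn k x := by
    intro m
    induction m with
    | zero => intro _ q hq p; exact ⟨1, Or.inr rfl, fun x _ => by rw [show q = 1 from hq, one_mul]; rfl⟩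
    | succ m ih =>
      rintro hm q ⟨s, hs, q', hq', rfl⟩ p
      rw [derSub_add, add_comm] at hs
      have hsT := derSub_le _ _ hs
      obtain ⟨ε, hε, hval⟩ := ih (by omega) q' hq' p
      have key : ∀ x ∈ V₁, ∑ k ∈ F.orb (m + 1 + 1) p, Fn k (((ρ s - 1) * q') x) =
          ∑ k ∈ F.orb (m + 1 + 1) (F.perm s⁻¹ p), Fn k (q' x) - ∑ k ∈ F.orb (m + 1 + 1) p, Fn k (q' x) := by
        intro x hx
        rw [← hsum s hsT _ (hqV m q' hq' x hx), ← Finset.sum_sub_distrib]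
        exact Finset.sum_congr rfl fun k _ => map_sub (Fn k) _ _
      rcases hdich (m + 1) hm p s⁻¹ (inv_mem hs) with h | h
      · exact ⟨0, Or.inl rfl, fun x hx => by rw [key x hx, h, sub_self, zero_mul]⟩
      · exact ⟨ε, hε, fun x hx => by rw [key x hx, h fun k => Fn k (q' x), hval x hx]⟩
  have hbest : ∀ m < r, ∀ p, ∃ q ∈ chainProd ρ (derSub D.T 1) m,
      ∀ x ∈ V₁, ∑ k ∈ F.orb (m + 1) p, Fn k (q x) = ∑ k ∈ F.orb 1 p, Fn k x := by
    intro m
    induction m with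
    | zero => intro _ p; exact ⟨1, rfl, fun x _ => rfl⟩
    | succ m ih =>
      intro hm p
      obtain ⟨q', hq', hval⟩ := ih (by omega) p
      obtain ⟨σ, hσ, hσne⟩ := hout (m + 1) hm p
      refine ⟨(ρ σ⁻¹ - 1) * q', mem_chainProd_succ (S := derSub D.T 1) (by rw [derSub_add, add_comm]; exact inv_mem hσ) hq',
        fun x hx => ?_⟩
      have hσT := derSub_le _ _ hσ
      have key : ∑ k ∈ F.orb (m + 1 + 1) p, Fn k (((ρ σ⁻¹ - 1) * q') x) =
          ∑ k ∈ F.orb (m + 1 + 1) (F.perm σ p), Fn k (q' x) - ∑ k ∈ F.orb (m + 1 + 1) p, Fn k (q' x) := by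
        have h := hsum σ⁻¹ (inv_mem hσT) _ (hqV m q' hq' x hx) (m + 1 + 1) p
        rw [inv_inv] at h
        rw [← h, ← Finset.sum_sub_distrib]
        exact Finset.sum_congr rfl fun k _ => map_sub (Fn k) _ _
      rcases hdich (m + 1) hm p σ hσ with h | h
      · exact absurd (h ▸ F.self_mem_orb _ _) hσne
      · rw [key, h fun k => Fn k (q' x), hval x hx]
  -- the equations of the pairs
  have hconst : ∀ q ∈ chainProd ρ (derSub D.T 1) (r - 1), ∀ x ∈ V₁, ∀ i j, Fn i (q x) = Fn j (q x) := by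
    intro q hq x hx i j
    by_cases hij : i = j
    · rw [hij]
    let V₀ : Submodule K U := Submodule.span K {y | ∃ g ∈ D.T, ρ g v = y}
    have hle : V₁ ≤ V₀ := by
      refine Submodule.span_le.2 ?_
      rintro _ ⟨g, hg, rfl⟩
      exact sub_mem (Submodule.subset_span ⟨g, hg, rfl⟩) (Submodule.subset_span ⟨1, one_mem _, by rw [map_one]; rfl⟩)
    have hpairs : ∀ y ∈ V₀, Φ i j (L y) = Fn i y + Fn j y := by
      intro y hy
      refine LinearMap.eqOn_span (f := Φ i j ∘ₗ L) (g := Fn i + Fn j) ?_ hy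
      rintro _ ⟨g, hg, rfl⟩
      show Φ i j (L (ρ g v)) = Fn i (ρ g v) + Fn j (ρ g v)
      rw [hFn _ _ hg, hFn _ _ hg, hv, F.rho_pure_push H.full hg huu, hpair i j hij _ (F.push_mem hg huu)]
      have h1 : ∀ k, lam k (F.push g uu k) = 1 := fun k => by
        have := hpush g hg uu ((F.perm g)⁻¹ k) rfl
        rwa [F.apply_perm_inv hg] at this
      rw [Finset.prod_eq_one fun k _ => h1 k, h1, h1, one_mul, one_mul, mul_one, add_comm]
    have hkillx : L (q x) = 0 := by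
      refine LinearMap.eqOn_span (f := L ∘ₗ q) (g := 0) ?_ hx
      rintro _ ⟨g, hg, rfl⟩
      show L (q (ρ g v - v)) = 0
      have hmem := chainProd_tail 1 (r - 1) q hq ((ρ g - 1) * 1) (mem_chainProd_succ (i := 0) hg rfl)
      rw [Nat.add_sub_cancel' hr, mul_one] at hmem
      exact LinearMap.congr_fun (hLkill _ hmem) v
    have h2 := hpairs _ (hle (hqV _ q hq x hx))
    rw [hkillx, map_zero] at h2
    exact CharTwo.add_eq_zero.1 h2.symm
  have hS1 : ∀ g ∈ D.T, ∀ x ∈ V₁, ∀ p, ∑ k ∈ F.orb 1 p, Fn k (ρ g x) = ∑ k ∈ F.orb 1 p, Fn k x := by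
    intro g hg x hx p
    set p' := F.perm g⁻¹ p with hp'
    rw [hsum g hg x hx 1 p, ← hp']
    obtain ⟨q, hq, hval⟩ := hbest (r - 1) (by omega) p
    obtain ⟨ε, hε, hval'⟩ := hclaim (r - 1) (by omega) q hq p'
    have hrel : ∀ y ∈ V₁, ∑ k ∈ F.orb 1 p, Fn k y = ε * ∑ k ∈ F.orb 1 p', Fn k y := by
      intro y hy
      have h1 := hval y hy
      have h2 := hval' y hy
      rw [Nat.sub_add_cancel hr, horbr, Finset.sum_singleton] at h1 h2
      rw [← h1, ← h2]
      exact hconst q hq y hy p p'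
    rcases hε with rfl | rfl
    · have h1 := hrel x hx
      have h2 := hrel _ (hV₁inv g hg x hx)
      rw [hsum g hg x hx 1 p, ← hp'] at h2
      rw [zero_mul] at h1 h2
      rw [h1, h2]
    · rw [hrel x hx, one_mul]
  have hS0 : ∀ t ∈ derSub D.T 1, ∀ p, ∑ k ∈ F.orb 1 p, Fn k (ρ t v - v) = 0 := by
    let Zt : Subgroup G :=
      { carrier := {t | t ∈ D.T ∧ ∀ p, ∑ k ∈ F.orb 1 p, Fn k (ρ t v - v) = 0}
        one_mem' := ⟨one_mem _, fun p => by simp⟩
        mul_mem' := fun {a b} ha hb => ⟨mul_mem ha.1 hb.1, fun p => by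
          rw [map_mul, Module.End.mul_apply, show ρ a (ρ b v) - v = ρ a (ρ b v - v) + (ρ a v - v) by
            rw [map_sub]; abel]
          simp only [map_add, Finset.sum_add_distrib]
          rw [ha.2 p, hS1 a ha.1 _ (Submodule.subset_span ⟨b, hb.1, rfl⟩), hb.2 p, add_zero]⟩
        inv_mem' := fun {a} ha => ⟨inv_mem ha.1, fun p => by
          rw [show ρ a⁻¹ v - v = -(ρ a⁻¹ (ρ a v - v)) by
            rw [map_sub, ← Module.End.mul_apply (ρ a⁻¹) (ρ a), rho_inv_mul, Module.End.one_apply, neg_sub]]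
          simp only [map_neg, Finset.sum_neg_distrib]
          rw [hS1 _ (inv_mem ha.1) _ (Submodule.subset_span ⟨a, ha.1, rfl⟩), ha.2 p, neg_zero]⟩ }
    suffices hle : derSub D.T 1 ≤ Zt from fun t ht p => (hle ht).2 p
    rw [derSub_succ, derSub_zero, commutator_le]
    intro a ha b hb
    have hcT : ⁅a, b⁆ ∈ D.T := mul_mem (mul_mem (mul_mem ha hb) (inv_mem ha)) (inv_mem hb)
    refine ⟨hcT, fun p => ?_⟩
    have hprod : ∀ a' ∈ D.T, ∀ b' ∈ D.T, ∑ k ∈ F.orb 1 p, Fn k (ρ (a' * b') v - v) =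
        ∑ k ∈ F.orb 1 p, Fn k (ρ b' v - v) + ∑ k ∈ F.orb 1 p, Fn k (ρ a' v - v) := by
      intro a' ha' b' hb'
      rw [map_mul, Module.End.mul_apply, show ρ a' (ρ b' v) - v = ρ a' (ρ b' v - v) + (ρ a' v - v) by
        rw [map_sub]; abel]
      simp only [map_add, Finset.sum_add_distrib]
      rw [hS1 a' ha' _ (Submodule.subset_span ⟨b', hb', rfl⟩)]
    have h1 := hprod a ha b hb
    have h2 := hprod b hb a ha
    have h3 := hprod ⁅a, b⁆ hcT (b * a) (mul_mem hb ha)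
    rw [show ⁅a, b⁆ * (b * a) = a * b by simp only [commutatorElement_def]; group, h1, h2] at h3
    linear_combination -h3
  obtain ⟨p⟩ : Nonempty ι := ⟨i₀⟩
  have hfinal := annihilates_vec (ρ := ρ) (S := D.T) v (r - 1) (Fn p) (fun q hq t ht => by
    have htV : ρ t v - v ∈ V₁ := Submodule.subset_span ⟨t, derSub_le _ 1 ht, rfl⟩
    obtain ⟨ε, -, hval⟩ := hclaim (r - 1) (by omega) q hq p
    have h1 := hval _ htV
    rw [Nat.sub_add_cancel hr, horbr, Finset.sum_singleton, hS0 t ht p, mul_zero] at h1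
    rw [LinearMap.sub_apply, Module.End.one_apply]
    exact h1) z₀ (by rw [Nat.sub_add_cancel hr]; exact hz₀)
  rw [LinearMap.sub_apply, Module.End.one_apply, map_sub, hFn p z₀ hz₀T, hFv] at hfinal
  have e : F.push z₀ uu p = ρ z₀ (uu p) := by
    conv_lhs => arg 4; rw [← H.fixes.fix z₀ hz₀ p]
    exact F.push_perm hz₀T uu p
  rw [e, ← map_sub, hηη] at hfinal
  exact one_ne_zero hfinal

end Frame

end SymData

end Cfsg.Lib.TwoLength
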