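import Cfsg.Agent.TwoLength.DerivedLength.Top

/-!
The parts when the level before the last fixes them: small dimension and a quaternion image.
-/

set_option linter.style.haveILetI false
set_option linter.unusedSectionVars false

namespace Cfsg.Lib.TwoLength

open Module Subgroup Cfsg.Lib.HallHigman
open scoped commutatorElement

universe u v w z t

variable {K : Type u} [Field K] [CharP K 2] [IsAlgClosed K] {U : Type v} [AddCommGroup U] [Module K U] [Nontrivial U]
  [FiniteDimensional K U] {G : Type w} [Group G] [Finite G]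

namespace SymData

namespace Frame

variable {ρ : G →* Module.End K U} {A : Type z} [CommGroup A] [Finite A] {D : SymData ρ A} {ι : Type t} [Fintype ι]
  (F : D.Frame ι)

/-- The image of the stabilizer on a part. -/
noncomputable def img (i : ι) : F.stab i →* (F.loc0 i).tau.range := (F.loc0 i).tau.rangeRestrict

theorem img_surjective (i : ι) : Function.Surjective (F.img i) := (F.loc0 i).tau.rangeRestrict_surjective

/-- An element inverts a part. -/
def Inverts (i : ι) (g : F.stab i) : Prop := ∀ a, F.bt i g a = a⁻¹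

variable {F}

theorem Inverts.eq {i : ι} {g h : F.stab i} (hg : F.Inverts i g) (hh : F.Inverts i h) : F.bt i g = F.bt i h :=
  MulEquiv.ext fun a => by rw [hg a, hh a]

theorem Inverts.comm {i : ι} {g : F.stab i} (hg : F.Inverts i g) (h : F.stab i) : F.bt i (g * h) = F.bt i (h * g) :=
  MulEquiv.ext fun a => by simp only [map_mul, MulAut.mul_apply, hg _, map_inv]

variable (F)

/-- The standing assumptions on the level before the last. -/
structure QHyp (r : ℕ) : Prop where
  full : D.Full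
  zero : ChainZero ρ D.T (r + 2)
  prim : ∀ i, (F.loc0 i).Irred ∧ (F.loc0 i).NoSplit
  trans : ∀ i j, ∃ g ∈ D.T, F.perm g i = j
  fixes : F.Fixes (derSub D.T r)
  moves : ∀ i, ∀ l < r, ∃ s ∈ derSub D.T l, F.perm s i ≠ i
  some_moved : ∃ i, ∃ y ∈ derSub D.T (r + 1), ∃ a ∈ F.blk i, D.act y a ≠ a

variable {F} {r : ℕ} (H : F.QHyp r)

include H

theorem QHyp.fixesY : F.Fixes (derSub D.T (r + 1)) := H.fixes.mono (derSub_succ_le _ _)

theorem QHyp.memY {i : ι} {y : G} (hy : y ∈ derSub D.T (r + 1)) : y ∈ F.stab i := H.fixesY.le_stab i hy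

theorem QHyp.memZ {i : ι} {x : G} (hx : x ∈ derSub D.T r) : x ∈ F.stab i := H.fixes.le_stab i hx

theorem QHyp.line {i : ι} {y x : G} (hy : y ∈ derSub D.T (r + 1)) (hx : x ∈ derSub D.T r) {u : U} (hu : u ∈ F.W i) :
    ((ρ y - 1) * (ρ x - 1)) u ∈ K ∙ F.e i := by
  classical
  exact F.line_two H.full H.zero rfl H.fixes (H.moves i) hy hx hu

theorem QHyp.e_fix {x : G} (hx : x ∈ derSub D.T r) (k : ι) : ρ x (F.e k) = F.e k := by
  rw [F.e_perm x (H.fixes.le hx), H.fixes.fix x hx k]

theorem QHyp.mem_commutator {i : ι} {t : G} (ht : t ∈ derSub D.T (r + 1)) :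
    F.img i ⟨t, H.memY ht⟩ ∈ commutator (F.loc0 i).tau.range := by
  have h1 : (⟨t, H.memY ht⟩ : F.stab i) ∈ derSub ((derSub D.T r).subgroupOf (F.stab i)) 1 :=
    (mem_derSub_subgroupOf (H.fixes.le_stab i) 1 _).2 ht
  have h2 := mem_map_of_mem (F.img i) h1
  rw [map_derSub, derSub_succ, derSub_zero] at h2
  exact commutator_mono le_top le_top h2

theorem QHyp.inverts_of_sq {i : ι} {t : G} (ht : t ∈ derSub D.T (r + 1)) (hne : F.bt i ⟨t, H.memY ht⟩ ≠ 1)
    (h2 : F.bt i (⟨t, H.memY ht⟩ * ⟨t, H.memY ht⟩) = 1) : F.Inverts i ⟨t, H.memY ht⟩ := by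
  obtain ⟨hirr, hns⟩ := H.prim i
  obtain ⟨C, hCn, hC, -, hD⟩ := image_cyclic hirr hns
  haveI := hCn
  haveI := hC
  set η := F.img i ⟨t, H.memY ht⟩ with hη
  have hηC : η ∈ C := hD (H.mem_commutator ht)
  have hη2 : η * η = 1 := by rw [hη, ← map_mul]; exact Subtype.ext h2
  have hη1 : η ≠ 1 := fun h => hne (congrArg Subtype.val h)
  have hcent : ∀ γ, γ * η = η * γ := by
    intro γ
    have h := involution_eq_of_cyclic (hCn.conj_mem η hηC γ) hηC
      (by rw [show γ * η * γ⁻¹ * (γ * η * γ⁻¹) = γ * (η * η) * γ⁻¹ by group, hη2, mul_one, mul_inv_cancel]) hη2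
      (fun e => hη1 (conj_eq_one_iff.1 e)) hη1
    exact mul_inv_eq_iff_eq_mul.1 h
  have hinv := inversion_of_central (D := F.loc0 i) hirr (t := t) (H.memY ht)
    (fun a => by
      rw [← F.bt_eq_act ⟨t, H.memY ht⟩]
      have := DFunLike.congr_fun h2 a
      rwa [map_mul, MulAut.mul_apply] at this)
    (fun g hg a => by
      rw [← F.bt_eq_act ⟨t, H.memY ht⟩, ← F.bt_eq_act ⟨g, hg⟩]
      exact DFunLike.congr_fun (congrArg Subtype.val (hcent (F.img i ⟨g, hg⟩))) a)
    (by rw [← F.bt_eq_act ⟨t, H.memY ht⟩]; exact hne)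
  intro a
  rw [F.bt_eq_act]
  exact hinv a

theorem QHyp.sq_trivial {i : ι} {y : G} (hy : y ∈ derSub D.T (r + 1)) :
    F.bt i (⟨y, H.memY hy⟩ * ⟨y, H.memY hy⟩) = 1 := by
  obtain ⟨lam, hlam⟩ := exists_functional_one (K := K) (v := (⟨F.e i, F.e_mem i⟩ : F.W i))
    fun h => F.e_ne i (congrArg Subtype.val h)
  set P : Module.End K (F.W i) := 1 - lam.smulRight (⟨F.e i, F.e_mem i⟩ : F.W i) with hP
  have hPe : ∀ w : F.W i, (w : U) ∈ K ∙ F.e i → P w = 0 := by
    intro w hw
    obtain ⟨c, hc⟩ := Submodule.mem_span_singleton.1 hw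
    rw [show w = c • (⟨F.e i, F.e_mem i⟩ : F.W i) from Subtype.ext hc.symm, map_smul, hP, LinearMap.sub_apply,
      Module.End.one_apply, LinearMap.smulRight_apply, hlam, one_smul, sub_self, smul_zero]
  have hPk : ∀ w : F.W i, P w = 0 → (w : U) ∈ K ∙ F.e i := fun w hw => by
    rw [hP, LinearMap.sub_apply, Module.End.one_apply, sub_eq_zero, LinearMap.smulRight_apply] at hw
    exact Submodule.mem_span_singleton.2 ⟨lam w, (congrArg Subtype.val hw).symm⟩
  set S := (derSub D.T r).subgroupOf (F.stab i) with hS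
  set yy : F.stab i := ⟨y, H.memY hy⟩ with hyy
  have hkill : ∀ p ∈ chainProd (F.res i) S 1, P * (F.res i yy - 1) * p = 0 := by
    rintro p ⟨s, hs, p', hp', rfl⟩
    rw [show p' = 1 from hp', mul_one]
    refine LinearMap.ext fun w => hPe _ ?_
    exact H.line hy hs w.2
  have h1 := annihilates_range 1 _ hkill yy ((mem_derSub_subgroupOf (H.fixes.le_stab i) 1 _).2 hy)
  set tt := yy * yy with htt
  have hrange : ∀ w : F.W i, ((((F.res i tt - 1) : Module.End K (F.W i)) w : F.W i) : U) ∈ K ∙ F.e i := by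
    intro w
    refine hPk _ ?_
    have := LinearMap.congr_fun h1 w
    rw [mul_assoc, sub_one_sq, ← map_mul] at this
    exact this
  have httY : y * y ∈ derSub D.T (r + 1) := mul_mem hy hy
  have h4 : F.bt i (tt * tt) = 1 := by
    refine (F.res_one_iff _).1 (LinearMap.ext fun w => ?_)
    obtain ⟨c, hc⟩ := Submodule.mem_span_singleton.1 (hrange w)
    have h0 : ((F.res i tt - 1) * (F.res i tt - 1)) w = 0 := by
      refine Subtype.ext ?_
      rw [Module.End.mul_apply, show (F.res i tt - 1) w = c • (⟨F.e i, F.e_mem i⟩ : F.W i) from Subtype.ext hc.symm,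
        map_smul, Submodule.coe_smul, LinearMap.sub_apply, Module.End.one_apply, Submodule.coe_sub]
      show c • (ρ (y * y) (F.e i) - F.e i) = _
      rw [H.e_fix (derSub_succ_le _ _ httY), sub_self, smul_zero]
      rfl
    rw [sub_one_sq, ← map_mul, LinearMap.sub_apply, Module.End.one_apply, sub_eq_zero] at h0
    exact h0
  by_contra hne
  have hinv := H.inverts_of_sq httY hne h4
  haveI := F.W_nontrivial i
  have hrk := rank_inversion (F.loc_full i) (y := ⟨y * y, F.stab_sub i (H.memY httY)⟩) (H.memY httY)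
    (fun a => by rw [← F.bt_eq_loc ⟨y * y, H.memY httY⟩]; exact hinv a)
  have hk : finrank K (LinearMap.range (F.res i tt - 1)) ≤ 1 := by
    have hle : LinearMap.range (F.res i tt - 1) ≤ K ∙ (⟨F.e i, F.e_mem i⟩ : F.W i) := by
      rintro _ ⟨w, rfl⟩
      obtain ⟨c, hc⟩ := Submodule.mem_span_singleton.1 (hrange w)
      exact Submodule.mem_span_singleton.2 ⟨c, Subtype.ext hc⟩
    exact (Submodule.finrank_mono hle).trans (finrank_span_singleton (fun h => F.e_ne i (congrArg Subtype.val h))).le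
  have hle3 : finrank K (F.W i) ≤ 3 := hrk.trans (Nat.add_le_add_right (Nat.mul_le_mul_left 2 hk) 1)
  have hQ : finrank K (F.W i) = 3 := le_antisymm hle3 (F.three_le_finrank _ hne)
  have hd := card_image_dvd (D := F.loc0 i) (Or.inl (by rw [F.card_blk, hQ]; norm_num))
  refine hne ?_
  have hsq := sq_eq_one_of_mem_commutator hd (H.mem_commutator (i := i) hy)
  rw [← map_mul] at hsq
  exact congrArg Subtype.val hsq

theorem QHyp.inverts {i : ι} {y : G} (hy : y ∈ derSub D.T (r + 1)) (hne : F.bt i ⟨y, H.memY hy⟩ ≠ 1) :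
    F.Inverts i ⟨y, H.memY hy⟩ :=
  H.inverts_of_sq hy hne (H.sq_trivial hy)

theorem QHyp.cases {i : ι} {y : G} (hy : y ∈ derSub D.T (r + 1)) :
    F.bt i ⟨y, H.memY hy⟩ = 1 ∨ F.Inverts i ⟨y, H.memY hy⟩ :=
  (em _).imp id (H.inverts hy)

theorem QHyp.exists_inverting (i : ι) : ∃ y, ∃ hy : y ∈ derSub D.T (r + 1), F.Inverts i ⟨y, H.memY hy⟩ ∧
    F.bt i ⟨y, H.memY hy⟩ ≠ 1 := by
  obtain ⟨k, y, hy, a, ha, hne⟩ := H.some_moved
  obtain ⟨y', hy', hne'⟩ := F.exists_nontrivial_at H.trans H.fixesY hy (i := k)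
    (fun h => hne (congrArg Subtype.val (DFunLike.congr_fun h (⟨a, ha⟩ : F.blk k)))) i
  exact ⟨y', hy', H.inverts hy' hne', hne'⟩

theorem QHyp.finrank_eq (i j : ι) : finrank K (F.W j) = finrank K (F.W i) := by
  obtain ⟨g, hg, rfl⟩ := H.trans i j
  exact F.card_W i hg

/-- Every element of the last level agrees with one inverting element or with the identity. -/
theorem QHyp.rho_Y {i : ι} {y y' : G} (hy : y ∈ derSub D.T (r + 1)) (hy' : y' ∈ derSub D.T (r + 1))
    (hinv : F.Inverts i ⟨y, H.memY hy⟩) :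
    (∀ w ∈ F.W i, ρ y' w = w) ∨ (∀ w ∈ F.W i, ρ y' w = ρ y w) :=
  (H.cases (i := i) hy').imp (fun h => (F.bt_one_iff _).1 h) fun h _ hw => F.rho_stab_eq (h.eq hinv) hw

theorem QHyp.W_le_five [Nontrivial ι] (i : ι) : finrank K (F.W i) ≤ 5 := by
  classical
  haveI := F.W_nontrivial i
  obtain ⟨j, hji⟩ := exists_ne i
  haveI := F.W_nontrivial j
  obtain ⟨y, hy, hinv, hne⟩ := H.exists_inverting i
  obtain ⟨y₁, hy₁, hinv₁, hne₁⟩ := H.exists_inverting j
  obtain ⟨z, hz, hzy⟩ : ∃ z, ∃ hz : z ∈ derSub D.T r,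
      F.bt j (⟨z, H.memZ hz⟩ * ⟨z, H.memZ hz⟩) = F.bt j ⟨y₁, H.memY hy₁⟩ := by
    obtain ⟨hirr, hns⟩ := H.prim j
    have hYeq : ⁅derSub D.T r, derSub D.T r⁆ = derSub D.T (r + 1) := rfl
    obtain ⟨-, z, hz, hzy⟩ := exists_root (D := F.loc0 j) hirr hns (Z := derSub D.T r) (H.fixes.le_stab j)
      (fun g hg x hx => derSub_conj hg.1 hx)
      (fun y' hy' => by
        rw [← F.bt_eq_act ⟨y' * y', mul_mem (H.memY hy') (H.memY hy')⟩]
        exact H.sq_trivial hy')
      ⟨y₁, hy₁, by rw [← F.bt_eq_act ⟨y₁, H.memY hy₁⟩]; exact hne₁⟩ y₁ hy₁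
      (by rw [← F.bt_eq_act ⟨y₁, H.memY hy₁⟩]; exact hne₁)
    refine ⟨z, hz, ?_⟩
    rw [F.bt_eq_act, F.bt_eq_act]
    exact hzy
  set X := F.res j ⟨z, H.memZ hz⟩ - 1 with hX
  have hX2 : X ^ 2 = F.res j ⟨y₁, H.memY hy₁⟩ - 1 := by
    rw [pow_two, hX, sub_one_sq, ← map_mul, (F.res_eq_iff _ _).2 hzy]
  have hrk₁ := rank_inversion (F.loc_full j) (y := ⟨y₁, F.stab_sub j (H.memY hy₁)⟩) (H.memY hy₁)
    (fun a => by rw [← F.bt_eq_loc ⟨y₁, H.memY hy₁⟩]; exact hinv₁ a)
  have hrk₁' : finrank K (F.W j) ≤ 2 * finrank K (LinearMap.range (X ^ 2)) + 1 := by rw [hX2]; exact hrk₁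
  rw [H.finrank_eq j i]
  by_cases hsmall : (LinearMap.ker (X ^ 2)).map X ≤ K ∙ (⟨F.e j, F.e_mem j⟩ : F.W j)
  · have h3 : LinearMap.range (X ^ 3) ≤ K ∙ (⟨F.e j, F.e_mem j⟩ : F.W j) := by
      rintro _ ⟨w, rfl⟩
      obtain ⟨c, hc⟩ := Submodule.mem_span_singleton.1 (H.line hy₁ hz w.2)
      refine Submodule.mem_span_singleton.2 ⟨c, Subtype.ext ?_⟩
      rw [pow_succ, hX2]
      exact hc
    have h1 := rank_sq_le X
    have hone : ∀ p : Submodule K (F.W j), p ≤ K ∙ (⟨F.e j, F.e_mem j⟩ : F.W j) → finrank K p ≤ 1 := fun p hp =>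
      (Submodule.finrank_mono hp).trans (finrank_span_singleton (fun h => F.e_ne j (congrArg Subtype.val h))).le
    have h4 := hone _ h3
    have h5 := hone _ hsmall
    omega
  obtain ⟨_, ⟨xw, hxker, rfl⟩, hxline⟩ := SetLike.not_le_iff_exists.1 hsmall
  set x : U := (xw : U) with hx
  have hyx : ∀ y' ∈ derSub D.T (r + 1), ρ y' x = x := by
    intro y' hy'
    rcases H.rho_Y hy₁ hy' hinv₁ with h | h
    · exact h x xw.2
    · rw [h x xw.2]
      have hk : (X ^ 2) xw = 0 := hxker
      rw [hX2, LinearMap.sub_apply, Module.End.one_apply, sub_eq_zero] at hk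
      exact congrArg Subtype.val hk
  have hπ : ρ z x - x ∉ K ∙ F.e j := fun h => hxline (by
    obtain ⟨c, hc⟩ := Submodule.mem_span_singleton.1 h
    exact Submodule.mem_span_singleton.2 ⟨c, Subtype.ext hc⟩)
  -- the kernel at the first part
  set N := F.res i ⟨y, H.memY hy⟩ - 1 with hN
  have hN2 : N * N = 0 := by
    rw [hN, sub_one_sq, ← map_mul, (F.res_one_iff _).2 (H.sq_trivial hy), sub_self]
  have hrk := rank_inversion (F.loc_full i) (y := ⟨y, F.stab_sub i (H.memY hy)⟩) (H.memY hy)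
    (fun a => by rw [← F.bt_eq_loc ⟨y, H.memY hy⟩]; exact hinv a)
  change finrank K (F.W i) ≤ 2 * finrank K (LinearMap.range N) + 1 at hrk
  obtain ⟨tv, -, htle⟩ := exists_ker_le N hN2 hrk
  set S : Submodule K (F.W i) := (K ∙ (⟨F.e i, F.e_mem i⟩ : F.W i)) ⊔ K ∙ ((F.res i ⟨z, H.memZ hz⟩ - 1) tv) with hS
  have hline_i : ∀ w : F.W i, ((F.res i ⟨y, H.memY hy⟩ - 1) * (F.res i ⟨z, H.memZ hz⟩ - 1)) w ∈ S := by
    intro w
    obtain ⟨c, hc⟩ := Submodule.mem_span_singleton.1 (H.line hy hz w.2)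
    exact Submodule.mem_sup_left (Submodule.mem_span_singleton.2 ⟨c, Subtype.ext hc⟩)
  have hXker : ∀ w ∈ LinearMap.ker N, (F.res i ⟨z, H.memZ hz⟩ - 1) w ∈ S := by
    intro w hw
    obtain ⟨_, ⟨m, rfl⟩, t', ht', rfl⟩ := Submodule.mem_sup.1 (htle hw)
    obtain ⟨c, rfl⟩ := Submodule.mem_span_singleton.1 ht'
    rw [map_add, map_smul]
    refine add_mem ?_ (Submodule.smul_mem _ _ (Submodule.mem_sup_right (Submodule.mem_span_singleton_self _)))
    have hcomm : F.res i ⟨z, H.memZ hz⟩ * F.res i ⟨y, H.memY hy⟩ = F.res i ⟨y, H.memY hy⟩ * F.res i ⟨z, H.memZ hz⟩ := by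
      rw [← map_mul, ← map_mul, F.res_eq_iff]
      exact (hinv.comm _).symm
    have e : (F.res i ⟨z, H.memZ hz⟩ - 1) * N = N * (F.res i ⟨z, H.memZ hz⟩ - 1) := by
      simp only [hN, sub_mul, mul_sub, one_mul, mul_one, hcomm]; abel
    rw [← Module.End.mul_apply, e]
    exact hline_i m
  by_cases hsub : LinearMap.range N ≤ S
  · have h1 := Submodule.finrank_mono hsub
    have h2 : finrank K S ≤ 2 := by
      refine (Submodule.finrank_add_le_finrank_add_finrank _ _).trans ?_
      have ha := finrank_span_le_card (R := K) ({(⟨F.e i, F.e_mem i⟩ : F.W i)} : Set (F.W i))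
      have hb := finrank_span_le_card (R := K) ({(F.res i ⟨z, H.memZ hz⟩ - 1) tv} : Set (F.W i))
      simp only [Set.toFinset_singleton, Finset.card_singleton] at ha hb
      omega
    rw [← H.finrank_eq j i]
    omega
  exfalso
  obtain ⟨_, ⟨uw, rfl⟩, huS⟩ := SetLike.not_le_iff_exists.1 hsub
  set u : U := (uw : U) with hu
  have hnS : (ρ y u - u) ∉ S.map (F.W i).subtype := by
    rintro ⟨s, hs, e⟩
    exact huS (by rw [show N uw = s from Subtype.ext e.symm]; exact hs)
  obtain ⟨α, hα, hα0⟩ := exists_functional_off (K := K) hnS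
  have hαS : ∀ w : F.W i, w ∈ S → α (w : U) = 0 := fun w hw => hα0 _ ⟨w, hw, rfl⟩
  have hαe : α (F.e i) = 0 := hαS ⟨F.e i, F.e_mem i⟩ (Submodule.mem_sup_left (Submodule.mem_span_singleton_self _))
  obtain ⟨β, hβ, hβ0⟩ := exists_functional_off (K := K) hπ
  have hβe : β (F.e j) = 0 := hβ0 _ (Submodule.mem_span_singleton_self _)
  set φ := Function.update (Function.update F.dual i α) j β with hφ
  have hφi : φ i = α := by rw [hφ, Function.update_of_ne hji.symm, Function.update_self]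
  have hφj : φ j = β := by rw [hφ, Function.update_self]
  set a := Function.update (Function.update F.e i u) j x with haa
  have ha : ∀ k, a k ∈ F.W k := F.update_mem (F.update_mem F.e_mem uw.2) xw.2
  have hai : a i = u := by rw [haa, Function.update_of_ne hji.symm, Function.update_self]
  have haj : a j = x := by rw [haa, Function.update_self]
  have hae : ∀ k, k ≠ i → k ≠ j → a k = F.e k := fun k h1 h2 => by
    rw [haa, Function.update_of_ne h2, Function.update_of_ne h1]
  have hy' : y ∈ derSub D.T r := derSub_succ_le _ _ hy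
  have hq : (ρ y - 1) * ((ρ z - 1) * 1) ∈ chainProd ρ (derSub D.T r) 2 :=
    mem_chainProd_succ (S := derSub D.T r) (i := 1) (by rw [derSub_add]; exact hy)
      (mem_chainProd_succ (S := derSub D.T r) (i := 0) hz rfl)
  have hyz : y * z ∈ derSub D.T r := mul_mem hy' hz
  -- an element fixed by the last level commutes past the root
  have hpast : ∀ v, (∀ y' ∈ derSub D.T (r + 1), ρ y' v = v) → ρ (y * z) v = ρ z v := by
    intro v hv
    have h1 := hv (z⁻¹ * y * z) (by simpa using derSub_conj (inv_mem (H.fixes.le hz)) hy)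
    rw [show y * z = z * (z⁻¹ * y * z) by group, map_mul, Module.End.mul_apply, h1]
  have hL : ∀ {k : ι} {ψ : U →ₗ[K] K}, ψ (F.e k) = 0 → ∀ w ∈ F.W k,
      ψ (ρ (y * z) w) - ψ (ρ z w) = ψ (ρ y w) - ψ w := by
    intro k ψ hψ w hw
    obtain ⟨c, hc⟩ := Submodule.mem_span_singleton.1 (H.line hy hz hw)
    have h1 := congrArg ψ hc
    rw [map_smul, hψ, smul_zero] at h1
    simp only [Module.End.mul_apply, LinearMap.sub_apply, Module.End.one_apply, map_sub] at h1
    rw [map_mul, Module.End.mul_apply]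
    linear_combination -h1
  have hsum := F.isolate_kill H.zero i rfl (H.moves i) (F.pure a) (F.pureDual φ) hq fun g hg hgi => by
    rw [mul_one, F.rho_pure_push H.full hg ha]
    have hbmem := F.push_mem hg ha
    have hbe : ∀ k, k ≠ F.perm g i → k ≠ F.perm g j → F.push g a k = F.e k := fun k h1 h2 =>
      F.push_of_e hg a (hae _ (fun e => h1 (by rw [← e, F.apply_perm_inv hg]))
        (fun e => h2 (by rw [← e, F.apply_perm_inv hg])))
    have hzero_at : ∀ k, φ k (F.e k) = 0 → F.push g a k = F.e k →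
        F.pureDual φ (((ρ y - 1) * (ρ z - 1)) (F.pure (F.push g a))) = 0 := by
      intro k h1 h2
      have hv : ∀ s ∈ derSub D.T r, F.pureDual φ (ρ s (F.pure (F.push g a))) = 0 := fun s hs => by
        rw [F.value_fix H.full H.fixes hs φ hbmem]
        exact Finset.prod_eq_zero (Finset.mem_univ k) (by rw [h2, H.e_fix hs k, h1])
      have h0 : F.pureDual φ (F.pure (F.push g a)) = 0 := by
        have := hv 1 (one_mem _)
        rwa [map_one, Module.End.one_apply] at this
      simp only [Module.End.mul_apply, LinearMap.sub_apply, Module.End.one_apply, map_sub]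
      rw [← Module.End.mul_apply, ← map_mul, hv _ hyz, hv y hy', hv z hz, h0]
      simp
    by_cases hgji : F.perm g j = i
    · by_cases hgij : F.perm g i = j
      · rw [F.diff_two_two H.full H.fixes hy' hz φ hbmem hji.symm fun k hki hkj s hs => by
          rw [hbe k (by rw [hgij]; exact hkj) (by rw [hgji]; exact hki), H.e_fix hs]]
        refine mul_eq_zero_of_left ?_ _
        have hbi : F.push g a i = ρ g x := by
          conv_lhs => rw [← hgji]
          rw [F.push_perm hg, haj]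
        have hbj : F.push g a j = ρ g u := by
          conv_lhs => rw [← hgij]
          rw [F.push_perm hg, hai]
        have hfix' : ∀ y' ∈ derSub D.T (r + 1), ρ y' (F.push g a i) = F.push g a i := by
          intro y' hy''
          have h1 := hyx (g⁻¹ * y' * g) (by simpa using derSub_conj (inv_mem hg) hy'')
          rw [hbi]
          calc ρ y' (ρ g x) = ρ g (ρ (g⁻¹ * y' * g) x) := by
                rw [← Module.End.mul_apply, ← Module.End.mul_apply, ← map_mul, ← map_mul]; congr 2; group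
            _ = ρ g x := by rw [h1]
        have hker : (⟨F.push g a i, hbmem i⟩ : F.W i) ∈ LinearMap.ker N := by
          rw [LinearMap.mem_ker, hN, LinearMap.sub_apply, Module.End.one_apply, sub_eq_zero]
          exact Subtype.ext (hfix' y hy)
        have hαz : α (ρ z (F.push g a i)) = α (F.push g a i) := by
          have h2 : α (ρ z (F.push g a i) - F.push g a i) = 0 := hαS _ (hXker _ hker)
          rwa [map_sub, sub_eq_zero] at h2
        rw [hpast _ hfix', hfix' y hy, hφi, hφj, hαz]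
        have h2 := hL hβe (F.push g a j) (hbmem j)
        linear_combination α (F.push g a i) * h2
      · refine hzero_at j (by rw [hφj]; exact hβe) (hbe j (fun e => hgij e.symm) ?_)
        rw [hgji]; exact hji
    · exact hzero_at i (by rw [hφi]; exact hαe) (hbe i hgi.symm (fun e => hgji e.symm))
  rw [mul_one, F.diff_two_two H.full H.fixes hy' hz φ ha hji.symm fun k hki hkj s hs => by
    rw [hae k hki hkj, H.e_fix hs], hai, haj, hpast x hyx, hyx y hy, hφi, hφj] at hsum
  rcases mul_eq_zero.1 hsum with h | h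
  · have h2 := hL hαe u uw.2
    have hα' : α (ρ y u) - α u = 1 := by rw [← map_sub]; exact hα
    have hβ' : β (ρ z x) - β x = 1 := by rw [← map_sub]; exact hβ
    refine one_ne_zero (α := K) ?_
    linear_combination h - β (ρ z x) * h2 - (β (ρ z x) - β x) * hα' - hβ'
  · obtain ⟨k, hk, hk0⟩ := Finset.prod_eq_zero_iff.1 h
    have hkj := Finset.ne_of_mem_erase hk
    have hki := Finset.ne_of_mem_erase (Finset.mem_of_mem_erase hk)
    rw [hae k hki hkj, hφ, Function.update_of_ne hkj, Function.update_of_ne hki, F.dual_e] at hk0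
    exact one_ne_zero hk0

theorem QHyp.card_blk_cases [Nontrivial ι] (i : ι) : Nat.card (F.blk i) = 9 ∨ Nat.card (F.blk i) = 25 := by
  obtain ⟨y, hy, -, hne⟩ := H.exists_inverting i
  have h1 := H.W_le_five i
  have h2 := F.three_le_finrank _ hne
  have hodd : Odd (finrank K (F.W i)) := by
    have := (D.good.odd).of_dvd_nat (card_subgroup_dvd_card (F.blk i))
    rw [F.card_blk] at this
    exact (Nat.odd_pow_iff two_ne_zero).1 this
  obtain ⟨m, hm⟩ := hodd
  rw [F.card_blk]
  rcases (show m = 1 ∨ m = 2 by omega) with rfl | rfl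
  · left; rw [hm]; norm_num
  · right; rw [hm]; norm_num

/-- Two elements of the fixing level generate the image of a stabilizer. -/
theorem QHyp.exists_pair [Nontrivial ι] (i : ι) :
    ∃ a, ∃ ha : a ∈ derSub D.T r, ∃ b, ∃ hb : b ∈ derSub D.T r,
      F.bt i ⟨a, H.memZ ha⟩ * F.bt i ⟨b, H.memZ hb⟩ ≠ F.bt i ⟨b, H.memZ hb⟩ * F.bt i ⟨a, H.memZ ha⟩ := by
  obtain ⟨y, hy, -, hne⟩ := H.exists_inverting i
  by_contra hh
  push Not at hh
  refine hne ?_
  let Kk : Subgroup G :=
    { carrier := {g | ∃ hg : g ∈ F.stab i, F.bt i ⟨g, hg⟩ = 1}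
      one_mem' := ⟨one_mem _, map_one _⟩
      mul_mem' := fun {a b} ⟨ha, ha'⟩ ⟨hb, hb'⟩ => ⟨mul_mem ha hb, by
        rw [show (⟨a * b, mul_mem ha hb⟩ : F.stab i) = ⟨a, ha⟩ * ⟨b, hb⟩ from rfl, map_mul, ha', hb', one_mul]⟩
      inv_mem' := fun {a} ⟨ha, ha'⟩ => ⟨inv_mem ha, by
        rw [show (⟨a⁻¹, inv_mem ha⟩ : F.stab i) = ⟨a, ha⟩⁻¹ from rfl, map_inv, ha', inv_one]⟩ }
  obtain ⟨_, h⟩ := (show derSub D.T (r + 1) ≤ Kk by
    rw [derSub_succ, commutator_le]
    intro p hp q hq
    refine ⟨mul_mem (mul_mem (mul_mem (H.memZ hp) (H.memZ hq)) (inv_mem (H.memZ hp))) (inv_mem (H.memZ hq)), ?_⟩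
    rw [show (⟨⁅p, q⁆, _⟩ : F.stab i) = ⁅(⟨p, H.memZ hp⟩ : F.stab i), ⟨q, H.memZ hq⟩⁆ from rfl, map_commutatorElement,
      commutatorElement_eq_one_iff_mul_comm]
    exact hh p hp q hq) hy
  exact h

theorem QHyp.image_dvd [Nontrivial ι] (i : ι) : Nat.card (F.loc0 i).tau.range ∣ 8 :=
  card_image_dvd (D := F.loc0 i) (H.card_blk_cases i)

/-- Every stabilizing element agrees with one of the fixing level. -/
theorem QHyp.stab_eq [Nontrivial ι] {i : ι} (c : F.stab i) :
    ∃ x, ∃ hx : x ∈ derSub D.T r, F.bt i c = F.bt i ⟨x, H.memZ hx⟩ := by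
  obtain ⟨a, ha, b, hb, hab⟩ := H.exists_pair i
  have htop := closure_pair_eq_top (H.image_dvd i)
    (a := F.img i ⟨a, H.memZ ha⟩) (b := F.img i ⟨b, H.memZ hb⟩)
    fun e => hab (congrArg Subtype.val e)
  have hle : closure ({F.img i ⟨a, H.memZ ha⟩, F.img i ⟨b, H.memZ hb⟩} :
      Set (F.loc0 i).tau.range) ≤ ((derSub D.T r).subgroupOf (F.stab i)).map (F.img i) := by
    refine (closure_le _).2 fun x hx => ?_
    rcases hx with rfl | rfl
    · exact mem_map_of_mem _ (mem_subgroupOf.2 ha)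
    · exact mem_map_of_mem _ (mem_subgroupOf.2 hb)
  obtain ⟨x, hx, hxe⟩ := hle (htop ▸ mem_top (F.img i c))
  exact ⟨x, hx, (congrArg Subtype.val hxe).symm⟩

/-- The squares in the image. -/
theorem QHyp.sq_cases [Nontrivial ι] {i : ι} (x : F.stab i) :
    F.bt i x = 1 ∨ F.Inverts i x ∨ F.Inverts i (x * x) := by
  obtain ⟨y, hy, hinv, -⟩ := H.exists_inverting i
  obtain ⟨a, ha, b, hb, hab⟩ := H.exists_pair i
  have huniq : ∀ t : (F.loc0 i).tau.range, t * t = 1 → t = 1 ∨ t = F.img i ⟨y, H.memY hy⟩ := by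
    intro t ht
    obtain ⟨g, rfl⟩ := F.img_surjective i t
    have hact : (F.loc0 i).act (g : G) = ((F.img i g : (F.loc0 i).tau.range) : MulAut (F.blk i)) :=
      (F.loc0 i).act_of_mem g.2
    rcases involution_small (D := F.loc0 i) (H.card_blk_cases i) g.2 (fun a => by
      rw [hact]; exact DFunLike.congr_fun (congrArg Subtype.val ht) a) with h | h
    · exact Or.inl (Subtype.ext (hact.symm.trans h))
    · refine Or.inr (Subtype.ext (MulEquiv.ext fun a => ?_))
      rw [← hact, h]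
      exact (hinv a).symm
  have hto : ∀ w : F.stab i, F.bt i w = F.bt i ⟨y, H.memY hy⟩ → F.Inverts i w := fun w hw a => by rw [hw]; exact hinv a
  rcases sq_eq_of_unique (H.image_dvd i) (a := F.img i ⟨a, H.memZ ha⟩)
      (b := F.img i ⟨b, H.memZ hb⟩) (fun e => hab (congrArg Subtype.val e)) huniq
      (F.img i x) with h | h | h
  · exact Or.inl (congrArg Subtype.val h)
  · exact Or.inr (Or.inl (hto x (congrArg Subtype.val h)))
  · refine Or.inr (Or.inr (hto _ ?_))
    rw [← map_mul] at h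
    exact congrArg Subtype.val h

/-- A central element of the image squares to one. -/
theorem QHyp.central_sq [Nontrivial ι] {i : ι} (x : F.stab i)
    (hc : ∀ w, ∀ hw : w ∈ derSub D.T r, F.bt i x * F.bt i ⟨w, H.memZ hw⟩ = F.bt i ⟨w, H.memZ hw⟩ * F.bt i x) :
    F.bt i (x * x) = 1 := by
  obtain ⟨a, ha, b, hb, hab⟩ := H.exists_pair i
  have h := sq_eq_one_of_central (H.image_dvd i) (a := F.img i ⟨a, H.memZ ha⟩)
    (b := F.img i ⟨b, H.memZ hb⟩) (fun e => hab (congrArg Subtype.val e))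
    (y := F.img i x) (mem_center_iff.2 fun γ => by
      obtain ⟨g, rfl⟩ := F.img_surjective i γ
      obtain ⟨w, hw, hwe⟩ := H.stab_eq g
      refine Subtype.ext ?_
      show F.bt i g * F.bt i x = F.bt i x * F.bt i g
      rw [hwe, hc w hw])
  rw [← map_mul] at h
  exact congrArg Subtype.val h

end Frame

end SymData

end Cfsg.Lib.TwoLength
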