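import Cfsg.Agent.TwoLength.DerivedLength.Systems

/-!
Ranks of powers of a nilpotent operator, the rank of the difference of an inverting element, and groups of
order dividing eight.
-/

set_option linter.style.haveILetI false
set_option linter.unusedSectionVars false

namespace Cfsg.Lib.TwoLength

open Module Subgroup Cfsg.Lib.HallHigman
open scoped commutatorElement

universe u v w z

section ranks

variable {K : Type u} [Field K] {V : Type v} [AddCommGroup V] [Module K V] [FiniteDimensional K V]

theorem finrank_map_add (X : Module.End K V) (p : Submodule K V) :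
    finrank K (p.map X) + finrank K (p ⊓ LinearMap.ker X : Submodule K V) = finrank K p := by
  have h := LinearMap.finrank_range_add_finrank_ker (X.domRestrict p)
  rw [LinearMap.range_domRestrict, LinearMap.ker_domRestrict] at h
  rw [← h]
  congr 1
  rw [show (LinearMap.ker X).comap p.subtype = (p ⊓ LinearMap.ker X).comap p.subtype by
    rw [Submodule.comap_inf, Submodule.comap_subtype_self, top_inf_eq]]
  exact (Submodule.comapSubtypeEquivOfLe inf_le_left).finrank_eq.symm

theorem range_sq_eq_map (X : Module.End K V) : (LinearMap.range (X ^ 2)).map X = LinearMap.range (X ^ 3) := by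
  rw [← LinearMap.range_comp]
  rfl

/-- The second rank is bounded by the third and the image of the second kernel. -/
theorem rank_sq_le (X : Module.End K V) :
    finrank K (LinearMap.range (X ^ 2)) ≤
      finrank K (LinearMap.range (X ^ 3)) + finrank K ((LinearMap.ker (X ^ 2)).map X) := by
  have h1 := finrank_map_add X (LinearMap.range (X ^ 2))
  rw [range_sq_eq_map] at h1
  have h2 : (LinearMap.range (X ^ 2) ⊓ LinearMap.ker X : Submodule K V) ≤ (LinearMap.ker (X ^ 2)).map X := by
    rintro u ⟨⟨w, rfl⟩, hu⟩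
    refine ⟨X w, ?_, by rw [pow_two]; rfl⟩
    rw [SetLike.mem_coe, LinearMap.mem_ker, pow_two, Module.End.mul_apply] at hu ⊢
    exact hu
  have h3 := Submodule.finrank_mono h2
  omega

/-- An operator of nilpotency three squares to at most a third. -/
theorem three_rank_le (X : Module.End K V) (h : X ^ 3 = 0) :
    3 * finrank K (LinearMap.range (X ^ 2)) ≤ finrank K V := by
  have h1 := LinearMap.finrank_range_add_finrank_ker (X ^ 2)
  have h2 := finrank_map_add X (LinearMap.ker (X ^ 2))
  have h3 := rank_sq_le X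
  rw [h, LinearMap.range_zero, finrank_bot, zero_add] at h3
  have h4 : LinearMap.range (X ^ 2) ≤ LinearMap.ker (X ^ 2) ⊓ LinearMap.ker X := by
    rintro _ ⟨w, rfl⟩
    refine ⟨?_, ?_⟩ <;> rw [SetLike.mem_coe, LinearMap.mem_ker, ← Module.End.mul_apply]
    · rw [← pow_add, show 2 + 2 = 1 + 3 by rfl, pow_add, h, mul_zero, LinearMap.zero_apply]
    · rw [← pow_succ', h, LinearMap.zero_apply]
  have h5 := Submodule.finrank_mono h4
  omega

/-- The kernel of a square-zero operator of almost half rank is its range and one more vector. -/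
theorem exists_ker_le (N : Module.End K V) (h : N * N = 0)
    (hk : finrank K V ≤ 2 * finrank K (LinearMap.range N) + 1) :
    ∃ t, N t = 0 ∧ LinearMap.ker N ≤ LinearMap.range N ⊔ K ∙ t := by
  have hle : LinearMap.range N ≤ LinearMap.ker N := by
    rintro _ ⟨w, rfl⟩
    rw [LinearMap.mem_ker, ← Module.End.mul_apply, h, LinearMap.zero_apply]
  by_cases he : LinearMap.ker N ≤ LinearMap.range N
  · exact ⟨0, map_zero N, he.trans le_sup_left⟩
  obtain ⟨t, ht, ht'⟩ := SetLike.not_le_iff_exists.1 he
  refine ⟨t, ht, le_of_eq (Submodule.eq_of_le_of_finrank_le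
    (sup_le hle ((Submodule.span_singleton_le_iff_mem _ _).2 ht)) ?_).symm⟩
  have h1 := LinearMap.finrank_range_add_finrank_ker N
  have h2 : finrank K (LinearMap.range N) < finrank K (LinearMap.range N ⊔ K ∙ t : Submodule K V) :=
    Submodule.finrank_lt_finrank_of_lt (lt_of_le_of_ne le_sup_left fun e =>
      ht' (e ▸ Submodule.mem_sup_right (Submodule.mem_span_singleton_self t)))
  omega

end ranks

section small

variable {H : Type u} [Group H] [Finite H]

theorem commute_of_card_le_four (hd : Nat.card H ∣ 4) (a b : H) : a * b = b * a := by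
  haveI : Fact (Nat.Prime 2) := ⟨Nat.prime_two⟩
  obtain ⟨k, hk, he⟩ := (Nat.dvd_prime_pow Nat.prime_two).1 (show Nat.card H ∣ 2 ^ 2 from hd)
  have h : k = 0 ∨ k = 1 ∨ k = 2 := by omega
  rcases h with rfl | rfl | rfl
  · haveI := (Nat.card_eq_one_iff_unique.1 (by simpa using he)).1
    exact Subsingleton.elim _ _
  · haveI : IsCyclic H := isCyclic_of_prime_card (p := 2) (by simpa using he)
    letI := IsCyclic.commGroup (α := H)
    exact mul_comm a b
  · exact IsPGroup.commutative_of_card_eq_prime_sq he a b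

theorem card_eq_eight_of_ne (hd : Nat.card H ∣ 8) {a b : H} (h : a * b ≠ b * a) : Nat.card H = 8 := by
  obtain ⟨k, hk, he⟩ := (Nat.dvd_prime_pow Nat.prime_two).1 (show Nat.card H ∣ 2 ^ 3 from hd)
  by_contra hne
  refine h (commute_of_card_le_four ?_ a b)
  rw [he] at hne ⊢
  interval_cases k <;> simp at hne ⊢

/-- In a non-abelian group of order dividing eight central elements square to one. -/
theorem sq_eq_one_of_central (hd : Nat.card H ∣ 8) {a b : H} (hne : a * b ≠ b * a) {y : H} (hy : y ∈ center H) :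
    y * y = 1 := by
  haveI : Fact (Nat.Prime 2) := ⟨Nat.prime_two⟩
  have h8 := card_eq_eight_of_ne hd hne
  haveI : Nontrivial H := ⟨⟨a, b, fun e => hne (by rw [e])⟩⟩
  have hp : IsPGroup 2 H := IsPGroup.of_card (n := 3) h8
  have hq : Nat.card (H ⧸ center H) * Nat.card (center H) = 8 := by
    rw [← card_eq_card_quotient_mul_card_subgroup, h8]
  have hZ8 : Nat.card (center H) ≠ 8 := fun e => hne
    ((mem_center_iff.1 ((eq_top_of_card_eq _ (e.trans h8.symm) : center H = ⊤) ▸ mem_top b)) a)
  have hZ1 : Nat.card (center H) ≠ 1 := fun e => by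
    haveI := hp.center_nontrivial
    exact (Finite.one_lt_card (α := center H)).ne' e
  obtain ⟨k, hk, he⟩ := (Nat.dvd_prime_pow Nat.prime_two).1
    (show Nat.card (center H) ∣ 2 ^ 3 by rw [show (2 : ℕ) ^ 3 = Nat.card H from h8.symm]; exact card_subgroup_dvd_card _)
  have hZ2 : Nat.card (center H) = 2 := by
    rw [he] at hq hZ1 hZ8 ⊢
    interval_cases k <;> first | omega | skip
    refine absurd ?_ hne
    haveI : IsCyclic (H ⧸ center H) := isCyclic_of_prime_card (p := 2) (by omega)
    exact (commutative_of_cyclic_center_quotient (QuotientGroup.mk' (center H)) (QuotientGroup.ker_mk' _).le) a b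
  have h2 := pow_card_eq_one' (G := center H) (x := ⟨y, hy⟩)
  rw [hZ2, pow_two] at h2
  exact congrArg Subtype.val h2

/-- In a group of order dividing eight commutators square to one. -/
theorem sq_eq_one_of_mem_commutator (hd : Nat.card H ∣ 8) {y : H} (hy : y ∈ commutator H) : y * y = 1 := by
  classical
  haveI : Fact (Nat.Prime 2) := ⟨Nat.prime_two⟩
  by_cases hab : ∀ a b : H, a * b = b * a
  · have : commutator H = ⊥ := by
      rw [eq_bot_iff, _root_.commutator_def, commutator_le]
      exact fun a _ b _ => mem_bot.2 (commutatorElement_eq_one_iff_mul_comm.2 (hab a b))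
    rw [this, mem_bot] at hy
    rw [hy, one_mul]
  push Not at hab
  obtain ⟨a, b, hne⟩ := hab
  have h8 := card_eq_eight_of_ne hd hne
  haveI : Nontrivial H := ⟨⟨a, b, fun e => hne (by rw [e])⟩⟩
  have hp : IsPGroup 2 H := IsPGroup.of_card (n := 3) h8
  have hZ1 : Nat.card (center H) ≠ 1 := fun e => by
    haveI := hp.center_nontrivial
    exact (Finite.one_lt_card (α := center H)).ne' e
  have hq : Nat.card (H ⧸ center H) * Nat.card (center H) = 8 := by
    rw [← card_eq_card_quotient_mul_card_subgroup, h8]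
  have hZ8 : Nat.card (center H) ≠ 8 := fun e => hne
    ((mem_center_iff.1 ((eq_top_of_card_eq _ (e.trans h8.symm) : center H = ⊤) ▸ mem_top b)) a)
  have hd4 : Nat.card (H ⧸ center H) ∣ 4 := by
    obtain ⟨k, hk, he⟩ := (Nat.dvd_prime_pow Nat.prime_two).1
      (show Nat.card (center H) ∣ 2 ^ 3 by rw [show (2 : ℕ) ^ 3 = Nat.card H from h8.symm]; exact card_subgroup_dvd_card _)
    rw [he] at hq hZ1 hZ8
    interval_cases k <;> first
      | omega
      | (rw [show Nat.card (H ⧸ center H) = 4 by omega])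
      | (rw [show Nat.card (H ⧸ center H) = 2 by omega]; norm_num)
  have hyc : y ∈ center H := by
    refine (show commutator H ≤ center H from ?_) hy
    rw [_root_.commutator_def, commutator_le]
    intro c _ d _
    rw [← QuotientGroup.eq_one_iff, ← QuotientGroup.mk'_apply, map_commutatorElement, commutatorElement_eq_one_iff_mul_comm]
    exact commute_of_card_le_four hd4 _ _
  exact sq_eq_one_of_central hd hne hyc

/-- Two elements that do not commute generate a group of order dividing eight. -/
theorem closure_pair_eq_top (hd : Nat.card H ∣ 8) {a b : H} (h : a * b ≠ b * a) : closure ({a, b} : Set H) = ⊤ := by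
  set C := closure ({a, b} : Set H) with hC
  have ha : a ∈ C := subset_closure (Set.mem_insert _ _)
  have hb : b ∈ C := subset_closure (Set.mem_insert_of_mem _ rfl)
  have h1 : Nat.card C = 8 := card_eq_eight_of_ne ((card_subgroup_dvd_card C).trans hd) (a := ⟨a, ha⟩) (b := ⟨b, hb⟩)
    fun e => h (congrArg Subtype.val e)
  refine eq_top_of_card_eq C (le_antisymm (card_le_card_group _) ?_)
  rw [h1]
  exact Nat.le_of_dvd (by norm_num) hd

/-- In a non-abelian group of order dividing eight with one involution every square is one or it. -/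
theorem sq_eq_of_unique (hd : Nat.card H ∣ 8) {a b : H} (hne : a * b ≠ b * a) {η : H}
    (huniq : ∀ t : H, t * t = 1 → t = 1 ∨ t = η) (γ : H) : γ = 1 ∨ γ = η ∨ γ * γ = η := by
  classical
  have h8 : γ ^ 8 = 1 := orderOf_dvd_iff_pow_eq_one.1 ((orderOf_dvd_natCard γ).trans hd)
  have h4 : γ ^ 4 = 1 := by
    by_contra h4
    haveI : Fact (Nat.Prime 2) := ⟨Nat.prime_two⟩
    have ho : orderOf γ = 2 ^ 3 := orderOf_eq_prime_pow (by simpa using h4) (by simpa using h8)
    have hz : zpowers γ = ⊤ := eq_top_of_card_eq _ (le_antisymm (card_le_card_group _)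
      (by rw [Nat.card_zpowers, ho]; exact Nat.le_of_dvd (by norm_num) hd))
    haveI : IsCyclic H := ⟨⟨γ, fun x => (show x ∈ zpowers γ by rw [hz]; exact mem_top x)⟩⟩
    letI := IsCyclic.commGroup (α := H)
    exact hne (mul_comm a b)
  rcases huniq (γ * γ) (by rw [← h4]; simp [pow_succ, mul_assoc]) with h | h
  · rcases huniq γ h with h' | h'
    · exact Or.inl h'
    · exact Or.inr (Or.inl h')
  · exact Or.inr (Or.inr h)

end small

namespace SymData

variable {K : Type u} [Field K] [CharP K 2] {U : Type v} [AddCommGroup U] [Module K U] [Nontrivial U]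
  [FiniteDimensional K U] [IsAlgClosed K] {G : Type w} [Group G] [Finite G] {ρ : G →* Module.End K U} {A : Type z}
  [CommGroup A] [Finite A] {D : SymData ρ A}

theorem Full.isSimple_top (hF : D.Full) : D.IsSimple ⊤ := by
  refine ⟨top_ne_bot, fun _ _ _ => trivial, fun f => ?_⟩
  let X : Module.End K U := (⊤ : Submodule K U).subtype ∘ₗ f ∘ₗ (Submodule.topEquiv.symm).toLinearMap
  exact ⟨X, hF.ge Submodule.mem_top, fun w => rfl⟩

theorem Full.card_eq (hF : D.Full) : Nat.card A = finrank K U ^ 2 := by
  rw [hF.isSimple_top.finrank_sq, finrank_top]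

/-- An inverting element has a difference of rank at least almost half. -/
theorem rank_inversion (hF : D.Full) {y : G} (hy : y ∈ D.T) (hinv : ∀ a, D.act y a = a⁻¹) :
    finrank K U ≤ 2 * finrank K (LinearMap.range (ρ y - 1)) + 1 := by
  classical
  obtain ⟨L, hL⟩ := exists_lagrangian D.good
  have hLiso : L ≤ orthSub D.form L := hL.ge
  set R := D.lift L with hR
  obtain ⟨f₀, v₀, hv₀, -, hv₀w⟩ := exists_wt (ρ := ρ) (D.odd_lift L) (D.lift_comm hLiso) (W := ⊤)
    (fun _ _ _ => trivial) top_ne_bot
  -- the number of cosets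
  have hidx : L.index = finrank K U := by
    have h1 : L.index = Nat.card L := by
      conv_lhs => rw [← hL]
      exact index_orthSub D.good L
    have h2 := card_mul_index L
    rw [h1, hF.card_eq, ← pow_two] at h2
    rw [h1]
    exact Nat.pow_left_injective two_ne_zero h2
  -- conjugation of weights
  have hconj : ∀ x : R, y⁻¹ * (x : G) * y ∈ R := fun x => by
    obtain ⟨hx, hx'⟩ := (D.mem_lift).1 x.2
    have h := D.conj_mem (inv_mem hy) hx
    have e : y⁻¹ * (x : G) * y = y⁻¹ * (x : G) * y⁻¹⁻¹ := by rw [inv_inv]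
    rw [e]
    refine (D.mem_lift).2 ⟨h, ?_⟩
    rw [D.proj_conj (inv_mem hy) ⟨_, hx⟩, D.act_inv hy]
    have e2 : (D.act y)⁻¹ (D.proj ⟨_, hx⟩) = (D.proj ⟨_, hx⟩)⁻¹ := (D.act y).injective (by
      rw [MulAut.apply_inv_self, map_inv, hinv, inv_inv])
    rw [e2]
    exact inv_mem hx'
  let tw : (R →* Kˣ) → (R →* Kˣ) := fun f => MonoidHom.mk' (fun x => f ⟨_, hconj x⟩) fun a b => by
    rw [← map_mul]; congr 1; exact Subtype.ext (by simp [mul_assoc])
  have hU : ∀ f, ∀ v ∈ wt (ρ := ρ) R f, ρ y v ∈ wt (ρ := ρ) R (tw f) := by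
    intro f v hv
    refine mem_wt.2 fun x => ?_
    show ρ (x : G) (ρ y v) = ((f ⟨_, hconj x⟩ : Kˣ) : K) • ρ y v
    rw [← map_smul, ← mem_wt.1 hv ⟨_, hconj x⟩, ← Module.End.mul_apply, ← Module.End.mul_apply, ← map_mul, ← map_mul]
    congr 2
    show (x : G) * y = y * (y⁻¹ * x * y)
    group
  have hback : ∀ (g : G) (u : U), ρ g⁻¹ (ρ g u) = u := fun g u => by rw [← Module.End.mul_apply, rho_inv_mul]; rfl
  have hne : ∀ (g : G) (u : U), u ≠ 0 → ρ g u ≠ 0 := fun g u hu e => hu (by rw [← hback g u, e, map_zero])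
  -- every weight is a twist
  have hwts : ∀ f, ∀ v : U, v ≠ 0 → v ∈ wt (ρ := ρ) R f → ∃ a, f = D.twist f₀ a := by
    intro f v hv0 hv
    by_contra hh
    push Not at hh
    refine hv0 (eq_zero_of_wt (D.odd_lift L) hv ?_)
    obtain ⟨φ, hφ⟩ := exists_functional_one (K := K) hv₀
    have key : ∀ X ∈ D.alg, X v₀ ∈ ⨆ (f' : R →* Kˣ) (_ : f' ≠ f), wt (ρ := ρ) R f' := by
      intro X hX
      induction hX using Submodule.span_induction with
      | mem x hx =>
        obtain ⟨a, rfl⟩ := hx
        exact Submodule.mem_iSup_of_mem _ (Submodule.mem_iSup_of_mem (hh _).symm (D.rho_mem_wt a hv₀w))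
      | zero => simp
      | add x x' _ _ h h' => exact add_mem h h'
      | smul c x _ h => exact Submodule.smul_mem _ c h
    have h := key (φ.smulRight v) (hF.ge Submodule.mem_top)
    rwa [LinearMap.smulRight_apply, hφ, one_smul] at h
  -- the twisting action of the element
  have htwist : ∀ f a, tw (D.twist f a) = D.twist (tw f) a⁻¹ := by
    intro f a
    refine MonoidHom.ext fun x => ?_
    show D.twist f a ⟨_, hconj x⟩ = D.twist (tw f) a⁻¹ x
    simp only [twist, MonoidHom.mul_apply, MonoidHom.mk'_apply]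
    refine congrArg (f ⟨_, hconj x⟩ * ·) ?_
    have e1 : D.proj (⟨y⁻¹ * (x : G) * y, ((D.mem_lift).1 (hconj x)).1⟩ : D.Q) =
        (D.proj ⟨(x : G), ((D.mem_lift).1 x.2).1⟩)⁻¹ := by
      rw [show (⟨y⁻¹ * (x : G) * y, ((D.mem_lift).1 (hconj x)).1⟩ : D.Q) =
        ⟨y⁻¹ * (x : G) * y⁻¹⁻¹, D.conj_mem (inv_mem hy) ((D.mem_lift).1 x.2).1⟩ from
          Subtype.ext (by simp), D.proj_conj (inv_mem hy) ⟨_, ((D.mem_lift).1 x.2).1⟩, D.act_inv hy]
      exact (D.act y).injective (by rw [MulAut.apply_inv_self, map_inv, hinv, inv_inv])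
    rw [e1, map_inv, MonoidHom.inv_apply, map_inv]
  obtain ⟨c₀, hc₀⟩ := hwts (tw f₀) (ρ y v₀) (hne _ _ hv₀) (hU _ _ hv₀w)
  obtain ⟨m, hm⟩ := exists_sq_root D.good c₀
  set b := c₀ ^ m with hb
  have hb2 : b * b = c₀ := by rw [hb, ← mul_pow, ← pow_two, hm]
  set f₁ := D.twist f₀ b with hf₁
  have htt : ∀ (f : R →* Kˣ) (a a' : A), D.twist (D.twist f a) a' = D.twist f (a * a') := fun f a a' => MonoidHom.ext fun x => by
    simp only [twist, MonoidHom.mul_apply, MonoidHom.mk'_apply, map_mul, mul_assoc]
  have hfix : tw f₁ = f₁ := by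
    rw [hf₁, htwist, hc₀, htt, ← hb2, mul_inv_cancel_right]
  obtain ⟨b', hb'⟩ := D.surj b
  set v₁ := ρ (b' : G) v₀ with hv₁
  have hv₁0 : v₁ ≠ 0 := hne _ _ hv₀
  have hv₁w : v₁ ∈ wt (ρ := ρ) R f₁ := by rw [hf₁, ← hb']; exact D.rho_mem_wt b' hv₀w
  -- a vector in each twist
  choose pre hpre using D.surj
  let w : A ⧸ L → U := fun c => ρ (pre c.out : G) v₁
  have hw : ∀ c : A ⧸ L, w c ∈ wt (ρ := ρ) R (D.twist f₁ c.out) := fun c => by
    have := D.rho_mem_wt (pre c.out) hv₁w
    rwa [hpre] at this
  have hw0 : ∀ c, w c ≠ 0 := fun c => hne _ _ hv₁0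
  have hyw : ∀ c : A ⧸ L, ρ y (w c) ∈ wt (ρ := ρ) R (D.twist f₁ c.out⁻¹) := fun c => by
    have := hU _ _ (hw c)
    rwa [htwist, hfix] at this
  have hinj : ∀ a a' : A, D.twist f₁ a = D.twist f₁ a' → (QuotientGroup.mk a : A ⧸ L) = QuotientGroup.mk a' := by
    intro a a' e
    rw [QuotientGroup.eq, ← hL]
    have h := (D.twist_eq_iff f₁ _ _).1 e
    simpa [mul_comm] using inv_mem h
  haveI := Fintype.ofFinite (A ⧸ L)
  let e := Fintype.equivFin (A ⧸ L)
  let H := Finset.univ.filter fun c : A ⧸ L => (e c : ℕ) < e c⁻¹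
  -- the half
  have hcount : Fintype.card (A ⧸ L) ≤ 2 * H.card + 1 := by
    have hsub : (Finset.univ : Finset (A ⧸ L)) ⊆ insert 1 (H ∪ H.image fun c => c⁻¹) := by
      intro c _
      by_cases h1 : c = 1
      · exact Finset.mem_insert.2 (Or.inl h1)
      refine Finset.mem_insert.2 (Or.inr (Finset.mem_union.2 ?_))
      have hne' : (e c : ℕ) ≠ e c⁻¹ := fun h => h1 (by
        have h2 : c = c⁻¹ := e.injective (Fin.ext h)
        refine orderOf_eq_one_iff.1 (Nat.eq_one_of_dvd_coprimes
          ((D.good.odd.of_dvd_nat (card_quotient_dvd_card L)).coprime_two_left) ?_ (orderOf_dvd_natCard c))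
        exact orderOf_dvd_of_pow_eq_one (by rw [pow_two]; nth_rw 2 [h2]; rw [mul_inv_cancel]))
      rcases hne'.lt_or_gt with h | h
      · exact Or.inl (Finset.mem_filter.2 ⟨Finset.mem_univ _, h⟩)
      · exact Or.inr (Finset.mem_image.2 ⟨c⁻¹, Finset.mem_filter.2 ⟨Finset.mem_univ _, by rwa [inv_inv]⟩, inv_inv c⟩)
    calc Fintype.card (A ⧸ L) ≤ (insert 1 (H ∪ H.image fun c => c⁻¹)).card := Finset.card_le_card hsub
      _ ≤ (H ∪ H.image fun c => c⁻¹).card + 1 := Finset.card_insert_le _ _
      _ ≤ H.card + (H.image fun c => c⁻¹).card + 1 := Nat.add_le_add_right (Finset.card_union_le _ _) _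
      _ ≤ 2 * H.card + 1 := by have := Finset.card_image_le (s := H) (f := fun c : A ⧸ L => c⁻¹); omega
  have hli : LinearIndependent K fun c : H => (⟨(ρ y - 1) (w c), ⟨w c, rfl⟩⟩ : LinearMap.range (ρ y - 1)) := by
    rw [Fintype.linearIndependent_iff]
    intro g hg c
    set P := wtProj (ρ := ρ) R (D.twist f₁ (c : A ⧸ L).out) with hP
    have hg' : ∑ d : H, g d • ((ρ y - 1) (w d)) = 0 := by
      simpa using congrArg Subtype.val hg
    have h1 := congrArg P hg'
    rw [map_zero, map_sum, Finset.sum_eq_single c (fun d _ hd => ?_) (fun h => absurd (Finset.mem_univ c) h)] at h1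
    · rw [map_smul, LinearMap.sub_apply, Module.End.one_apply, map_sub, hP,
        wtProj_apply_mem (D.odd_lift L) (hyw c), wtProj_apply_mem (D.odd_lift L) (hw c), if_pos rfl,
        if_neg ?_, zero_sub, smul_neg, neg_eq_zero] at h1
      · exact (smul_eq_zero.1 h1).resolve_right (hw0 c)
      · intro h
        have h2 := hinj _ _ h
        rw [QuotientGroup.mk_inv, QuotientGroup.out_eq'] at h2
        have := (Finset.mem_filter.1 c.2).2
        rw [← h2] at this
        exact lt_irrefl _ this
    · rw [map_smul, LinearMap.sub_apply, Module.End.one_apply, map_sub, hP,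
        wtProj_apply_mem (D.odd_lift L) (hyw d), wtProj_apply_mem (D.odd_lift L) (hw d), if_neg ?_, if_neg ?_,
        sub_zero, smul_zero]
      · intro h
        have h2 := hinj _ _ h
        rw [QuotientGroup.out_eq', QuotientGroup.out_eq'] at h2
        exact hd (Subtype.ext h2).symm
      · intro h
        have h2 := hinj _ _ h
        rw [QuotientGroup.mk_inv, QuotientGroup.out_eq', QuotientGroup.out_eq'] at h2
        have hd' := (Finset.mem_filter.1 d.2).2
        have hc' := (Finset.mem_filter.1 c.2).2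
        rw [h2, inv_inv] at hc'
        exact lt_asymm hd' hc'
  have h1 := hli.fintype_card_le_finrank
  rw [Fintype.card_coe] at h1
  have h2 : Fintype.card (A ⧸ L) = finrank K U := by
    rw [← hidx, index_eq_card, Nat.card_eq_fintype_card]
  omega

end SymData

end Cfsg.Lib.TwoLength
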