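import Cfsg.Agent.TwoLength.DerivedLength.Blocks

/-!
The statement proved by induction, its transfer to a section, and the case of an invariant isotropic
subgroup.
-/

set_option linter.style.haveILetI false
set_option linter.unusedSectionVars false

namespace Cfsg.Lib.TwoLength

open Module Subgroup Cfsg.Lib.HallHigman
open scoped commutatorElement

universe u v w z

theorem mem_derSub_subgroupOf {G : Type*} [Group G] {H G₁ : Subgroup G} (h : H ≤ G₁) (i : ℕ) (x : G₁) :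
    x ∈ derSub (H.subgroupOf G₁) i ↔ (x : G) ∈ derSub H i := by
  have e : (derSub (H.subgroupOf G₁) i).map G₁.subtype = derSub H i := by
    rw [map_derSub, subgroupOf_map_subtype, inf_eq_left.2 h]
  constructor
  · intro hx
    exact e ▸ mem_map_of_mem _ hx
  · intro hx
    rw [← e] at hx
    obtain ⟨y, hy, hyx⟩ := hx
    rwa [G₁.subtype_injective hyx] at hy

variable {K : Type u} [Field K] [CharP K 2] {U : Type v} [AddCommGroup U] [Module K U] [Nontrivial U]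
  {G : Type w} [Group G] [Finite G]

namespace SymData

variable {ρ : G →* Module.End K U} {A : Type z} [CommGroup A] [Finite A] (D : SymData ρ A)

/-- The statement proved by induction. -/
def Goal (r : ℕ) : Prop :=
  (∀ y ∈ derSub D.T (r + 1), D.act y = 1) ∨
    (r = 0 ∧ ∀ e ∈ D.T, ∀ z ∈ D.T, D.act ⁅e, z⁆ = 1 ∨ D.act (⁅e, z⁆ * (e ^ 2)⁻¹) = 1)

/-- Trivial on the section cut out by a subgroup. -/
def SecTriv (A₁ : Subgroup A) (g : G) : Prop := ∀ a ∈ A₁, D.act g a * a⁻¹ ∈ orthSub D.form A₁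

/-- The data on an invariant subspace. -/
noncomputable def restrict (W : Submodule K U) (G₁ : Subgroup G) (hG : ∀ g : G₁, ∀ w ∈ W, ρ (g : G) w ∈ W)
    (hQ : D.Q ≤ G₁) (hT : D.T ≤ G₁) : SymData (restrictRep (ρ.comp G₁.subtype) W hG) A where
  Q := D.Q.subgroupOf G₁
  T := D.T.subgroupOf G₁
  odd_Q := by rw [Nat.card_congr (subgroupOfEquivOfLe hQ).toEquiv]; exact D.odd_Q
  norm := fun p hp => mem_normalizer_of_conj_le fun a ha => D.conj_mem (show (p : G) ∈ D.T from hp) ha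
  two := D.two.comap_of_injective _ G₁.subtype_injective
  proj := D.proj.comp (subgroupOfEquivOfLe hQ).toMonoidHom
  surj := D.surj.comp (subgroupOfEquivOfLe hQ).surjective
  form := D.form
  good := D.good
  comm := fun a b => LinearMap.ext fun w => Subtype.ext (LinearMap.congr_fun
    (D.comm ⟨_, a.2⟩ ⟨_, b.2⟩) (w : U))
  scal := fun a h => by
    obtain ⟨r, hr⟩ := D.scal ((subgroupOfEquivOfLe hQ).toMonoidHom a) h
    exact ⟨r, LinearMap.ext fun w => Subtype.ext (LinearMap.congr_fun hr (w : U))⟩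
  tau := D.tau.comp (subgroupOfEquivOfLe hT).toMonoidHom
  tau_spec := fun t a _ => D.tau_spec ((subgroupOfEquivOfLe hT).toMonoidHom t)
    ((subgroupOfEquivOfLe hQ).toMonoidHom a) _

variable {D}

theorem act_restrict {W : Submodule K U} {G₁ : Subgroup G} {hG : ∀ g : G₁, ∀ w ∈ W, ρ (g : G) w ∈ W}
    {hQ : D.Q ≤ G₁} {hT : D.T ≤ G₁} {g : G₁} (hg : (g : G) ∈ D.T) :
    (D.restrict W G₁ hG hQ hT).act g = D.act g := by
  rw [(D.restrict W G₁ hG hQ hT).act_of_mem (g := g) hg, D.act_of_mem hg]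
  rfl

theorem full_restrict {W : Submodule K U} (hW : D.IsSimple W) {G₁ : Subgroup G}
    (hG : ∀ g : G₁, ∀ w ∈ W, ρ (g : G) w ∈ W) (hQ : D.Q ≤ G₁) (hT : D.T ≤ G₁) :
    (D.restrict W G₁ hG hQ hT).Full := by
  refine eq_top_iff.2 fun f _ => ?_
  obtain ⟨X, hX, hXf⟩ := hW.full f
  have key : ∀ X ∈ D.alg, ∃ Y ∈ (D.restrict W G₁ hG hQ hT).alg, ∀ w : W, ((Y w : W) : U) = X (w : U) := by
    intro X hX
    induction hX using Submodule.span_induction with
    | mem x hx =>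
      obtain ⟨a, rfl⟩ := hx
      exact ⟨_, (D.restrict W G₁ hG hQ hT).rho_mem_alg (a := ⟨(a : G), hQ a.2⟩) a.2, fun w => rfl⟩
    | zero => exact ⟨0, zero_mem _, fun w => rfl⟩
    | add x y _ _ hx hy =>
      obtain ⟨x', hx', ex⟩ := hx
      obtain ⟨y', hy', ey⟩ := hy
      exact ⟨x' + y', add_mem hx' hy', fun w => by rw [LinearMap.add_apply, Submodule.coe_add, ex, ey]; rfl⟩
    | smul c x _ hx =>
      obtain ⟨x', hx', ex⟩ := hx
      exact ⟨c • x', Submodule.smul_mem _ _ hx', fun w => by rw [LinearMap.smul_apply, Submodule.coe_smul, ex]; rfl⟩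
  obtain ⟨Y, hY, hYe⟩ := key X hX
  rwa [show f = Y from LinearMap.ext fun w => Subtype.ext (by rw [hYe, hXf])]

/-- An element of two-power order fixing a subgroup and stabilizing its cosets fixes everything in them. -/
theorem fix_of_coset {g : G} (hg : g ∈ D.T) {N M : Subgroup A} (hN : ∀ m ∈ M, D.act g m = m)
    (h : ∀ a ∈ N, D.act g a * a⁻¹ ∈ M) : ∀ a ∈ N, D.act g a = a := by
  intro a ha
  have hiter : ∀ j : ℕ, D.act (g ^ j) a = (D.act g a * a⁻¹) ^ j * a := by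
    intro j
    induction j with
    | zero => rw [pow_zero, D.act_one, pow_zero, one_mul]; rfl
    | succ j ih =>
      rw [pow_succ', D.act_mul hg (pow_mem hg j), MulAut.mul_apply, ih, map_mul, map_pow, hN _ (h a ha),
        pow_succ, mul_assoc, inv_mul_cancel_right]
  obtain ⟨i, hi⟩ := D.two ⟨g, hg⟩
  have h1 := hiter (2 ^ i)
  rw [show g ^ 2 ^ i = 1 from congrArg Subtype.val hi, D.act_one] at h1
  have h2 : (D.act g a * a⁻¹) ^ 2 ^ i = 1 := mul_eq_right.1 h1.symm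
  exact mul_inv_eq_one.1 (orderOf_eq_one_iff.1 (Nat.eq_one_of_dvd_coprimes
    (Nat.Coprime.pow_left i D.good.odd.coprime_two_left) (orderOf_dvd_of_pow_eq_one h2) (orderOf_dvd_natCard _)))

/-- Trivial on three layers is trivial. -/
theorem eq_one_of_layers {g : G} (hg : g ∈ D.T) {M : Subgroup A} (hM : M ≤ orthSub D.form M)
    (h1 : ∀ m ∈ M, D.act g m = m) (h2 : ∀ a ∈ orthSub D.form M, D.act g a * a⁻¹ ∈ M) : D.act g = 1 := by
  have h3 := fix_of_coset hg h1 h2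
  refine MulEquiv.ext fun a => fix_of_coset hg h3 (N := ⊤) (fun b _ m hm => ?_) a (mem_top a)
  rw [map_mul, map_inv, MonoidHom.mul_apply, MonoidHom.inv_apply]
  nth_rw 1 [← h1 m hm]
  rw [D.act_keeps hg, mul_inv_cancel]

theorem secTriv_of_rho {A₁ : Subgroup A} {W : Submodule K U} (hW0 : W ≠ ⊥)
    (hWQ : ∀ a : D.lift A₁, ∀ w ∈ W, ρ (a : G) w ∈ W) {g : G} (hg : g ∈ D.T)
    (hA : ∀ a ∈ A₁, D.act g a ∈ A₁) (h : ∀ w ∈ W, ρ g w = w) : D.SecTriv A₁ g := by
  intro a ha m hm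
  obtain ⟨a, rfl⟩ := D.surj a
  obtain ⟨m, rfl⟩ := D.surj m
  obtain ⟨w, hwW, hw0⟩ := Submodule.exists_mem_ne_zero_of_ne_bot hW0
  set d : D.Q := ⟨g * a * g⁻¹, D.conj_mem hg a.2⟩ * a⁻¹ with hd
  have hdA : D.proj d = D.act g (D.proj a) * (D.proj a)⁻¹ := by rw [hd, map_mul, map_inv, D.proj_conj hg a]
  have hgi : ∀ w ∈ W, ρ g⁻¹ w = w := fun w hw => by
    conv_lhs => rw [← h w hw]
    rw [← Module.End.mul_apply, rho_inv_mul]; rfl
  have hal : ∀ x : D.Q, D.proj x ∈ A₁ → ∀ u ∈ W, ρ (x : G) u ∈ W := fun x hx u hu =>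
    hWQ ⟨x, (D.mem_lift).2 ⟨x.2, hx⟩⟩ u hu
  have hdfix : ∀ u ∈ W, ρ (d : G) u = u := by
    intro u hu
    show ρ (g * (a : G) * g⁻¹ * (a : G)⁻¹) u = u
    have hau : ρ (a : G)⁻¹ u ∈ W := hal a⁻¹ (by rw [map_inv]; exact inv_mem ha) u hu
    rw [map_mul, map_mul, map_mul, Module.End.mul_apply, Module.End.mul_apply, Module.End.mul_apply, hgi _ hau,
      ← Module.End.mul_apply (ρ (a : G)), rho_mul_inv, Module.End.one_apply, h u hu]
  have h1 := LinearMap.congr_fun (D.comm d m) w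
  simp only [Module.End.mul_apply, LinearMap.smul_apply] at h1
  rw [hdfix _ (hal m hm w hwW), hdfix w hwW] at h1
  have hne : ρ (m : G) w ≠ 0 := fun e => hw0 (by
    have := congrArg (ρ (m : G)⁻¹) e
    rwa [map_zero, ← Module.End.mul_apply, rho_inv_mul, Module.End.one_apply] at this)
  rw [← hdA]
  exact Units.ext (smul_left_injective K hne (h1.symm.trans (one_smul K _).symm))

end SymData

/-- The induction hypothesis. -/
def CoreBelow (K : Type u) [Field K] (n : ℕ) : Prop :=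
  ∀ (G : Type w) [Group G] [Finite G] (U : Type v) [AddCommGroup U] [Module K U] [FiniteDimensional K U]
    [Nontrivial U] (ρ : G →* Module.End K U) (A : Type z) [CommGroup A] [Finite A] (D : SymData ρ A),
    D.Full → Nat.card A < n → ∀ r, ChainZero ρ D.T (r + 2) → D.Goal r

namespace SymData

variable [IsAlgClosed K] [FiniteDimensional K U] {ρ : G →* Module.End K U} {A : Type z} [CommGroup A] [Finite A]
  {D : SymData ρ A}

/-- The statement for a section. -/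
theorem sub_goal {n : ℕ} (ih : CoreBelow.{u, v, w, z} K n) (A₁ : Subgroup A) (P : Subgroup G) (hP : P ≤ D.T)
    (hA : ∀ p ∈ P, ∀ a ∈ A₁, D.act p a ∈ A₁) (W : Submodule K U) (hW0 : W ≠ ⊥)
    (hWQ : ∀ a : D.lift A₁, ∀ w ∈ W, ρ (a : G) w ∈ W) (hWP : ∀ p ∈ P, ∀ w ∈ W, ρ p w ∈ W)
    (hscal : ∀ a : D.lift A₁, D.secProj A₁ a = 1 → ∃ r : K, ∀ w ∈ W, ρ (a : G) w = r • w)
    (hsmall : Nat.card (D.SecGroup A₁) < n) (r : ℕ) (hzero : ∀ p ∈ chainProd ρ P (r + 2), ∀ w ∈ W, p w = 0) :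
    (∀ y ∈ derSub P (r + 1), D.SecTriv A₁ y) ∨
      (r = 0 ∧ ∀ e ∈ P, ∀ z ∈ P, D.SecTriv A₁ ⁅e, z⁆ ∨ D.SecTriv A₁ (⁅e, z⁆ * (e ^ 2)⁻¹)) := by
  classical
  set G₁ := stabSub ρ W with hG₁
  have hG : ∀ g : G₁, ∀ w ∈ W, ρ (g : G) w ∈ W := fun g => g.2
  have hQG : D.lift A₁ ≤ G₁ := fun a ha => hWQ ⟨a, ha⟩
  have hPG : P ≤ G₁ := hWP
  let D₁ := D.sub A₁ G₁ hG hQG hP hPG hA hscal
  haveI : Nontrivial W := (Submodule.nontrivial_iff_ne_bot).2 hW0
  obtain ⟨W', -, hW', hW'P⟩ := exists_invariant_simple (D := D₁) _ D₁.T rfl le_rfl ⊤ top_ne_bot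
    (fun _ _ _ => trivial) (fun _ _ _ _ => trivial)
  let ρ₁ := restrictRep (ρ.comp G₁.subtype) W hG
  let G₂ := stabSub ρ₁ W'
  have hG2 : ∀ g : G₂, ∀ w ∈ W', ρ₁ (g : G₁) w ∈ W' := fun g => g.2
  have hQ2 : D₁.Q ≤ G₂ := fun a ha => hW'.inv ⟨a, ha⟩
  have hT2 : D₁.T ≤ G₂ := hW'P
  let D₂ := D₁.restrict W' G₂ hG2 hQ2 hT2
  haveI : Nontrivial W' := (Submodule.nontrivial_iff_ne_bot).2 hW'.ne_bot
  have hchain : ChainZero (R := Module.End K W') (restrictRep (ρ₁.comp G₂.subtype) W' hG2) D₂.T (r + 2) := by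
    intro p hp
    obtain ⟨p₁, hp₁, he₁⟩ := chainProd_restrict ρ₁ W' G₂ hG2 hT2 _ p hp
    obtain ⟨p₀, hp₀, he₀⟩ := chainProd_restrict ρ W G₁ hG hPG _ p₁ hp₁
    refine LinearMap.ext fun w => Subtype.ext ?_
    rw [he₁]
    exact Subtype.ext ((he₀ _).trans (hzero p₀ hp₀ _ (w : W).2))
  have htrans : ∀ g, ∀ hg : g ∈ P, D₂.act ⟨⟨g, hPG hg⟩, hT2 (show (⟨g, hPG hg⟩ : G₁) ∈ D₁.T from hg)⟩ = 1 →
      D.SecTriv A₁ g := by
    intro g hg h a ha
    rw [act_restrict (D := D₁) (g := ⟨⟨g, hPG hg⟩, _⟩) (show (⟨g, hPG hg⟩ : G₁) ∈ D₁.T from hg)] at h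
    have h1 := DFunLike.congr_fun h (QuotientGroup.mk (⟨a, ha⟩ : A₁))
    rw [D.act_sub A₁ G₁ hG hQG hP hPG hA hscal hg, MulAut.one_apply, eq_comm, QuotientGroup.eq] at h1
    have h2 : a⁻¹ * D.act g a ∈ orthSub D.form A₁ := h1
    rwa [mul_comm]
  rcases ih G₂ W' (restrictRep (ρ₁.comp G₂.subtype) W' hG2) (D.SecGroup A₁) D₂
    (full_restrict hW' hG2 hQ2 hT2) hsmall r hchain with h | ⟨hr, h⟩
  · exact Or.inl fun y hy => htrans y (derSub_le P _ hy) (h _
      ((mem_derSub_subgroupOf hT2 (r + 1) _).2 ((mem_derSub_subgroupOf hPG (r + 1) _).2 hy)))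
  · refine Or.inr ⟨hr, fun e he z hz => ?_⟩
    have h' := h ⟨⟨e, hPG he⟩, hT2 (show (⟨e, hPG he⟩ : G₁) ∈ D₁.T from he)⟩ he
      ⟨⟨z, hPG hz⟩, hT2 (show (⟨z, hPG hz⟩ : G₁) ∈ D₁.T from hz)⟩ hz
    have hc : ⁅e, z⁆ ∈ P := mul_mem (mul_mem (mul_mem he hz) (inv_mem he)) (inv_mem hz)
    exact h'.imp (fun h1 => htrans _ hc h1) (fun h1 => htrans _ (mul_mem hc (inv_mem (pow_mem he 2))) h1)

theorem twist_one {M : Subgroup A} (f : D.lift M →* Kˣ) : D.twist f 1 = f := by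
  ext r; simp [twist]

theorem rho_wt_orth {M : Subgroup A} {f : D.lift M →* Kˣ} (a : D.Q) (ha : D.proj a ∈ orthSub D.form M) {v : U}
    (hv : v ∈ wt (ρ := ρ) (D.lift M) f) : ρ (a : G) v ∈ wt (ρ := ρ) (D.lift M) f := by
  have h := D.rho_mem_wt a hv
  rwa [show D.twist f (D.proj a) = f by
    conv_rhs => rw [← twist_one (D := D) f]
    rw [twist_eq_iff, inv_one, mul_one]; exact ha] at h

/-- An invariant isotropic subgroup. -/
theorem goal_of_isotropic {n : ℕ} (ih : CoreBelow.{u, v, w, z} K n) (hn : Nat.card A ≤ n) (hF : D.Full) (r : ℕ)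
    (hzero : ChainZero ρ D.T (r + 2)) {M : Subgroup A} (hM0 : M ≠ ⊥) (hM : M ≤ orthSub D.form M)
    (hMinv : ∀ g ∈ D.T, ∀ a ∈ M, D.act g a ∈ M) : D.Goal r := by
  classical
  haveI : Fact (Nat.Prime 2) := ⟨Nat.prime_two⟩
  set R := D.lift M with hR
  have hRconj : ∀ g ∈ D.T, ∀ x : R, g⁻¹ * (x : G) * g ∈ R := fun g hg x => by
    obtain ⟨hx, hx'⟩ := (D.mem_lift).1 x.2
    have h := D.conj_mem (inv_mem hg) hx
    rw [inv_inv] at h
    refine (D.mem_lift).2 ⟨h, ?_⟩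
    rw [show (⟨_, h⟩ : D.Q) = ⟨g⁻¹ * x * g⁻¹⁻¹, D.conj_mem (inv_mem hg) hx⟩ from
        Subtype.ext (congrArg (g⁻¹ * (x : G) * ·) (inv_inv g).symm),
      D.proj_conj (inv_mem hg) ⟨_, hx⟩]
    exact hMinv _ (inv_mem hg) _ hx'
  let tw : G → (R →* Kˣ) → (R →* Kˣ) := fun g f =>
    if hg : g ∈ D.T then MonoidHom.mk' (fun x => f ⟨_, hRconj g hg x⟩) fun x y => by
      rw [← map_mul]; congr 1; exact Subtype.ext (by simp [mul_assoc]) else f
  have htw : ∀ g, ∀ hg : g ∈ D.T, ∀ f x, tw g f x = f ⟨_, hRconj g hg x⟩ := fun g hg f x => by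
    simp [tw, hg]
  have hone : ∀ f, tw 1 f = f := fun f => MonoidHom.ext fun x => by
    rw [htw 1 (one_mem _)]; congr 1; exact Subtype.ext (by simp)
  have hmul : ∀ a ∈ D.T, ∀ b ∈ D.T, ∀ f, tw (a * b) f = tw a (tw b f) := fun a ha b hb f => MonoidHom.ext fun x => by
    rw [htw _ (mul_mem ha hb), htw a ha, htw b hb]; congr 1; exact Subtype.ext (by simp [mul_assoc])
  have hU : ∀ g ∈ D.T, ∀ f, ∀ v ∈ wt (ρ := ρ) R f, ρ g v ∈ wt (ρ := ρ) R (tw g f) := by
    intro g hg f v hv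
    refine mem_wt.2 fun x => ?_
    rw [htw g hg, ← map_smul, ← mem_wt.1 hv ⟨_, hRconj g hg x⟩, ← Module.End.mul_apply, ← Module.End.mul_apply,
      ← map_mul, ← map_mul]
    congr 2
    show (x : G) * g = g * (g⁻¹ * x * g)
    group
  obtain ⟨f₀, v₀, hv₀, -, hv₀w⟩ := exists_wt (ρ := ρ) (D.odd_lift M) (D.lift_comm hM) (W := ⊤)
    (fun _ _ _ => trivial) top_ne_bot
  -- the weights are the twists of one of them
  have hback : ∀ (g : G) (u : U), ρ g⁻¹ (ρ g u) = u := fun g u => by rw [← Module.End.mul_apply, rho_inv_mul]; rfl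
  have hwts : ∀ f, ∀ v : U, v ≠ 0 → v ∈ wt (ρ := ρ) R f → ∃ a, f = D.twist f₀ a := by
    intro f v hv0 hv
    by_contra hh
    push Not at hh
    refine hv0 (eq_zero_of_wt (D.odd_lift M) hv ?_)
    obtain ⟨φ, hφ⟩ := exists_functional_one (K := K) hv₀
    have hX : φ.smulRight v ∈ D.alg := hF.ge Submodule.mem_top
    have key : ∀ X ∈ D.alg, X v₀ ∈ ⨆ (f' : R →* Kˣ) (_ : f' ≠ f), wt (ρ := ρ) R f' := by
      intro X hX
      induction hX using Submodule.span_induction with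
      | mem x hx =>
        obtain ⟨a, rfl⟩ := hx
        exact Submodule.mem_iSup_of_mem _ (Submodule.mem_iSup_of_mem (hh _).symm (D.rho_mem_wt a hv₀w))
      | zero => simp
      | add x x' _ _ h h' => exact add_mem h h'
      | smul c x _ h => exact Submodule.smul_mem _ c h
    have h := key _ hX
    rwa [LinearMap.smulRight_apply, hφ, one_smul] at h
  -- a weight fixed by the group
  let Λ := {f : R →* Kˣ // ∃ a, f = D.twist f₀ a}
  have htwΛ : ∀ g ∈ D.T, ∀ a, ∃ b, tw g (D.twist f₀ a) = D.twist f₀ b := by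
    intro g hg a
    obtain ⟨a, rfl⟩ := D.surj a
    refine hwts _ (ρ g (ρ (a : G) v₀)) (fun e => hv₀ ?_) (hU g hg _ _ (D.rho_mem_wt a hv₀w))
    rw [← hback (a : G) v₀, ← hback g (ρ (a : G) v₀), e, map_zero, map_zero]
  let Λact : MulAction D.T Λ :=
    { smul := fun g f => ⟨tw g f, by obtain ⟨a, ha⟩ := f.2; rw [ha]; exact htwΛ g g.2 a⟩
      one_smul := fun f => Subtype.ext (hone f.1)
      mul_smul := fun g h f => Subtype.ext (hmul g g.2 h h.2 f.1) }
  have hcard : Odd (Nat.card Λ) := by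
    let p : A ⧸ orthSub D.form M → Λ := fun q => ⟨D.twist f₀ q.out, q.out, rfl⟩
    have hp : Function.Bijective p := by
      refine ⟨fun q q' e => ?_, fun f => ?_⟩
      · rw [← QuotientGroup.out_eq' q, ← QuotientGroup.out_eq' q', QuotientGroup.eq]
        have h := (D.twist_eq_iff f₀ _ _).1 (congrArg Subtype.val e)
        simpa [mul_comm] using inv_mem h
      · obtain ⟨a, ha⟩ := f.2
        refine ⟨QuotientGroup.mk a, Subtype.ext ?_⟩
        show D.twist f₀ _ = f.1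
        rw [ha, twist_eq_iff]
        obtain ⟨h, hh⟩ := QuotientGroup.mk_out_eq_mul (orthSub D.form M) a
        rw [hh]
        simp [mul_comm a]
    rw [← Nat.card_congr (Equiv.ofBijective p hp), ← index_eq_card, index_orthSub D.good]
    exact D.good.odd.of_dvd_nat (card_subgroup_dvd_card M)
  haveI : Finite Λ := Nat.finite_of_card_ne_zero (fun h => by rw [h] at hcard; simp at hcard)
  obtain ⟨f₁, hf₁⟩ := D.two.nonempty_fixed_point_of_prime_not_dvd_card Λ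
    (hcard.not_two_dvd_nat)
  have hf₁' : ∀ g ∈ D.T, tw g f₁.1 = f₁.1 := fun g hg => congrArg Subtype.val (hf₁ ⟨g, hg⟩)
  have hwt₁ : ∀ f : Λ, wt (ρ := ρ) R f.1 ≠ ⊥ := by
    intro f h
    obtain ⟨a, ha⟩ := f.2
    obtain ⟨a, rfl⟩ := D.surj a
    have h1 := D.rho_mem_wt a hv₀w
    have h1' : ρ (a : G) v₀ ∈ wt (ρ := ρ) R f.1 := ha ▸ h1
    rw [h, Submodule.mem_bot] at h1'
    exact hv₀ (by rw [← hback (a : G) v₀, h1', map_zero])
  have hmono : ∀ (f : R →* Kˣ) (S : Subgroup G), (⨆ (f') (_ : ∀ t ∈ S, tw t f ≠ f'), wt (ρ := ρ) R f') ≤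
      ⨆ (f' : R →* Kˣ) (_ : f' ≠ f), wt (ρ := ρ) R f' := fun f S =>
    iSup₂_le fun f' hf' => le_iSup₂_of_le (f := fun f' (_ : f' ≠ f) => wt (ρ := ρ) R f') f'
      (fun e => hf' 1 (one_mem _) (by rw [hone]; exact e.symm)) le_rfl
  -- the deep members fix every weight
  have hdeep : ∀ y ∈ derSub D.T (r + 1), ∀ f : Λ, tw y f.1 = f.1 := by
    intro y hy f
    by_contra hne
    obtain ⟨q, hq, hqv⟩ := exists_isolating (p := 2) tw hone ρ (fun f => wt (ρ := ρ) R f) D.T hmul D.two hU f.1 (r + 2)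
      fun i hi => ⟨y, derSub_antitone D.T (by omega) hy, hne⟩
    obtain ⟨v, hv, hv0⟩ := Submodule.exists_mem_ne_zero_of_ne_bot (hwt₁ f)
    refine hv0 (eq_zero_of_wt (D.odd_lift M) hv ?_)
    have h := hqv v hv
    rw [hzero q hq, LinearMap.zero_apply, zero_sub, neg_mem_iff] at h
    exact hmono _ _ h
  have hM1 : ∀ g ∈ D.T, (∀ f : Λ, tw g f.1 = f.1) → ∀ m ∈ M, D.act g m = m := by
    intro g hg hfix m hm
    suffices h : ∀ a, D.form (D.act g⁻¹ m) a = D.form m a by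
      have e : D.act g⁻¹ m = m := mul_inv_eq_one.1 (D.good.nondeg _ fun a => by
        rw [map_mul, map_inv, MonoidHom.mul_apply, MonoidHom.inv_apply, h, mul_inv_cancel])
      conv_lhs => rw [← e, D.act_inv hg, MulAut.apply_inv_self]
    intro a
    obtain ⟨m, rfl⟩ := D.surj m
    have hx : (m : G) ∈ R := (D.mem_lift).2 ⟨m.2, hm⟩
    have e1 : ∀ b, f₀ ⟨_, hRconj g hg ⟨_, hx⟩⟩ * D.form (D.act g⁻¹ (D.proj m)) b =
        f₀ ⟨_, hx⟩ * D.form (D.proj m) b := by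
      intro b
      have h := DFunLike.congr_fun (hfix ⟨D.twist f₀ b, b, rfl⟩) ⟨_, hx⟩
      rw [htw g hg] at h
      simp only [twist, MonoidHom.mul_apply, MonoidHom.mk'_apply] at h
      rw [show D.act g⁻¹ (D.proj m) = D.proj ⟨g⁻¹ * m * g, by simpa using D.conj_mem (inv_mem hg) m.2⟩ by
        rw [← D.proj_conj (inv_mem hg) m]; congr 1; exact Subtype.ext (by simp)]
      exact h
    have h1 := e1 1
    rw [map_one, map_one, mul_one, mul_one] at h1
    have h2 := e1 a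
    rw [h1] at h2
    exact mul_left_cancel h2
  -- the section
  set A₁ := orthSub D.form M with hA₁
  have hA₁inv : ∀ p ∈ D.T, ∀ a ∈ A₁, D.act p a ∈ A₁ := fun p hp a ha =>
    D.map_mem_orth M le_rfl hMinv hp ha
  have horth : orthSub D.form A₁ = M := orthSub_orthSub D.good M
  set W := wt (ρ := ρ) R f₁.1 with hW
  have hWQ : ∀ a : D.lift A₁, ∀ w ∈ W, ρ (a : G) w ∈ W := fun a w hw => by
    obtain ⟨ha, ha'⟩ := (D.mem_lift).1 a.2
    exact rho_wt_orth ⟨_, ha⟩ ha' hw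
  have hWT : ∀ p ∈ D.T, ∀ w ∈ W, ρ p w ∈ W := fun p hp w hw => by
    have := hU p hp _ w hw
    rwa [hf₁' p hp] at this
  have hscal : ∀ a : D.lift A₁, D.secProj A₁ a = 1 → ∃ c : K, ∀ w ∈ W, ρ (a : G) w = c • w := by
    intro a ha
    obtain ⟨hq, hq'⟩ := (D.mem_lift).1 a.2
    have h1 : D.proj ⟨_, hq⟩ ∈ orthSub D.form A₁ := (QuotientGroup.eq_one_iff (⟨D.proj ⟨_, hq⟩, hq'⟩ : A₁)).1 ha
    rw [horth] at h1
    exact ⟨_, fun w hw => mem_wt.1 hw ⟨_, (D.mem_lift).2 ⟨hq, h1⟩⟩⟩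
  have hsmall : Nat.card (D.SecGroup A₁) < n := by
    refine lt_of_lt_of_le ?_ hn
    refine lt_of_le_of_lt (Nat.card_le_card_of_surjective _ (QuotientGroup.mk'_surjective _)) ?_
    rw [← card_mul_index A₁, index_orthSub D.good]
    exact lt_mul_of_one_lt_right Nat.card_pos (Nat.one_lt_iff_ne_zero_and_ne_one.2
      ⟨Nat.card_pos.ne', fun h => hM0 (eq_bot_of_card_eq M h)⟩)
  have hlayer : ∀ g ∈ D.T, D.SecTriv A₁ g → (∀ f : Λ, tw g f.1 = f.1) → D.act g = 1 := fun g hg hs hfix =>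
    eq_one_of_layers hg hM (hM1 g hg hfix) fun a ha => horth ▸ hs a ha
  rcases sub_goal ih A₁ D.T le_rfl hA₁inv W (hwt₁ f₁) hWQ hWT hscal hsmall r
    (fun p hp w _ => by rw [hzero p hp, LinearMap.zero_apply]) with h | ⟨rfl, h⟩
  · exact Or.inl fun y hy => hlayer y (derSub_le _ _ hy) (h y hy) (hdeep y hy)
  by_cases hyall : ∀ y ∈ derSub D.T 1, D.act y = 1
  · exact Or.inl hyall
  push Not at hyall
  obtain ⟨y, hy, hy1⟩ := hyall
  have hyT := derSub_le _ _ hy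
  have hall : ∀ g ∈ D.T, ∀ f : Λ, tw g f.1 = f.1 := by
    intro g hg f
    by_contra hne
    obtain ⟨q, hq, hqv⟩ := exists_isolating (p := 2) tw hone ρ (fun f => wt (ρ := ρ) R f) D.T hmul D.two hU f.1 1
      fun i hi => ⟨g, by rw [show i = 0 by omega]; exact hg, hne⟩
    have hfix : ∀ v ∈ wt (ρ := ρ) R f.1, ρ y v = v := by
      intro v hv
      refine sub_eq_zero.1 (eq_zero_of_wt (f := f.1) (D.odd_lift M)
        (sub_mem (hdeep y hy f ▸ hU y hyT _ v hv) hv) ?_)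
      set S := ⨆ (f' : R →* Kˣ) (_ : f' ≠ f.1), wt (ρ := ρ) R f'
      have h1 : q v - v ∈ S := hmono _ _ (hqv v hv)
      have hyS : S ≤ S.comap (ρ y) := iSup₂_le fun f' hf' x hx => by
        by_cases hx0 : x = 0
        · rw [Submodule.mem_comap, hx0, map_zero]; exact zero_mem S
        have hfix' : tw y f' = f' := hdeep y hy ⟨f', hwts f' x hx0 hx⟩
        have h3 := hU y hyT f' x hx
        rw [hfix'] at h3
        exact Submodule.mem_iSup_of_mem f' (Submodule.mem_iSup_of_mem hf' h3)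
      have h2 : ρ y (q v) - q v = 0 := by
        have := LinearMap.congr_fun (hzero _ (mem_chainProd_succ hy hq)) v
        simpa [Module.End.mul_apply, LinearMap.sub_apply] using this
      have e : ρ y v - v = (ρ y (q v) - q v) - (ρ y (q v - v) - (q v - v)) := by rw [map_sub]; abel
      rw [e, h2, zero_sub]
      exact neg_mem (sub_mem (hyS h1) h1)
    exact hy1 (hlayer y hyT (secTriv_of_rho (hwt₁ f) (fun a w hw => rho_wt_orth ⟨_, ((D.mem_lift).1 a.2).1⟩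
      ((D.mem_lift).1 a.2).2 hw) hyT (hA₁inv y hyT) hfix) (hdeep y hy))
  exact Or.inr ⟨rfl, fun e he z hz =>
    have hc : ⁅e, z⁆ ∈ D.T := mul_mem (mul_mem (mul_mem he hz) (inv_mem he)) (inv_mem hz)
    (h e he z hz).imp (fun h1 => hlayer _ hc h1 (hall _ hc))
      (fun h1 => hlayer _ (mul_mem hc (inv_mem (pow_mem he 2))) h1 (hall _ (mul_mem hc (inv_mem (pow_mem he 2)))))⟩

end SymData

end Cfsg.Lib.TwoLength
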