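import Cfsg.Agent.TwoLength.DerivedLength.Heisenberg

/-!
An invariant simple subspace, and the data induced on a subspace by a section of the form group.
-/

set_option linter.style.haveILetI false
set_option linter.unusedSectionVars false

namespace Cfsg.Lib.TwoLength

open Module Subgroup Cfsg.Lib.HallHigman

universe u v w z

variable {K : Type u} [Field K] {U : Type v} [AddCommGroup U] [Module K U] {G : Type w} [Group G] [Finite G]

theorem chainProd_restrict (ρ : G →* Module.End K U) (W : Submodule K U) (G₁ : Subgroup G)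
    (h : ∀ g : G₁, ∀ w ∈ W, ρ (g : G) w ∈ W) {P : Subgroup G} (hP : P ≤ G₁) :
    ∀ (m : ℕ), ∀ p₁ ∈ chainProd (restrictRep (ρ.comp G₁.subtype) W h) (P.subgroupOf G₁) m,
      ∃ p ∈ chainProd ρ P m, ∀ w : W, ((p₁ w : W) : U) = p (w : U) := by
  intro m
  induction m with
  | zero => exact fun p₁ hp => ⟨1, rfl, fun w => by rw [show p₁ = 1 from hp]; rfl⟩
  | succ m ih =>
    rintro _ ⟨s, hs, p₁, hp₁, rfl⟩
    obtain ⟨p, hp, he⟩ := ih p₁ hp₁
    have hs' : (s : G) ∈ derSub P m := by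
      have h1 : G₁.subtype s ∈ (derSub (P.subgroupOf G₁) m).map G₁.subtype := mem_map_of_mem _ hs
      rwa [map_derSub, subgroupOf_map_subtype, inf_eq_left.2 hP] at h1
    refine ⟨_, mem_chainProd_succ hs' hp, fun w => ?_⟩
    rw [Module.End.mul_apply, Module.End.mul_apply, LinearMap.sub_apply, LinearMap.sub_apply, Module.End.one_apply,
      Module.End.one_apply, Submodule.coe_sub, ← he]
    rfl

namespace SymData

variable {ρ : G →* Module.End K U} {A : Type z} [CommGroup A] [Finite A] {D : SymData ρ A}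
  [CharP K 2] [Nontrivial U]

theorem alg_ext {W : Submodule K U} (hW : D.IsSimple W) {X Y : Module.End K U} (hX : X ∈ D.alg) (hY : Y ∈ D.alg)
    (h : ∀ w ∈ W, X w = Y w) : X = Y :=
  sub_eq_zero.1 (alg_eq_zero hW.inv hW.ne_bot (sub_mem hX hY) fun w hw => by rw [LinearMap.sub_apply, h w hw, sub_self])

theorem IsSimple.map {W : Submodule K U} (hW : D.IsSimple W) {s : G} (hs : s ∈ D.T) :
    D.IsSimple (W.map (ρ s)) := by
  have hback : ∀ u : U, ρ s⁻¹ (ρ s u) = u := fun u => by rw [← Module.End.mul_apply, rho_inv_mul]; rfl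
  have hback' : ∀ u : U, ρ s (ρ s⁻¹ u) = u := fun u => by rw [← Module.End.mul_apply, rho_mul_inv]; rfl
  refine ⟨fun h => ?_, ?_, fun f => ?_⟩
  · obtain ⟨w, hw, hw0⟩ := Submodule.exists_mem_ne_zero_of_ne_bot hW.ne_bot
    have h1 : ρ s w ∈ W.map (ρ s) := Submodule.mem_map_of_mem hw
    rw [h, Submodule.mem_bot] at h1
    exact hw0 (by rw [← hback w, h1, map_zero])
  · rintro a _ ⟨w, hw, rfl⟩
    have ha : s⁻¹ * a * s ∈ D.Q := by simpa using D.conj_mem (inv_mem hs) a.2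
    refine ⟨_, hW.inv ⟨_, ha⟩ w hw, ?_⟩
    rw [← Module.End.mul_apply, ← Module.End.mul_apply, ← map_mul, ← map_mul]
    congr 2
    show s * (s⁻¹ * a * s) = a * s
    group
  · have hmem : ∀ w : W.map (ρ s), ρ s⁻¹ (w : U) ∈ W := by
      rintro ⟨_, w, hw, rfl⟩; show ρ s⁻¹ (ρ s w) ∈ W; rwa [hback]
    let f' : W →ₗ[K] W :=
      { toFun := fun w => ⟨ρ s⁻¹ (f ⟨ρ s (w : U), Submodule.mem_map_of_mem w.2⟩ : U), hmem _⟩
        map_add' := fun a b => Subtype.ext (by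
          show ρ s⁻¹ _ = ρ s⁻¹ _ + ρ s⁻¹ _
          rw [← map_add, ← Submodule.coe_add, ← map_add f]
          congr 3
          exact Subtype.ext (by simp))
        map_smul' := fun r a => Subtype.ext (by
          show ρ s⁻¹ _ = r • ρ s⁻¹ _
          rw [← map_smul, ← Submodule.coe_smul, ← map_smul f]
          congr 3
          exact Subtype.ext (by simp)) }
    obtain ⟨X, hX, hXe⟩ := hW.full f'
    refine ⟨ρ s * X * ρ s⁻¹, D.alg_conj hs hX, fun w => ?_⟩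
    rw [Module.End.mul_apply, Module.End.mul_apply, show ρ s⁻¹ (w : U) = ((⟨_, hmem w⟩ : W) : U) from rfl, hXe]
    show ρ s (ρ s⁻¹ _) = _
    rw [hback']
    exact congrArg (fun z => (f z : U)) (Subtype.ext (hback' _))

/-- Two simple subspaces: the equivariant maps between them are the multiples of one. -/
theorem exists_intertwiner {W₀ W₁ : Submodule K U} (h₀ : D.IsSimple W₀) (h₁ : D.IsSimple W₁) :
    ∃ φ : W₀ →ₗ[K] W₁, Function.Injective φ ∧
      (∀ X ∈ D.alg, ∀ w : W₀, ∀ hw : X (w : U) ∈ W₀, (φ ⟨X w, hw⟩ : U) = X (φ w : U)) ∧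
      ∀ ψ : W₀ →ₗ[K] W₁, (∀ X ∈ D.alg, ∀ w : W₀, ∀ hw : X (w : U) ∈ W₀, (ψ ⟨X w, hw⟩ : U) = X (ψ w : U)) →
        ∃ κ : K, ψ = κ • φ := by
  classical
  obtain ⟨w₀, hw₀, hw₀0⟩ := Submodule.exists_mem_ne_zero_of_ne_bot h₀.ne_bot
  obtain ⟨lam, hlam⟩ := exists_functional_one (K := K) (v := (⟨w₀, hw₀⟩ : W₀)) fun e => hw₀0 (congrArg Subtype.val e)
  choose op hop hopw using fun w : W₀ => h₀.full (lam.smulRight w)
  have hopw₀ : ∀ w : W₀, op w w₀ = (w : U) := fun w => by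
    rw [show op w w₀ = op w ((⟨w₀, hw₀⟩ : W₀) : U) from rfl, hopw, LinearMap.smulRight_apply, hlam, one_smul]
  set X₀ := op ⟨w₀, hw₀⟩ with hX₀
  have hX₀X₀ : X₀ * X₀ = X₀ := alg_ext h₀ (D.alg_mul (hop _) (hop _)) (hop _) fun w hw => by
    rw [Module.End.mul_apply, show X₀ w = X₀ ((⟨w, hw⟩ : W₀) : U) from rfl, hopw, LinearMap.smulRight_apply,
      Submodule.coe_smul, map_smul, hopw₀]
  obtain ⟨x, hx, hx0⟩ : ∃ x ∈ W₁, X₀ x ≠ 0 := by
    by_contra hh
    push Not at hh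
    have h := hopw₀ ⟨w₀, hw₀⟩
    rw [alg_eq_zero h₁.inv h₁.ne_bot (hop _) hh, LinearMap.zero_apply] at h
    exact hw₀0 h.symm
  set w₁ := X₀ x with hw₁
  have hw₁mem : w₁ ∈ W₁ := alg_inv h₁.inv (hop _) x hx
  have huniq : ∀ X ∈ D.alg, X w₀ = 0 → X w₁ = 0 := by
    intro X hX h
    have : X * X₀ = 0 := alg_eq_zero h₀.inv h₀.ne_bot (D.alg_mul hX (hop _)) fun w hw => by
      rw [Module.End.mul_apply, show X₀ w = X₀ ((⟨w, hw⟩ : W₀) : U) from rfl, hopw, LinearMap.smulRight_apply,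
        Submodule.coe_smul, map_smul, h, smul_zero]
    rw [hw₁, ← Module.End.mul_apply, this, LinearMap.zero_apply]
  have hkey : ∀ X ∈ D.alg, ∀ w : W₀, X w₀ = (w : U) → X w₁ = op w w₁ := fun X hX w h =>
    sub_eq_zero.1 (by
      rw [← LinearMap.sub_apply]
      exact huniq _ (sub_mem hX (hop w)) (by rw [LinearMap.sub_apply, h, hopw₀, sub_self]))
  let φ : W₀ →ₗ[K] W₁ :=
    { toFun := fun w => ⟨op w w₁, alg_inv h₁.inv (hop w) _ hw₁mem⟩
      map_add' := fun a b => Subtype.ext (by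
        show op (a + b) w₁ = op a w₁ + op b w₁
        rw [← LinearMap.add_apply, hkey (op a + op b) (add_mem (hop a) (hop b)) (a + b)
          (by rw [LinearMap.add_apply, hopw₀, hopw₀]; rfl)])
      map_smul' := fun r a => Subtype.ext (by
        show op (r • a) w₁ = r • op a w₁
        rw [← LinearMap.smul_apply, hkey (r • op a) (Submodule.smul_mem _ _ (hop a)) (r • a)
          (by rw [LinearMap.smul_apply, hopw₀]; rfl)]) }
  have hφ : ∀ X ∈ D.alg, ∀ w : W₀, ∀ hw : X (w : U) ∈ W₀, (φ ⟨X w, hw⟩ : U) = X (φ w : U) := by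
    intro X hX w hw
    show op ⟨X w, hw⟩ w₁ = (X * op w) w₁
    exact (hkey (X * op w) (D.alg_mul hX (hop w)) ⟨X w, hw⟩ (by rw [Module.End.mul_apply, hopw₀])).symm
  have hφw₀ : (φ ⟨w₀, hw₀⟩ : U) = w₁ := by
    show X₀ w₁ = w₁
    rw [hw₁, ← Module.End.mul_apply, hX₀X₀]
  refine ⟨φ, ?_, hφ, fun ψ hψ => ?_⟩
  · rw [injective_iff_map_eq_zero]
    intro w hw
    by_contra h0
    obtain ⟨mu, hmu⟩ := exists_functional_one (K := K) (v := w) h0
    obtain ⟨X, hX, hXw⟩ := h₀.full (mu.smulRight ⟨w₀, hw₀⟩)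
    have hXw' : X (w : U) = w₀ := by rw [hXw, LinearMap.smulRight_apply, hmu, one_smul]
    have h1 := hφ X hX w (by rw [hXw']; exact hw₀)
    rw [hw, Submodule.coe_zero, map_zero] at h1
    refine hx0 ?_
    rw [← hφw₀, ← h1]
    exact congrArg (fun u => (φ u : U)) (Subtype.ext hXw'.symm)
  · -- the image of the distinguished vector lies on one line
    obtain ⟨mu, hmu⟩ := exists_functional_one (K := K) (v := (⟨w₁, hw₁mem⟩ : W₁)) fun e => hx0 (congrArg Subtype.val e)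
    have hline : ∀ y ∈ W₁, ∃ r : K, X₀ y = r • w₁ := by
      intro y hy
      obtain ⟨X, hX, hXw⟩ := h₁.full (mu.smulRight ⟨y, hy⟩)
      have hXy : X w₁ = y := by
        rw [show X w₁ = X ((⟨w₁, hw₁mem⟩ : W₁) : U) from rfl, hXw, LinearMap.smulRight_apply, hmu, one_smul]
      obtain ⟨r, hr⟩ : ∃ r : K, X₀ * X * X₀ = r • X₀ := by
        refine ⟨lam ⟨X w₀, alg_inv h₀.inv hX _ hw₀⟩, alg_ext h₀ (D.alg_mul (D.alg_mul (hop _) hX) (hop _))
          (Submodule.smul_mem _ _ (hop _)) fun w hw => ?_⟩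
        have e1 : X₀ w = lam ⟨w, hw⟩ • w₀ := hopw ⟨w₀, hw₀⟩ ⟨w, hw⟩
        have e2 : X₀ (X w₀) = lam ⟨X w₀, alg_inv h₀.inv hX _ hw₀⟩ • w₀ :=
          hopw ⟨w₀, hw₀⟩ ⟨X w₀, alg_inv h₀.inv hX _ hw₀⟩
        rw [Module.End.mul_apply, Module.End.mul_apply, LinearMap.smul_apply, e1, map_smul, map_smul, e2, smul_comm]
      refine ⟨r, ?_⟩
      have h := LinearMap.congr_fun hr x
      rw [Module.End.mul_apply, Module.End.mul_apply, LinearMap.smul_apply, ← hw₁, hXy] at h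
      exact h
    obtain ⟨r, hr⟩ := hline (ψ ⟨w₀, hw₀⟩ : U) (ψ ⟨w₀, hw₀⟩).2
    refine ⟨r, LinearMap.ext fun w => Subtype.ext ?_⟩
    have h1 := hψ X₀ (hop _) ⟨w₀, hw₀⟩ (by rw [hopw₀]; exact hw₀)
    rw [show (⟨X₀ ((⟨w₀, hw₀⟩ : W₀) : U), (by rw [hopw₀]; exact hw₀)⟩ : W₀) = ⟨w₀, hw₀⟩ from Subtype.ext (hopw₀ _),
      hr] at h1
    have h2 := hψ (op w) (hop w) ⟨w₀, hw₀⟩ (by rw [hopw₀]; exact w.2)
    rw [show (⟨op w ((⟨w₀, hw₀⟩ : W₀) : U), (by rw [hopw₀]; exact w.2)⟩ : W₀) = w from Subtype.ext (hopw₀ w),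
      h1, map_smul] at h2
    rw [h2]
    rfl

/-- A normalizing `2`-group leaves some simple subspace invariant. -/
theorem exists_invariant_simple [IsAlgClosed K] [FiniteDimensional K U] :
    ∀ (n : ℕ) (P : Subgroup G), Nat.card P = n → P ≤ D.T → ∀ W₀ : Submodule K U, W₀ ≠ ⊥ →
      (∀ a : D.Q, ∀ w ∈ W₀, ρ (a : G) w ∈ W₀) → (∀ p ∈ P, ∀ w ∈ W₀, ρ p w ∈ W₀) →
      ∃ W ≤ W₀, D.IsSimple W ∧ ∀ p ∈ P, ∀ w ∈ W, ρ p w ∈ W := by
  classical
  intro n
  induction n using Nat.strong_induction_on with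
  | _ n ih =>
  intro P hn hPT W₀ h0 hQ hP
  haveI : Fact (Nat.Prime 2) := ⟨Nat.prime_two⟩
  have hPp : IsPGroup 2 P := D.two.to_le hPT
  by_cases hP1 : P = ⊥
  · obtain ⟨W, hle, hW, -⟩ := exists_simple hQ h0
    exact ⟨W, hle, hW, fun p hp w hw => by rw [hP1, mem_bot] at hp; rw [hp, map_one]; exact hw⟩
  obtain ⟨j, hj⟩ := IsPGroup.iff_card.1 hPp
  obtain ⟨i, rfl⟩ : ∃ i, j = i + 1 := by
    rcases j with _ | i
    · exact absurd (eq_bot_of_card_eq P (by rw [hj, pow_zero])) hP1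
    · exact ⟨i, rfl⟩
  obtain ⟨N₀, hN₀⟩ := Sylow.exists_subgroup_card_pow_prime 2 (G := P) (n := i) (hj ▸ Dvd.intro _ (pow_succ 2 i).symm)
  have hidx : N₀.index = 2 := by
    have h := N₀.card_mul_index
    rw [hN₀, hj, pow_succ] at h
    exact Nat.eq_of_mul_eq_mul_left (Nat.two_pow_pos i) h
  set N := N₀.map P.subtype with hN
  have hNcard : Nat.card N < n := by
    rw [hN, card_subtype, hN₀, ← hn, hj, pow_succ]
    have := Nat.two_pow_pos i
    omega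
  have hNP : N ≤ P := map_subtype_le _
  obtain ⟨W, hWle, hW, hWN⟩ := ih _ hNcard N rfl (hNP.trans hPT) W₀ h0 hQ fun p hp => hP p (hNP hp)
  obtain ⟨s₀, hs₀⟩ : ∃ s : P, s ∉ N₀ := by
    by_contra hh
    push Not at hh
    rw [show N₀ = ⊤ from eq_top_iff.2 fun x _ => hh x, index_top] at hidx
    exact absurd hidx (by norm_num)
  haveI : N₀.Normal := normal_of_index_eq_two hidx
  set s : G := (s₀ : G) with hs
  have hsP : s ∈ P := s₀.2
  have hsT : s ∈ D.T := hPT hsP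
  have hs2 : s * s ∈ N := ⟨s₀ * s₀, mul_self_mem_of_index_two hidx s₀, rfl⟩
  have hcase : ∀ p ∈ P, p ∈ N ∨ ∃ m ∈ N, p = s * m := by
    intro p hp
    by_cases h : (⟨p, hp⟩ : P) ∈ N₀
    · exact Or.inl ⟨_, h, rfl⟩
    · refine Or.inr ⟨s⁻¹ * p, ⟨s₀⁻¹ * ⟨p, hp⟩, ?_, rfl⟩, by group⟩
      exact (mul_mem_iff_of_index_two hidx).2 (iff_of_false (mt inv_mem_iff.1 hs₀) h)
  have hNs : ∀ m ∈ N, s * m * s⁻¹ ∈ N := by
    rintro _ ⟨m, hm, rfl⟩
    exact ⟨s₀ * m * s₀⁻¹, (inferInstance : N₀.Normal).conj_mem m hm s₀, rfl⟩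
  have hback : ∀ (g : G) (u : U), ρ g⁻¹ (ρ g u) = u := fun g u => by rw [← Module.End.mul_apply, rho_inv_mul]; rfl
  have hback' : ∀ (g : G) (u : U), ρ g (ρ g⁻¹ u) = u := fun g u => by rw [← Module.End.mul_apply, rho_mul_inv]; rfl
  set W₁ := W.map (ρ s) with hW₁
  have hW₁s : D.IsSimple W₁ := hW.map hsT
  by_cases heq : W₁ ≤ W
  · refine ⟨W, hWle, hW, fun p hp w hw => ?_⟩
    rcases hcase p hp with h | ⟨m, hm, rfl⟩
    · exact hWN p h w hw
    · rw [map_mul, Module.End.mul_apply]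
      exact heq (Submodule.mem_map_of_mem (hWN m hm w hw))
  have hW₁le : W₁ ≤ W₀ := by rintro _ ⟨w, hw, rfl⟩; exact hP s hsP w (hWle hw)
  have hdisj : ∀ u ∈ W, u ∈ W₁ → u = 0 := by
    intro u hu hu'
    by_contra h
    refine heq ?_
    have hne : W ⊓ W₁ ≠ ⊥ := fun e => h ((Submodule.mem_bot K).1 (e ▸ ⟨hu, hu'⟩))
    have hinv : ∀ a : D.Q, ∀ w ∈ W ⊓ W₁, ρ (a : G) w ∈ W ⊓ W₁ := fun a w hw => ⟨hW.inv a w hw.1, hW₁s.inv a w hw.2⟩
    rw [← hW₁s.eq_of_le hne hinv inf_le_right]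
    exact inf_le_left
  obtain ⟨φ, hφi, hφ, huniq⟩ := exists_intertwiner hW hW₁s
  have hNW₁ : ∀ m ∈ N, ∀ u ∈ W₁, ρ m u ∈ W₁ := by
    rintro m hm _ ⟨w, hw, rfl⟩
    have hm' : s⁻¹ * m * s ∈ N := by
      have := hNs _ (mul_mem (mul_mem (inv_mem hs2) hm) hs2)
      simpa [mul_assoc] using this
    refine ⟨_, hWN _ hm' w hw, ?_⟩
    rw [← Module.End.mul_apply, ← Module.End.mul_apply, ← map_mul, ← map_mul]
    congr 2
    group
  have hconj : ∀ g ∈ D.T, ∀ X ∈ D.alg, ∀ u : U, X (ρ g u) = ρ g ((ρ g⁻¹ * X * ρ g) u) := fun g _ X _ u => by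
    rw [Module.End.mul_apply, Module.End.mul_apply, hback']
  have hconjmem : ∀ g ∈ D.T, ∀ X ∈ D.alg, ρ g⁻¹ * X * ρ g ∈ D.alg := fun g hg X hX => by
    have := D.alg_conj (inv_mem hg) hX
    rwa [inv_inv] at this
  -- the group of index two commutes with the map
  have hφN : ∀ m, ∀ hm : m ∈ N, ∀ w : W, (φ ⟨ρ m (w : U), hWN m hm w w.2⟩ : U) = ρ m (φ w : U) := by
    have hk : ∀ m : N, ∃ κ : K, ∀ w : W,
        ρ (m : G) (φ ⟨ρ (m : G)⁻¹ (w : U), hWN _ (inv_mem m.2) w w.2⟩ : U) = κ • (φ w : U) := by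
      intro m
      let ψ : W →ₗ[K] W₁ :=
        { toFun := fun w => ⟨ρ (m : G) (φ ⟨ρ (m : G)⁻¹ (w : U), hWN _ (inv_mem m.2) w w.2⟩ : U), hNW₁ _ m.2 _ (φ _).2⟩
          map_add' := fun a b => Subtype.ext (by
            show ρ (m : G) _ = ρ (m : G) _ + ρ (m : G) _
            rw [← map_add, ← Submodule.coe_add, ← map_add φ]
            congr 3
            exact Subtype.ext (by simp))
          map_smul' := fun r a => Subtype.ext (by
            show ρ (m : G) _ = r • ρ (m : G) _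
            rw [← map_smul, ← Submodule.coe_smul, ← map_smul φ]
            congr 3
            exact Subtype.ext (by simp)) }
      obtain ⟨κ, hκ⟩ := huniq ψ fun X hX w hw => by
        have hmT : (m : G) ∈ D.T := hPT (hNP m.2)
        show ρ (m : G) (φ _ : U) = X (ρ (m : G) (φ _ : U))
        rw [hconj _ hmT X hX, ← hφ _ (hconjmem _ hmT X hX) _ (alg_inv hW.inv (hconjmem _ hmT X hX) _ (hWN _ (inv_mem m.2) w w.2))]
        congr 3
        refine Subtype.ext ?_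
        show ρ (m : G)⁻¹ (X (w : U)) = ρ (m : G)⁻¹ (X (ρ (m : G) (ρ (m : G)⁻¹ (w : U))))
        rw [hback']
      exact ⟨κ, fun w => congrArg Subtype.val (LinearMap.congr_fun hκ w)⟩
    choose κ hκ using hk
    obtain ⟨w₀, hw₀⟩ : ∃ w : W, (φ w : U) ≠ 0 := by
      obtain ⟨w, hw, hw0⟩ := Submodule.exists_mem_ne_zero_of_ne_bot hW.ne_bot
      exact ⟨⟨w, hw⟩, fun h => hw0 (congrArg Subtype.val (hφi ((Subtype.ext h).trans (map_zero φ).symm)))⟩
    have hκ' : ∀ (m : N) (y z : W), (y : U) = ρ (m : G)⁻¹ (z : U) → ρ (m : G) (φ y : U) = κ m • (φ z : U) :=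
      fun m y z h => by rw [← hκ m z]; congr 3; exact Subtype.ext h
    have hκmul : ∀ a b : N, κ (a * b) = κ a * κ b := fun a b => smul_left_injective K hw₀ (by
      show κ (a * b) • (φ w₀ : U) = (κ a * κ b) • (φ w₀ : U)
      let ya : W := ⟨ρ (a : G)⁻¹ (w₀ : U), hWN _ (inv_mem a.2) _ w₀.2⟩
      let yb : W := ⟨ρ (b : G)⁻¹ (ya : U), hWN _ (inv_mem b.2) _ ya.2⟩
      have e1 := hκ' b yb ya rfl
      have e2 := hκ' a ya w₀ rfl
      have e3 := hκ' (a * b) yb w₀ (by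
        show ρ (b : G)⁻¹ (ρ (a : G)⁻¹ (w₀ : U)) = _
        rw [Subgroup.coe_mul, mul_inv_rev, map_mul]; rfl)
      rw [← e3, Subgroup.coe_mul, map_mul, Module.End.mul_apply, e1, map_smul, e2, smul_smul, mul_comm])
    have hκone : κ 1 = 1 := smul_left_injective K hw₀ (by
      show κ 1 • (φ w₀ : U) = (1 : K) • (φ w₀ : U)
      rw [← hκ' 1 w₀ w₀ (by simp)]
      simp)
    intro m hm w
    have h1 := hκ ⟨m, hm⟩ ⟨ρ m (w : U), hWN m hm w w.2⟩
    have hκ1 : κ ⟨m, hm⟩ = 1 := congrArg Units.val (units_hom_eq_one ((hPp.to_le hNP))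
      (MonoidHom.toHomUnits ⟨⟨κ, hκone⟩, hκmul⟩) (⟨m, hm⟩ : N))
    rw [hκ1, one_smul, show (⟨ρ m⁻¹ (ρ m (w : U)), (by rw [hback]; exact w.2)⟩ : W) = w from Subtype.ext (hback m w)] at h1
    exact h1.symm
  -- the square
  let e := LinearEquiv.ofBijective φ ⟨hφi, by
    have hinv : ∀ a : D.Q, ∀ u ∈ (LinearMap.range φ).map W₁.subtype, ρ (a : G) u ∈ (LinearMap.range φ).map W₁.subtype := by
      rintro a _ ⟨_, ⟨w, rfl⟩, rfl⟩
      exact ⟨_, ⟨⟨_, hW.inv a w w.2⟩, rfl⟩, hφ (ρ (a : G)) (D.rho_mem_alg a.2) w (hW.inv a w w.2)⟩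
    have hne : (LinearMap.range φ).map W₁.subtype ≠ ⊥ := by
      obtain ⟨w, hw, hw0⟩ := Submodule.exists_mem_ne_zero_of_ne_bot hW.ne_bot
      intro h
      have h1 : (φ ⟨w, hw⟩ : U) ∈ (LinearMap.range φ).map W₁.subtype := ⟨_, ⟨_, rfl⟩, rfl⟩
      rw [h, Submodule.mem_bot] at h1
      exact hw0 (congrArg Subtype.val (hφi ((Subtype.ext h1).trans (map_zero φ).symm)))
    intro y
    have := (hW₁s.eq_of_le hne hinv (Submodule.map_subtype_le _ _)).ge y.2
    obtain ⟨z, hz, hz'⟩ := this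
    obtain ⟨w, rfl⟩ := hz
    exact ⟨w, Subtype.ext hz'⟩⟩
  have hsW : ∀ w ∈ W, ρ s⁻¹ w ∈ W₁ := fun w hw => by
    refine ⟨ρ (s * s)⁻¹ w, hWN _ (inv_mem hs2) w hw, ?_⟩
    rw [← Module.End.mul_apply, ← map_mul]
    congr 2
    group
  have hsW₁ : ∀ u ∈ W₁, ρ s u ∈ W := by
    rintro _ ⟨w, hw, rfl⟩
    rw [← Module.End.mul_apply, ← map_mul]
    exact hWN _ hs2 w hw
  let ψ : W →ₗ[K] W₁ :=
    { toFun := fun w => ⟨ρ s (e.symm ⟨ρ s⁻¹ (w : U), hsW w w.2⟩ : U), Submodule.mem_map_of_mem (e.symm _).2⟩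
      map_add' := fun a b => Subtype.ext (by
        show ρ s _ = ρ s _ + ρ s _
        rw [← map_add, ← Submodule.coe_add, ← map_add e.symm]
        congr 3
        exact Subtype.ext (by simp))
      map_smul' := fun r a => Subtype.ext (by
        show ρ s _ = r • ρ s _
        rw [← map_smul, ← Submodule.coe_smul, ← map_smul e.symm]
        congr 3
        exact Subtype.ext (by simp)) }
  have hes : ∀ X ∈ D.alg, ∀ y : W₁, ∀ hy : X (y : U) ∈ W₁, (e.symm ⟨X y, hy⟩ : U) = X (e.symm y : U) := by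
    intro X hX y hy
    have h := hφ X hX (e.symm y) (alg_inv hW.inv hX _ (e.symm y).2)
    have h1 : φ ⟨X (e.symm y : U), alg_inv hW.inv hX _ (e.symm y).2⟩ = ⟨X y, hy⟩ := Subtype.ext (by
      rw [h]; exact congrArg (fun u : W₁ => X (u : U)) (e.apply_symm_apply y))
    rw [← h1]
    exact congrArg Subtype.val (e.symm_apply_apply _)
  obtain ⟨κ, hκ⟩ := huniq ψ fun X hX w hw => by
    show ρ s (e.symm _ : U) = X (ρ s (e.symm _ : U))
    rw [hconj _ hsT X hX, ← hes _ (hconjmem _ hsT X hX) _ (alg_inv hW₁s.inv (hconjmem _ hsT X hX) _ (hsW w w.2))]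
    congr 3
    refine Subtype.ext ?_
    show ρ s⁻¹ (X (w : U)) = ρ s⁻¹ (X (ρ s (ρ s⁻¹ (w : U))))
    rw [hback']
  have hstep : ∀ w : W, ρ s (w : U) = κ • (φ ⟨ρ s (φ w : U), hsW₁ _ (φ w).2⟩ : U) := by
    intro w
    have h : ρ s (e.symm ⟨ρ s⁻¹ (ρ s (φ w : U)), hsW _ (hsW₁ _ (φ w).2)⟩ : U) =
        κ • (φ ⟨ρ s (φ w : U), hsW₁ _ (φ w).2⟩ : U) :=
      congrArg Subtype.val (LinearMap.congr_fun hκ ⟨ρ s (φ w : U), hsW₁ _ (φ w).2⟩)
    rwa [show (⟨ρ s⁻¹ (ρ s (φ w : U)), hsW _ (hsW₁ _ (φ w).2)⟩ : W₁) = φ w from Subtype.ext (hback s _),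
      show e.symm (φ w) = w from e.symm_apply_apply w] at h
  obtain ⟨c, hc⟩ := IsAlgClosed.exists_pow_nat_eq κ (n := 2) (by norm_num)
  let j' : W →ₗ[K] U := W.subtype + c • (W₁.subtype.comp φ)
  have hj'e : ∀ w : W, j' w = (w : U) + c • (φ w : U) := fun w => rfl
  have hj'i : ∀ w : W, j' w = 0 → w = 0 := fun w h => by
    have h1 : (w : U) ∈ W₁ := by
      have h2 : (w : U) = -(c • (φ w : U)) := eq_neg_of_add_eq_zero_left (by rw [← hj'e]; exact h)
      rw [h2]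
      exact neg_mem (Submodule.smul_mem _ _ (φ w).2)
    exact Subtype.ext (hdisj _ w.2 h1)
  have hj'X : ∀ X, ∀ hX : X ∈ D.alg, ∀ w : W, X (j' w) = j' ⟨X w, alg_inv hW.inv hX _ w.2⟩ := fun X hX w => by
    rw [hj'e, hj'e, map_add, map_smul, hφ X hX w]
  have hj'inj : Function.Injective j' := fun a b h => sub_eq_zero.1 (hj'i _ (by rw [map_sub, h, sub_self]))
  refine ⟨LinearMap.range j', ?_, ⟨?_, ?_, fun f => ?_⟩, ?_⟩
  · rintro _ ⟨w, rfl⟩
    exact add_mem (hWle w.2) (Submodule.smul_mem _ _ (hW₁le (φ w).2))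
  · intro h
    obtain ⟨w, hw, hw0⟩ := Submodule.exists_mem_ne_zero_of_ne_bot hW.ne_bot
    exact hw0 (congrArg Subtype.val (hj'i ⟨w, hw⟩ ((Submodule.eq_bot_iff _).1 h _ ⟨_, rfl⟩)))
  · rintro a _ ⟨w, rfl⟩
    exact ⟨_, (hj'X _ (D.rho_mem_alg a.2) w).symm⟩
  · let je := LinearEquiv.ofInjective j' hj'inj
    obtain ⟨X, hX, hXe⟩ := hW.full (je.symm.toLinearMap ∘ₗ f ∘ₗ je.toLinearMap)
    refine ⟨X, hX, fun y => ?_⟩
    obtain ⟨w, rfl⟩ := je.surjective y
    show X (j' w) = (f (je w) : U)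
    rw [hj'X X hX w]
    have : (⟨X w, alg_inv hW.inv hX _ w.2⟩ : W) = je.symm (f (je w)) := Subtype.ext (hXe w)
    rw [this]
    exact congrArg Subtype.val (je.apply_symm_apply _)
  · have hNj : ∀ m, ∀ hm : m ∈ N, ∀ w : W, ρ m (j' w) = j' ⟨ρ m w, hWN m hm _ w.2⟩ := fun m hm w => by
      rw [hj'e, hj'e, map_add, map_smul, hφN m hm w]
    intro p hp
    rintro _ ⟨w, rfl⟩
    rcases hcase p hp with h | ⟨m, hm, rfl⟩
    · exact ⟨_, (hNj p h w).symm⟩
    · rw [map_mul, Module.End.mul_apply, hNj m hm w]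
      set w' : W := ⟨ρ m w, hWN m hm _ w.2⟩
      refine ⟨c • ⟨ρ s (φ w' : U), hsW₁ _ (φ w').2⟩, ?_⟩
      rw [hj'e, hj'e, map_smul φ, map_add, map_smul, Submodule.coe_smul, Submodule.coe_smul, smul_smul, ← pow_two, hc,
        ← hstep w', add_comm]

section sub

variable (D) (A₁ : Subgroup A)

/-- The radical of the form on a subgroup. -/
abbrev secRad : Subgroup A₁ := (orthSub D.form A₁).subgroupOf A₁

/-- The section of the form group cut out by a subgroup. -/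
abbrev SecGroup := A₁ ⧸ D.secRad A₁

/-- The projection onto the section. -/
def secProj : (D.lift A₁) →* D.SecGroup A₁ :=
  (QuotientGroup.mk' _).comp
    { toFun := fun r => ⟨D.proj ⟨(r : G), ((D.mem_lift).1 r.2).1⟩, ((D.mem_lift).1 r.2).2⟩
      map_one' := Subtype.ext (map_one D.proj)
      map_mul' := fun a b => Subtype.ext (map_mul D.proj ⟨(a : G), ((D.mem_lift).1 a.2).1⟩ ⟨(b : G), ((D.mem_lift).1 b.2).1⟩) }

/-- The form on the section. -/
def secForm : D.SecGroup A₁ →* D.SecGroup A₁ →* Kˣ :=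
  QuotientGroup.lift _
    (MonoidHom.mk' (fun a : A₁ => QuotientGroup.lift _ ((D.form (a : A)).comp A₁.subtype) fun b hb =>
      show D.form (a : A) (b : A) = 1 by rw [swap_eq_inv D.good (b : A) (a : A), show D.form (b : A) (a : A) = 1 from hb a a.2, inv_one])
      fun a a' => MonoidHom.ext fun x => by
        obtain ⟨b, rfl⟩ := QuotientGroup.mk_surjective x
        show D.form ((a * a' : A₁) : A) (b : A) = _
        rw [Subgroup.coe_mul, map_mul]; rfl)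
    fun a ha => MonoidHom.ext fun x => by
      obtain ⟨b, rfl⟩ := QuotientGroup.mk_surjective x
      exact ha b b.2

theorem secForm_mk (a b : A₁) : D.secForm A₁ (QuotientGroup.mk a) (QuotientGroup.mk b) = D.form a b := rfl

theorem goodForm_sec : GoodForm (D.secForm A₁) where
  odd := (D.good.odd.of_dvd_nat (card_subgroup_dvd_card A₁)).of_dvd_nat (card_quotient_dvd_card _)
  alt := fun x => by obtain ⟨a, rfl⟩ := QuotientGroup.mk_surjective x; exact D.good.alt _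
  nondeg := fun x h => by
    obtain ⟨a, rfl⟩ := QuotientGroup.mk_surjective x
    exact (QuotientGroup.eq_one_iff a).2 fun b hb => h (QuotientGroup.mk ⟨b, hb⟩)

theorem map_mem_orth {P : Subgroup G} (hP : P ≤ D.T) (hA : ∀ p ∈ P, ∀ a ∈ A₁, D.act p a ∈ A₁) {p : G}
    (hp : p ∈ P) {a : A} (ha : a ∈ orthSub D.form A₁) : D.act p a ∈ orthSub D.form A₁ := by
  intro m hm
  have h : D.act p⁻¹ m ∈ A₁ := hA _ (inv_mem hp) m hm
  rw [D.act_inv (hP hp)] at h
  rw [← MulAut.apply_inv_self _ (D.act p) m, D.act_keeps (hP hp)]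
  exact ha _ h

/-- The action on the section. -/
noncomputable def secTau {P : Subgroup G} (hP : P ≤ D.T) (hA : ∀ p ∈ P, ∀ a ∈ A₁, D.act p a ∈ A₁) :
    P →* MulAut (D.SecGroup A₁) :=
  let f : P → A₁ →* A₁ := fun p =>
    { toFun := fun a => ⟨D.act p a, hA p p.2 a a.2⟩
      map_one' := Subtype.ext (map_one (D.act p))
      map_mul' := fun a b => Subtype.ext (map_mul (D.act p) _ _) }
  let g : P → D.SecGroup A₁ →* D.SecGroup A₁ := fun p => QuotientGroup.map _ _ (f p) fun _a ha =>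
    D.map_mem_orth A₁ hP hA p.2 ha
  have hmul : ∀ p p' : P, g (p * p') = (g p).comp (g p') := fun p p' => MonoidHom.ext fun x => by
    obtain ⟨a, rfl⟩ := QuotientGroup.mk_surjective x
    show (QuotientGroup.mk (f (p * p') a) : D.SecGroup A₁) = QuotientGroup.mk (f p (f p' a))
    congr 1
    exact Subtype.ext (by show D.act ((p : G) * p') a = D.act p (D.act p' a); rw [D.act_mul (hP p.2) (hP p'.2)]; rfl)
  have hone : g 1 = MonoidHom.id _ := MonoidHom.ext fun x => by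
    obtain ⟨a, rfl⟩ := QuotientGroup.mk_surjective x
    show (QuotientGroup.mk (f 1 a) : D.SecGroup A₁) = QuotientGroup.mk a
    congr 1
    exact Subtype.ext (by show D.act (1 : G) a = a; rw [D.act_one]; rfl)
  { toFun := fun p =>
      { toFun := g p
        invFun := g p⁻¹
        left_inv := fun x => by rw [← MonoidHom.comp_apply, ← hmul, inv_mul_cancel, hone]; rfl
        right_inv := fun x => by rw [← MonoidHom.comp_apply, ← hmul, mul_inv_cancel, hone]; rfl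
        map_mul' := map_mul (g p) }
    map_one' := MulEquiv.ext fun x => DFunLike.congr_fun hone x
    map_mul' := fun p p' => MulEquiv.ext fun x => DFunLike.congr_fun (hmul p p') x }

variable {W : Submodule K U} (G₁ : Subgroup G) (hG : ∀ g : G₁, ∀ w ∈ W, ρ (g : G) w ∈ W)
  (hQG : D.lift A₁ ≤ G₁) {P : Subgroup G} (hP : P ≤ D.T) (hPG : P ≤ G₁)
  (hA : ∀ p ∈ P, ∀ a ∈ A₁, D.act p a ∈ A₁)
  (hscal : ∀ a : D.lift A₁, D.secProj A₁ a = 1 → ∃ r : K, ∀ w ∈ W, ρ (a : G) w = r • w)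

include hG hQG hP hPG hA hscal in
/-- The data induced on a subspace. -/
noncomputable def sub : SymData (restrictRep (ρ.comp G₁.subtype) W hG) (D.SecGroup A₁) where
  Q := (D.lift A₁).subgroupOf G₁
  T := P.subgroupOf G₁
  odd_Q := by rw [Nat.card_congr (subgroupOfEquivOfLe hQG).toEquiv]; exact D.odd_lift A₁
  norm := fun p hp => mem_normalizer_of_conj_le fun a ha => by
    obtain ⟨ha1, ha2⟩ := (D.mem_lift).1 ha
    refine (D.mem_lift).2 ⟨D.conj_mem (hP hp) ha1, ?_⟩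
    show D.proj ⟨(p : G) * a * (p : G)⁻¹, _⟩ ∈ A₁
    exact (D.proj_conj (hP hp) ⟨_, ha1⟩).symm ▸ hA _ hp _ ha2
  two := (D.two.to_le hP).comap_of_injective _ G₁.subtype_injective
  proj := (D.secProj A₁).comp (subgroupOfEquivOfLe hQG).toMonoidHom
  surj := fun x => by
    obtain ⟨⟨a, ha⟩, rfl⟩ := QuotientGroup.mk_surjective x
    obtain ⟨b, rfl⟩ := D.surj a
    exact ⟨⟨⟨(b : G), hQG ((D.mem_lift).2 ⟨b.2, ha⟩)⟩, (D.mem_lift).2 ⟨b.2, ha⟩⟩, rfl⟩
  form := D.secForm A₁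
  good := D.goodForm_sec A₁
  comm := fun a b => LinearMap.ext fun w => Subtype.ext (LinearMap.congr_fun
    (D.comm ⟨_, ((D.mem_lift).1 a.2).1⟩ ⟨_, ((D.mem_lift).1 b.2).1⟩) (w : U))
  scal := fun a h => by
    obtain ⟨r, hr⟩ := hscal ((subgroupOfEquivOfLe hQG).toMonoidHom a) h
    exact ⟨r, LinearMap.ext fun w => Subtype.ext (hr _ w.2)⟩
  tau := (D.secTau A₁ hP hA).comp (subgroupOfEquivOfLe hPG).toMonoidHom
  tau_spec := fun t a h => by
    show (QuotientGroup.mk _ : D.SecGroup A₁) = QuotientGroup.mk _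
    congr 1
    exact Subtype.ext (D.proj_conj (hP t.2) ⟨_, ((D.mem_lift).1 a.2).1⟩)

theorem act_sub {p : G} (hp : p ∈ P) (a : A₁) :
    (D.sub A₁ G₁ hG hQG hP hPG hA hscal).act ⟨p, hPG hp⟩ (QuotientGroup.mk a) =
      QuotientGroup.mk (⟨D.act p a, hA p hp a a.2⟩ : A₁) := by
  rw [(D.sub A₁ G₁ hG hQG hP hPG hA hscal).act_of_mem (g := ⟨p, hPG hp⟩) hp]
  rfl

end sub

end SymData

end Cfsg.Lib.TwoLength
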