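import Cfsg.Agent.TwoLength.DerivedLength.Reduce
import Cfsg.Agent.TwoLength.DerivedLength.Primitive

/-!
Invariant orthogonal decompositions, their refinement, and what holds when none exists.
-/

set_option linter.style.haveILetI false
set_option linter.unusedSectionVars false

namespace Cfsg.Lib.TwoLength

open Module Subgroup Cfsg.Lib.HallHigman
open scoped commutatorElement

universe u v w z

variable {K : Type u} [Field K] [CharP K 2] {U : Type v} [AddCommGroup U] [Module K U] [Nontrivial U]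
  {G : Type w} [Group G] [Finite G]

/-- The fixed points of an automorphism. -/
def fixPts {A : Type z} [CommGroup A] (t : MulAut A) : Subgroup A where
  carrier := {a | t a = a}
  one_mem' := map_one t
  mul_mem' := fun {a b} (ha : t a = a) (hb : t b = b) => show t (a * b) = a * b by rw [map_mul, ha, hb]
  inv_mem' := fun {a} (ha : t a = a) => show t a⁻¹ = a⁻¹ by rw [map_inv, ha]

/-- The inverted points of an automorphism. -/
def invPts {A : Type z} [CommGroup A] (t : MulAut A) : Subgroup A where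
  carrier := {a | t a = a⁻¹}
  one_mem' := by simp
  mul_mem' := fun {a b} (ha : t a = a⁻¹) (hb : t b = b⁻¹) => show t (a * b) = (a * b)⁻¹ by
    rw [map_mul, ha, hb, mul_inv]
  inv_mem' := fun {a} (ha : t a = a⁻¹) => show t a⁻¹ = a⁻¹⁻¹ by rw [map_inv, ha]

namespace SymData

variable {ρ : G →* Module.End K U} {A : Type z} [CommGroup A] [Finite A] (D : SymData ρ A)

/-- The image of a subgroup of the form group. -/
noncomputable def mv (g : G) (B : Subgroup A) : Subgroup A := B.map (D.act g).toMonoidHom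

theorem mem_mv {g : G} {B : Subgroup A} {a : A} : a ∈ D.mv g B ↔ ∃ b ∈ B, D.act g b = a := Iff.rfl

theorem mv_one (B : Subgroup A) : D.mv 1 B = B := by
  ext a
  rw [mem_mv, D.act_one]
  exact ⟨by rintro ⟨b, hb, rfl⟩; exact hb, fun h => ⟨a, h, rfl⟩⟩

theorem mv_mul {g h : G} (hg : g ∈ D.T) (hh : h ∈ D.T) (B : Subgroup A) : D.mv (g * h) B = D.mv g (D.mv h B) := by
  ext a
  simp only [mem_mv, D.act_mul hg hh]
  exact ⟨by rintro ⟨b, hb, rfl⟩; exact ⟨_, ⟨b, hb, rfl⟩, rfl⟩, by rintro ⟨_, ⟨b, hb, rfl⟩, rfl⟩; exact ⟨b, hb, rfl⟩⟩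

theorem mv_inv_mv {g : G} (hg : g ∈ D.T) (B : Subgroup A) : D.mv g⁻¹ (D.mv g B) = B := by
  rw [← D.mv_mul (inv_mem hg) hg, inv_mul_cancel, D.mv_one]

theorem mv_injective {g : G} (hg : g ∈ D.T) : Function.Injective (D.mv g) :=
  Function.LeftInverse.injective (g := D.mv g⁻¹) fun B => D.mv_inv_mv hg B

theorem mv_le_orth {g : G} (hg : g ∈ D.T) {B C : Subgroup A} (h : B ≤ orthSub D.form C) :
    D.mv g B ≤ orthSub D.form (D.mv g C) := by
  rintro _ ⟨b, hb, rfl⟩ _ ⟨c, hc, rfl⟩
  show D.form (D.act g b) (D.act g c) = 1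
  rw [D.act_keeps hg]
  exact h hb c hc

theorem le_orth_symm {B C : Subgroup A} (h : B ≤ orthSub D.form C) : C ≤ orthSub D.form B :=
  fun c hc b hb => by rw [swap_eq_inv D.good, h hb c hc, inv_one]

theorem orth_le {B C : Subgroup A} (h : B ≤ C) : orthSub D.form C ≤ orthSub D.form B := fun _ ha b hb => ha b (h hb)

theorem eq_bot_of_orth_top {B : Subgroup A} (h : B ≤ orthSub D.form ⊤) : B = ⊥ :=
  (eq_bot_iff_forall _).2 fun b hb => D.good.nondeg b fun a => h hb a (mem_top a)

theorem nondeg_of_compl {B C : Subgroup A} (ho : B ≤ orthSub D.form C) (hs : B ⊔ C = ⊤) :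
    B ⊓ orthSub D.form B = ⊥ := by
  refine D.eq_bot_of_orth_top (D.le_orth_symm ?_)
  rw [← hs]
  exact sup_le (D.le_orth_symm inf_le_right) (D.le_orth_symm (inf_le_left.trans ho))

theorem sup_orth_eq_top {M : Subgroup A} (h : M ⊓ orthSub D.form M = ⊥) : M ⊔ orthSub D.form M = ⊤ := by
  refine eq_top_of_card_eq _ ?_
  have h1 := card_mul_index (orthSub D.form M)
  rw [index_orthSub D.good] at h1
  refine le_antisymm (card_le_card_group _) ?_
  rw [← h1, mul_comm, ← Nat.card_prod]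
  refine Nat.card_le_card_of_injective
    (fun p : M × orthSub D.form M => (⟨(p.1 : A) * p.2, mul_mem_sup p.1.2 p.2.2⟩ : (M ⊔ orthSub D.form M : Subgroup A))) ?_
  rintro ⟨a, b⟩ ⟨a', b'⟩ e
  have e' : (a : A) * b = a' * b' := congrArg Subtype.val e
  have h2 : (a' : A)⁻¹ * a = b' * (b : A)⁻¹ := by
    rw [eq_mul_inv_iff_mul_eq, mul_assoc, e', inv_mul_cancel_left]
  have hmem : (a' : A)⁻¹ * a ∈ M ⊓ orthSub D.form M :=
    Subgroup.mem_inf.2 ⟨mul_mem (inv_mem a'.2) a.2, by rw [h2]; exact mul_mem b'.2 (inv_mem b.2)⟩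
  rw [h, mem_bot] at hmem
  obtain rfl : a = a' := Subtype.ext (inv_mul_eq_one.1 hmem).symm
  exact Prod.ext rfl (Subtype.ext (mul_left_cancel e'))

include D in
theorem card_square [IsAlgClosed K] [FiniteDimensional K U] : ∃ n, Nat.card A = n ^ 2 := by
  obtain ⟨W, -, -, h⟩ := exists_simple (D := D) (W₀ := ⊤) (fun _ _ _ => trivial) top_ne_bot
  exact ⟨_, h⟩

theorem fix_le_orth_inv {g : G} (hg : g ∈ D.T) : fixPts (D.act g) ≤ orthSub D.form (invPts (D.act g)) :=
  fun r hr p hp => by rw [swap_eq_inv D.good, cross_eq_one D.good _ (D.act_keeps hg) hp hr, inv_one]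

theorem fix_sup_inv {g : G} (h2 : ∀ a, D.act g (D.act g a) = a) :
    fixPts (D.act g) ⊔ invPts (D.act g) = ⊤ :=
  eq_top_iff.2 fun a _ => by
    obtain ⟨p, r, rfl, hp, hr⟩ := exists_split D.good _ h2 a
    exact mul_mem (mem_sup_right hp) (mem_sup_left hr)

/-- No invariant subgroups. -/
def Irred : Prop := ∀ M : Subgroup A, (∀ g ∈ D.T, ∀ a ∈ M, D.act g a ∈ M) → M = ⊥ ∨ M = ⊤

/-- An invariant orthogonal decomposition. -/
structure IsSystem (S : Finset (Subgroup A)) : Prop where
  ne_bot : ∀ B ∈ S, B ≠ ⊥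
  orth : ∀ B ∈ S, ∀ C ∈ S, B ≠ C → B ≤ orthSub D.form C
  sup : S.sup id = ⊤
  inv : ∀ g ∈ D.T, ∀ B ∈ S, D.mv g B ∈ S

/-- No invariant orthogonal decomposition into two or more parts. -/
def NoSplit : Prop := ∀ S : Finset (Subgroup A), D.IsSystem S → S.card ≤ 1

variable {D}

theorem IsSystem.nondeg {S : Finset (Subgroup A)} (hS : D.IsSystem S) {B : Subgroup A} (hB : B ∈ S) :
    B ⊓ orthSub D.form B = ⊥ := by
  classical
  refine D.nondeg_of_compl (C := (S.erase B).sup id) ?_ ?_
  · refine D.le_orth_symm (Finset.sup_le fun C hC => ?_)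
    exact hS.orth C (Finset.mem_of_mem_erase hC) B hB (Finset.ne_of_mem_erase hC)
  · rw [eq_top_iff, ← hS.sup]
    refine Finset.sup_le fun C hC => ?_
    by_cases h : C = B
    · subst h; exact le_sup_left
    · exact le_trans (Finset.le_sup (f := id) (Finset.mem_erase.2 ⟨h, hC⟩)) le_sup_right

theorem IsSystem.inf_eq_bot {S : Finset (Subgroup A)} (hS : D.IsSystem S) {B C : Subgroup A} (hB : B ∈ S)
    (hC : C ∈ S) (h : B ≠ C) : B ⊓ C = ⊥ :=
  eq_bot_iff.2 fun _ ha => (hS.nondeg hC).le ⟨ha.2, hS.orth B hB C hC h ha.1⟩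

theorem IsSystem.transitive (hirr : D.Irred) {S : Finset (Subgroup A)} (hS : D.IsSystem S) {B C : Subgroup A}
    (hB : B ∈ S) (hC : C ∈ S) : ∃ g ∈ D.T, D.mv g B = C := by
  by_contra hh
  push Not at hh
  set M := ⨆ g : D.T, D.mv g B with hM
  have hinv : ∀ g ∈ D.T, ∀ a ∈ M, D.act g a ∈ M := by
    intro g hg
    suffices h : M ≤ M.comap (D.act g).toMonoidHom from fun a ha => h ha
    refine iSup_le fun t b hb => ?_
    refine mem_iSup_of_mem (⟨g * t, mul_mem hg t.2⟩ : D.T) ?_
    rw [D.mv_mul hg t.2]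
    exact ⟨b, hb, rfl⟩
  have hMB : B ≤ M := le_iSup_of_le 1 (by rw [OneMemClass.coe_one, D.mv_one])
  rcases hirr M hinv with h | h
  · exact hS.ne_bot B hB (le_bot_iff.1 (h ▸ hMB))
  · refine hS.ne_bot C hC (D.eq_bot_of_orth_top ?_)
    rw [← h]
    refine D.le_orth_symm (iSup_le fun t => hS.orth _ (hS.inv t t.2 B hB) C hC (hh t t.2))

/-- A decomposition of one part, invariant under its stabilizer, gives a larger system. -/
theorem exists_larger (hirr : D.Irred) {S : Finset (Subgroup A)} (hS : D.IsSystem S) {B : Subgroup A} (hB : B ∈ S)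
    (R : Finset (Subgroup A)) (hne : ∀ X ∈ R, X ≠ ⊥) (hle : ∀ X ∈ R, X ≤ B)
    (horth : ∀ X ∈ R, ∀ Y ∈ R, X ≠ Y → X ≤ orthSub D.form Y) (hsup : R.sup id = B)
    (hinv : ∀ g ∈ D.T, D.mv g B = B → ∀ X ∈ R, D.mv g X ∈ R) (hR : 2 ≤ R.card) :
    ∃ S' : Finset (Subgroup A), D.IsSystem S' ∧ S.card < S'.card := by
  classical
  haveI := Fintype.ofFinite D.T
  let S' : Finset (Subgroup A) := (Finset.univ ×ˢ R).image fun p : D.T × Subgroup A => D.mv p.1 p.2
  have hmem : ∀ Z, Z ∈ S' ↔ ∃ g ∈ D.T, ∃ X ∈ R, D.mv g X = Z := fun Z => by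
    simp only [S', Finset.mem_image, Finset.mem_product, Finset.mem_univ, true_and, Prod.exists, Subtype.exists]
    exact ⟨by rintro ⟨g, hg, X, hX, rfl⟩; exact ⟨g, hg, X, hX, rfl⟩,
      by rintro ⟨g, hg, X, hX, rfl⟩; exact ⟨g, hg, X, hX, rfl⟩⟩
  have hmono : ∀ g : G, ∀ X Y : Subgroup A, X ≤ Y → D.mv g X ≤ D.mv g Y := fun g X Y h => Subgroup.map_mono h
  have hS' : D.IsSystem S' := by
    refine ⟨fun Z hZ => ?_, fun Z hZ Z' hZ' hne' => ?_, ?_, fun g hg Z hZ => ?_⟩
    · obtain ⟨g, hg, X, hX, rfl⟩ := (hmem Z).1 hZ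
      intro h
      exact hne X hX (D.mv_injective hg (h.trans (by rw [mv, Subgroup.map_bot])))
    · obtain ⟨g, hg, X, hX, rfl⟩ := (hmem Z).1 hZ
      obtain ⟨g', hg', X', hX', rfl⟩ := (hmem Z').1 hZ'
      by_cases hblk : D.mv g B = D.mv g' B
      · have hs : D.mv (g⁻¹ * g') B = B := by rw [D.mv_mul (inv_mem hg) hg', ← hblk, D.mv_inv_mv hg]
        have hX'' := hinv _ (mul_mem (inv_mem hg) hg') hs X' hX'
        have e : D.mv g' X' = D.mv g (D.mv (g⁻¹ * g') X') := by
          rw [← D.mv_mul hg (mul_mem (inv_mem hg) hg'), mul_inv_cancel_left]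
        rw [e] at hne' ⊢
        exact D.mv_le_orth hg (horth X hX _ hX'' fun h => hne' (by rw [← h]))
      · exact ((hmono g X B (hle X hX)).trans (hS.orth _ (hS.inv g hg B hB) _ (hS.inv g' hg' B hB) hblk)).trans
          (D.orth_le (hmono g' X' B (hle X' hX')))
    · rw [eq_top_iff, ← hS.sup]
      refine Finset.sup_le fun C hC => ?_
      obtain ⟨g, hg, rfl⟩ := hS.transitive hirr hB hC
      have h1 : B ≤ (S'.sup id).comap (D.act g).toMonoidHom := hsup ▸ Finset.sup_le fun X hX =>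
        map_le_iff_le_comap.1 (Finset.le_sup (f := id) ((hmem (D.mv g X)).2 ⟨g, hg, X, hX, rfl⟩))
      exact map_le_iff_le_comap.2 h1
    · obtain ⟨g', hg', X, hX, rfl⟩ := (hmem Z).1 hZ
      exact (hmem _).2 ⟨g * g', mul_mem hg hg', X, hX, D.mv_mul hg hg' X⟩
  refine ⟨S', hS', ?_⟩
  obtain ⟨X₀, hX₀, X₁, hX₁, h01⟩ := Finset.one_lt_card.1 hR
  choose tr htr htrB using fun (C : Subgroup A) (hC : C ∈ S) => hS.transitive hirr hB hC
  let f : S → Subgroup A := fun C => D.mv (tr C.1 C.2) X₀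
  have huniq : ∀ (Z C C' : Subgroup A), Z ≠ ⊥ → C ∈ S → C' ∈ S → Z ≤ C → Z ≤ C' → C = C' := fun Z C C' h0 hC hC' h h' => by
    by_contra hne'
    exact h0 (le_bot_iff.1 (hS.inf_eq_bot hC hC' hne' ▸ le_inf h h'))
  have hfle : ∀ C : S, f C ≤ C.1 := fun C => (hmono _ X₀ B (hle X₀ hX₀)).trans (htrB C.1 C.2).le
  have hfS : ∀ C : S, f C ∈ S' := fun C => (hmem _).2 ⟨_, htr C.1 C.2, X₀, hX₀, rfl⟩
  set extra := D.mv (tr B hB) X₁ with hex
  have hexS : extra ∈ S' := (hmem _).2 ⟨_, htr B hB, X₁, hX₁, rfl⟩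
  have hnot : extra ∉ Finset.univ.image f := by
    intro h
    obtain ⟨C, -, hC⟩ := Finset.mem_image.1 h
    have e : (C : Subgroup A) = B := huniq extra C.1 B (hS'.ne_bot _ hexS) C.2 hB (hC ▸ hfle C)
      ((hmono _ X₁ B (hle X₁ hX₁)).trans (htrB B hB).le)
    obtain ⟨C, hCS⟩ := C
    subst e
    exact h01 (D.mv_injective (htr _ hB) hC)
  have hinj : Function.Injective f := fun C C' e => Subtype.ext
    (huniq (f C) C.1 C'.1 (hS'.ne_bot _ (hfS C)) C.2 C'.2 (hfle C) (e ▸ hfle C'))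
  calc S.card = (Finset.univ.image f).card := by
        rw [Finset.card_image_of_injective _ hinj, Finset.card_univ, Fintype.card_coe]
    _ < (insert extra (Finset.univ.image f)).card := by rw [Finset.card_insert_of_notMem hnot]; omega
    _ ≤ S'.card := Finset.card_le_card fun Z hZ => by
        rcases Finset.mem_insert.1 hZ with rfl | hZ
        · exact hexS
        · obtain ⟨C, -, rfl⟩ := Finset.mem_image.1 hZ; exact hfS C

/-- In the finest system every part is irreducible and unsplit under its stabilizer. -/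
theorem IsSystem.part_primitive (hirr : D.Irred) {S : Finset (Subgroup A)} (hS : D.IsSystem S)
    (hmax : ∀ S', D.IsSystem S' → S'.card ≤ S.card) {B : Subgroup A} (hB : B ∈ S) (P : Subgroup G) (hP : P ≤ D.T)
    (hPB : ∀ g ∈ D.T, g ∈ P ↔ D.mv g B = B) (hA : ∀ p ∈ P, ∀ a ∈ B, D.act p a ∈ B) :
    (D.block B (hS.nondeg hB) P hP hA).Irred ∧ (D.block B (hS.nondeg hB) P hP hA).NoSplit := by
  classical
  have hcontra : ∀ R : Finset (Subgroup A), (∀ X ∈ R, X ≠ ⊥) → (∀ X ∈ R, X ≤ B) →
      (∀ X ∈ R, ∀ Y ∈ R, X ≠ Y → X ≤ orthSub D.form Y) → R.sup id = B →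
      (∀ g ∈ D.T, D.mv g B = B → ∀ X ∈ R, D.mv g X ∈ R) → R.card ≤ 1 := by
    intro R h1 h2 h3 h4 h5
    by_contra h
    obtain ⟨S', hS', hlt⟩ := exists_larger hirr hS hB R h1 h2 h3 h4 h5 (by omega)
    exact absurd (hmax S' hS') (by omega)
  constructor
  · intro M' hM'
    set M := M'.map B.subtype with hMdef
    have hMB : M ≤ B := map_subtype_le _
    have hMinv : ∀ g ∈ D.T, D.mv g B = B → ∀ a ∈ M, D.act g a ∈ M := by
      rintro g hg hgB _ ⟨a, ha, rfl⟩
      exact ⟨_, hM' g ((hPB g hg).2 hgB) a ha, D.act_block B (hS.nondeg hB) P hP hA ((hPB g hg).2 hgB) a⟩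
    suffices h : M = ⊥ ∨ M = B by
      rcases h with h | h
      · exact Or.inl ((map_eq_bot_iff_of_injective _ B.subtype_injective).1 h)
      · refine Or.inr (map_injective B.subtype_injective ?_)
        rw [← hMdef, h, ← MonoidHom.range_eq_map, range_subtype]
    by_contra hh
    push Not at hh
    obtain ⟨hM0, hMB'⟩ := hh
    set I := M ⊓ orthSub D.form M with hI
    by_cases hI0 : I = ⊥
    · -- a decomposition of the part
      set M₂ := orthSub D.form M ⊓ B with hM₂
      have hsup : M ⊔ M₂ = B := by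
        rw [hM₂, ← sup_inf_assoc_of_le _ hMB, D.sup_orth_eq_top hI0, top_inf_eq]
      have hM₂0 : M₂ ≠ ⊥ := fun h => hMB' (by rw [← hsup, h, sup_bot_eq])
      have hne : M ≠ M₂ := fun e => hM0 (le_bot_iff.1 (hI0 ▸ le_inf le_rfl (e.le.trans inf_le_left)))
      have hoM : M₂ ≤ orthSub D.form M := inf_le_left
      have := hcontra {M, M₂} (by simp [hM0, hM₂0]) (by simp [hMB, hM₂])
        (by
          intro X hX Y hY hXY
          simp only [Finset.mem_insert, Finset.mem_singleton] at hX hY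
          rcases hX with rfl | rfl <;> rcases hY with rfl | rfl
          · exact absurd rfl hXY
          · exact D.le_orth_symm hoM
          · exact hoM
          · exact absurd rfl hXY)
        (by rw [Finset.sup_insert, Finset.sup_singleton, id, id]; exact hsup)
        (by
          intro g hg hgB X hX
          have hginv : D.mv g⁻¹ B = B := by conv_lhs => rw [← hgB]; exact (D.mv_inv_mv hg B)
          have hgM : D.mv g M = M := le_antisymm (by rintro _ ⟨a, ha, rfl⟩; exact hMinv g hg hgB a ha)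
            fun a ha => ⟨D.act g⁻¹ a, hMinv _ (inv_mem hg) hginv a ha, by
              show D.act g (D.act g⁻¹ a) = a
              rw [D.act_inv hg, MulAut.apply_inv_self]⟩
          simp only [Finset.mem_insert, Finset.mem_singleton] at hX ⊢
          rcases hX with rfl | rfl
          · exact Or.inl hgM
          · refine Or.inr (le_antisymm ?_ fun a ha => ?_)
            · rintro _ ⟨a, ha, rfl⟩
              exact ⟨by rw [← hgM]; exact D.mv_le_orth hg (le_refl _) ⟨a, ha.1, rfl⟩, hA g ((hPB g hg).2 hgB) a ha.2⟩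
            · refine ⟨D.act g⁻¹ a, ⟨?_, hA _ ((hPB _ (inv_mem hg)).2 hginv) a ha.2⟩, ?_⟩
              · have := D.mv_le_orth (inv_mem hg) (le_refl (orthSub D.form M)) ⟨a, ha.1, rfl⟩
                rwa [show D.mv g⁻¹ M = M by conv_lhs => rw [← hgM]; exact (D.mv_inv_mv hg M)] at this
              · show D.act g (D.act g⁻¹ a) = a
                rw [D.act_inv hg, MulAut.apply_inv_self])
      rw [Finset.card_pair hne] at this
      omega
    · -- an isotropic subgroup
      set M' := ⨆ g : D.T, D.mv g I with hM'def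
      have hinv : ∀ g ∈ D.T, ∀ a ∈ M', D.act g a ∈ M' := by
        intro g hg
        suffices h : M' ≤ M'.comap (D.act g).toMonoidHom from fun a ha => h ha
        refine iSup_le fun t b hb => ?_
        refine mem_iSup_of_mem (⟨g * t, mul_mem hg t.2⟩ : D.T) ?_
        rw [D.mv_mul hg t.2]
        exact ⟨b, hb, rfl⟩
      rcases hirr M' hinv with h | h
      · exact hI0 (le_bot_iff.1 (h ▸ le_iSup_of_le 1 (by rw [OneMemClass.coe_one, D.mv_one])))
      · have hiso : M' ≤ orthSub D.form M' := by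
          refine iSup_le fun g => D.le_orth_symm (iSup_le fun g' => D.le_orth_symm ?_)
          by_cases hblk : D.mv g B = D.mv (g' : G) B
          · have hs : D.mv ((g : G)⁻¹ * g') B = B := by
              rw [D.mv_mul (inv_mem g.2) g'.2, ← hblk, D.mv_inv_mv g.2]
            have e : D.mv (g' : G) I = D.mv g (D.mv ((g : G)⁻¹ * g') I) := by
              rw [← D.mv_mul g.2 (mul_mem (inv_mem g.2) g'.2), mul_inv_cancel_left]
            rw [e]
            refine D.mv_le_orth g.2 (le_trans inf_le_right (D.orth_le ?_))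
            rintro _ ⟨a, ha, rfl⟩
            exact hMinv _ (mul_mem (inv_mem g.2) g'.2) hs a ha.1
          · have hIB : I ≤ B := inf_le_left.trans hMB
            exact ((Subgroup.map_mono hIB).trans (hS.orth _ (hS.inv g g.2 B hB) _ (hS.inv g' g'.2 B hB) hblk)).trans
              (D.orth_le (Subgroup.map_mono hIB))
        have htop : (⊤ : Subgroup A) = ⊥ := D.eq_bot_of_orth_top (h ▸ hiso)
        exact hM0 (le_bot_iff.1 (htop ▸ le_top))
  · intro R' hR'
    have hinj : Function.Injective (fun X : Subgroup B => X.map B.subtype) := map_injective B.subtype_injective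
    rw [← Finset.card_image_of_injective R' hinj]
    refine hcontra _ ?_ ?_ ?_ ?_ ?_
    · intro X hX
      obtain ⟨Y, hY, rfl⟩ := Finset.mem_image.1 hX
      exact fun h => hR'.ne_bot Y hY ((map_eq_bot_iff_of_injective _ B.subtype_injective).1 h)
    · intro X hX
      obtain ⟨Y, -, rfl⟩ := Finset.mem_image.1 hX
      exact map_subtype_le _
    · intro X hX X' hX' hne
      obtain ⟨Y, hY, rfl⟩ := Finset.mem_image.1 hX
      obtain ⟨Y', hY', rfl⟩ := Finset.mem_image.1 hX'
      rintro _ ⟨a, ha, rfl⟩ _ ⟨b, hb, rfl⟩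
      exact hR'.orth Y hY Y' hY' (fun e => hne (by rw [e])) ha b hb
    · refine le_antisymm (Finset.sup_le fun X hX => ?_) ?_
      · obtain ⟨Y, -, rfl⟩ := Finset.mem_image.1 hX
        exact map_subtype_le _
      · have h1 : R'.sup id ≤ ((R'.image fun X : Subgroup B => X.map B.subtype).sup id).comap B.subtype :=
          Finset.sup_le fun Y hY => map_le_iff_le_comap.1 (Finset.le_sup (f := id) (Finset.mem_image_of_mem _ hY))
        rw [hR'.sup] at h1
        exact fun a ha => h1 (mem_top (⟨a, ha⟩ : B))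
    · intro g hg hgB X hX
      obtain ⟨Y, hY, rfl⟩ := Finset.mem_image.1 hX
      have hgP := (hPB g hg).2 hgB
      refine Finset.mem_image.2 ⟨_, hR'.inv g hgP Y hY, ?_⟩
      ext a
      constructor
      · rintro ⟨b, ⟨c, hc, rfl⟩, rfl⟩
        exact ⟨c, ⟨c, hc, rfl⟩, (D.act_block B (hS.nondeg hB) P hP hA hgP c).symm⟩
      · rintro ⟨_, ⟨c, hc, rfl⟩, rfl⟩
        exact ⟨_, ⟨c, hc, rfl⟩, D.act_block B (hS.nondeg hB) P hP hA hgP c⟩

/-- Some system has the largest size. -/
theorem exists_max_system {S₀ : Finset (Subgroup A)} (h₀ : D.IsSystem S₀) :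
    ∃ S, D.IsSystem S ∧ ∀ S', D.IsSystem S' → S'.card ≤ S.card := by
  classical
  haveI := Fintype.ofFinite (Subgroup A)
  obtain ⟨S, hS, hmax⟩ := Finset.exists_max_image (Finset.univ.filter fun S => D.IsSystem S) Finset.card
    ⟨S₀, Finset.mem_filter.2 ⟨Finset.mem_univ _, h₀⟩⟩
  exact ⟨S, (Finset.mem_filter.1 hS).2, fun S' hS' => hmax S' (Finset.mem_filter.2 ⟨Finset.mem_univ _, hS'⟩)⟩

theorem exists_fixed_vector : ∀ (n : ℕ) (P : Subgroup G), Nat.card P = n → IsPGroup 2 P → ∀ W : Submodule K U,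
    W ≠ ⊥ → (∀ p ∈ P, ∀ w ∈ W, ρ p w ∈ W) → ∃ v ∈ W, v ≠ 0 ∧ ∀ p ∈ P, ρ p v = v := by
  classical
  intro n
  induction n using Nat.strong_induction_on with
  | _ n ih =>
  intro P hn hPp W h0 hW
  haveI : Fact (Nat.Prime 2) := ⟨Nat.prime_two⟩
  by_cases hP1 : P = ⊥
  · obtain ⟨v, hv, hv0⟩ := Submodule.exists_mem_ne_zero_of_ne_bot h0
    exact ⟨v, hv, hv0, fun p hp => by rw [hP1, mem_bot] at hp; rw [hp, map_one]; rfl⟩
  obtain ⟨j, hj⟩ := IsPGroup.iff_card.1 hPp
  obtain ⟨i, rfl⟩ : ∃ i, j = i + 1 := by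
    rcases j with _ | i
    · exact absurd (eq_bot_of_card_eq P (by rw [hj, pow_zero])) hP1
    · exact ⟨i, rfl⟩
  obtain ⟨N₀, hN₀⟩ := Sylow.exists_subgroup_card_pow_prime 2 (G := P) (n := i) (hj ▸ Dvd.intro _ (pow_succ 2 i).symm)
  have hidx : N₀.index = 2 := by
    have h := N₀.card_mul_index
    rw [hN₀, hj, pow_succ] at h
    exact Nat.eq_of_mul_eq_mul_left (Nat.two_pow_pos i) h
  have hcard : Nat.card (N₀.map P.subtype) < n := by
    rw [card_subtype, hN₀, ← hn, hj, pow_succ]
    have := Nat.two_pow_pos i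
    omega
  obtain ⟨v, hv, hv0, hfix⟩ := ih _ hcard (N₀.map P.subtype) rfl (hPp.to_le (map_subtype_le _)) W h0
    fun p hp => hW p (map_subtype_le _ hp)
  haveI : N₀.Normal := normal_of_index_eq_two hidx
  obtain ⟨s, hs⟩ : ∃ s : P, s ∉ N₀ := by
    by_contra hh
    push Not at hh
    rw [show N₀ = ⊤ from eq_top_iff.2 fun x _ => hh x, index_top] at hidx
    exact absurd hidx (by norm_num)
  have hall : ∀ u : U, ρ (s : G) u = u → (∀ m ∈ N₀, ρ (m : G) u = u) → ∀ p ∈ P, ρ p u = u := by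
    intro u hsu hmu p hp
    by_cases h : (⟨p, hp⟩ : P) ∈ N₀
    · exact hmu _ h
    · have h' : s⁻¹ * ⟨p, hp⟩ ∈ N₀ := (mul_mem_iff_of_index_two hidx).2 (iff_of_false (mt inv_mem_iff.1 hs) h)
      rw [show p = (s : G) * ((s⁻¹ * ⟨p, hp⟩ : P) : G) by simp, map_mul, Module.End.mul_apply, hmu _ h', hsu]
  have hN : ∀ m ∈ N₀, ρ ((m : P) : G) v = v := fun m hm => hfix _ (mem_map_of_mem _ hm)
  by_cases hsv : ρ (s : G) v = v
  · exact ⟨v, hv, hv0, hall v hsv hN⟩
  refine ⟨ρ (s : G) v - v, sub_mem (hW _ s.2 v hv) hv, sub_ne_zero.2 hsv, hall _ ?_ ?_⟩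
  · rw [map_sub, ← Module.End.mul_apply, ← map_mul, hN (s * s) (mul_self_mem_of_index_two hidx s) |>
      (fun h => show ρ ((s : G) * s) v = v from h), ← neg_sub, neg_vec_eq_self K]
  · intro m hm
    rw [map_sub, ← Module.End.mul_apply, ← map_mul,
      show ((m : P) : G) * (s : G) = (s : G) * ((s⁻¹ * m * s : P) : G) by simp [mul_assoc], map_mul,
      Module.End.mul_apply, hN _ (by simpa using (inferInstance : N₀.Normal).conj_mem m hm s⁻¹), hN m hm]

theorem exists_frame [IsAlgClosed K] [FiniteDimensional K U] {S : Finset (Subgroup A)} (hS : D.IsSystem S) :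
    ∃ F : D.Frame {B // B ∈ S}, (∀ i, F.blk i = i.1) ∧ ∀ g ∈ D.T, ∀ i, (F.perm g i).1 = D.mv g i.1 := by
  classical
  let pm : G → Equiv.Perm {B // B ∈ S} := fun g => if hg : g ∈ D.T then
    { toFun := fun i => ⟨D.mv g i.1, hS.inv g hg i.1 i.2⟩
      invFun := fun i => ⟨D.mv g⁻¹ i.1, hS.inv _ (inv_mem hg) i.1 i.2⟩
      left_inv := fun i => Subtype.ext (D.mv_inv_mv hg i.1)
      right_inv := fun i => Subtype.ext (by simpa using D.mv_inv_mv (inv_mem hg) i.1) } else 1
  have hpm : ∀ g, ∀ hg : g ∈ D.T, ∀ i, (pm g i).1 = D.mv g i.1 := fun g hg i => by simp [pm, hg]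
  have hpone : pm 1 = 1 := Equiv.ext fun i => Subtype.ext (by rw [hpm 1 (one_mem _), D.mv_one]; rfl)
  have hpmul : ∀ g ∈ D.T, ∀ h ∈ D.T, pm (g * h) = pm g * pm h := fun g hg h hh => Equiv.ext fun i => Subtype.ext (by
    rw [Equiv.Perm.mul_apply, hpm _ (mul_mem hg hh), hpm g hg, hpm h hh, D.mv_mul hg hh])
  -- orbit representatives
  let st : Setoid {B // B ∈ S} :=
    { r := fun i j => ∃ g ∈ D.T, pm g i = j
      iseqv := ⟨fun i => ⟨1, one_mem _, by rw [hpone]; rfl⟩,
        fun {i j} ⟨g, hg, e⟩ => ⟨g⁻¹, inv_mem hg, by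
          rw [← e, ← Equiv.Perm.mul_apply, ← hpmul _ (inv_mem hg) _ hg, inv_mul_cancel, hpone]; rfl⟩,
        fun {i j k} ⟨g, hg, e⟩ ⟨h, hh, e'⟩ => ⟨h * g, mul_mem hh hg, by
          rw [hpmul _ hh _ hg, Equiv.Perm.mul_apply, e, e']⟩⟩ }
  let rep : {B // B ∈ S} → {B // B ∈ S} := fun i => (Quotient.mk st i).out
  have hrep : ∀ i, ∃ g ∈ D.T, pm g (rep i) = i := fun i => Quotient.exact (Quotient.out_eq (Quotient.mk st i))
  choose tr htr htri using hrep
  have hrep_eq : ∀ g ∈ D.T, ∀ i, rep (pm g i) = rep i := fun g hg i =>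
    congrArg Quotient.out (Quotient.sound (s := st)
      (show ∃ h ∈ D.T, pm h (pm g i) = i from ⟨g⁻¹, inv_mem hg, by
        rw [← Equiv.Perm.mul_apply, ← hpmul _ (inv_mem hg) _ hg, inv_mul_cancel, hpone]; rfl⟩))
  -- a simple subspace for each representative
  have hW : ∀ i : {B // B ∈ S}, ∃ (W : Submodule K U) (e : U),
      (D.block i.1 (hS.nondeg i.2) ⊥ bot_le (fun p hp a ha => by rw [mem_bot] at hp; rw [hp, D.act_one]; exact ha)).IsSimple W ∧
      e ∈ W ∧ e ≠ 0 ∧ ∀ g ∈ D.T, pm g i = i → (∀ w ∈ W, ρ g w ∈ W) ∧ ρ g e = e := by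
    intro i
    let P : Subgroup G :=
      { carrier := {g | g ∈ D.T ∧ pm g i = i}
        one_mem' := ⟨one_mem _, by rw [hpone]; rfl⟩
        mul_mem' := fun {a b} ha hb => ⟨mul_mem ha.1 hb.1, by rw [hpmul _ ha.1 _ hb.1, Equiv.Perm.mul_apply, hb.2, ha.2]⟩
        inv_mem' := fun {a} ha => ⟨inv_mem ha.1, by
          conv_lhs => rw [← ha.2]
          rw [← Equiv.Perm.mul_apply, ← hpmul _ (inv_mem ha.1) _ ha.1, inv_mul_cancel, hpone]; rfl⟩ }
    have hA : ∀ p ∈ P, ∀ a ∈ i.1, D.act p a ∈ i.1 := fun p hp a ha => by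
      have h := congrArg Subtype.val hp.2
      rw [hpm p hp.1] at h
      exact h ▸ ⟨a, ha, rfl⟩
    let E := D.block i.1 (hS.nondeg i.2) P (fun g hg => hg.1) hA
    obtain ⟨W, -, hW, hWP⟩ := exists_invariant_simple (D := E) _ P rfl le_rfl ⊤ top_ne_bot
      (fun _ _ _ => trivial) (fun _ _ _ _ => trivial)
    obtain ⟨e, he, he0, hefix⟩ := exists_fixed_vector (ρ := ρ) _ P rfl (D.two.to_le fun g hg => hg.1) W hW.ne_bot hWP
    exact ⟨W, e, ⟨hW.ne_bot, hW.inv, hW.full⟩, he, he0, fun g hg h => ⟨hWP g ⟨hg, h⟩, hefix g ⟨hg, h⟩⟩⟩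
  choose W₀ e₀ hW₀ he₀ he₀0 hstab using hW
  let W : {B // B ∈ S} → Submodule K U := fun i => (W₀ (rep i)).map (ρ (tr i))
  let e : {B // B ∈ S} → U := fun i => ρ (tr i) (e₀ (rep i))
  have hback : ∀ (g : G) (u : U), ρ g⁻¹ (ρ g u) = u := fun g u => by rw [← Module.End.mul_apply, rho_inv_mul]; rfl
  have hback' : ∀ (g : G) (u : U), ρ g (ρ g⁻¹ u) = u := fun g u => by rw [← Module.End.mul_apply, rho_mul_inv]; rfl
  have hkey : ∀ g, ∀ hg : g ∈ D.T, ∀ i, ∀ u, (u ∈ W₀ (rep i) → ρ g (ρ (tr i) u) ∈ W (pm g i)) ∧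
      ρ g (e i) = e (pm g i) := by
    intro g hg i u
    set m := (tr (pm g i))⁻¹ * g * tr i with hm
    have hmT : m ∈ D.T := mul_mem (mul_mem (inv_mem (htr _)) hg) (htr i)
    have hm1 : pm m (rep i) = rep i := by
      rw [hm, hpmul _ (mul_mem (inv_mem (htr _)) hg) _ (htr i), hpmul _ (inv_mem (htr _)) _ hg,
        Equiv.Perm.mul_apply, Equiv.Perm.mul_apply, htri]
      rw [← hrep_eq g hg i]
      generalize pm g i = j
      conv_lhs => arg 2; rw [← htri j]
      rw [← Equiv.Perm.mul_apply, ← hpmul _ (inv_mem (htr _)) _ (htr _), inv_mul_cancel, hpone]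
      rfl
    have e1 : ∀ x, ρ g (ρ (tr i) x) = ρ (tr (pm g i)) (ρ m x) := fun x => by
      rw [← Module.End.mul_apply, ← Module.End.mul_apply, ← map_mul, ← map_mul, hm]
      congr 2
      group
    refine ⟨fun hu => ?_, ?_⟩
    · rw [e1]
      refine Submodule.mem_map_of_mem ?_
      rw [hrep_eq g hg i]
      exact (hstab (rep i) m hmT hm1).1 u hu
    · show ρ g (ρ (tr i) (e₀ (rep i))) = ρ (tr (pm g i)) (e₀ (rep (pm g i)))
      rw [e1, (hstab (rep i) m hmT hm1).2, hrep_eq g hg i]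
  refine ⟨
    { blk := fun i => i.1
      orth := fun i j h => hS.orth _ i.2 _ j.2 fun e => h (Subtype.ext e)
      sup := eq_top_iff.2 (hS.sup.ge.trans (Finset.sup_le fun B hB => le_iSup_of_le ⟨B, hB⟩ le_rfl))
      nondeg := fun i => hS.nondeg i.2
      perm := pm
      perm_spec := fun g hg i a ha => (hpm g hg i).symm ▸ ⟨a, ha, rfl⟩
      perm_one := hpone
      perm_mul := hpmul
      W := W
      simple := fun i => ?_
      W_perm := fun g hg i w hw => by obtain ⟨u, hu, rfl⟩ := hw; exact (hkey g hg i u).1 hu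
      e := e
      e_mem := fun i => Submodule.mem_map_of_mem (he₀ _)
      e_ne := fun i h => he₀0 (rep i) (by
        show e₀ (rep i) = 0
        rw [← hback (tr i) (e₀ (rep i)), show ρ (tr i) (e₀ (rep i)) = 0 from h, map_zero])
      e_perm := fun g hg i => (hkey g hg i 0).2 }, fun i => rfl, fun g hg i => hpm g hg i⟩
  -- transported simplicity
  set D₀ := D.block (rep i).1 (hS.nondeg (rep i).2) ⊥ bot_le
    (fun p hp a ha => by rw [mem_bot] at hp; rw [hp, D.act_one]; exact ha) with hD₀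
  set Di := D.block i.1 (hS.nondeg i.2) ⊥ bot_le
    (fun p hp a ha => by rw [mem_bot] at hp; rw [hp, D.act_one]; exact ha) with hDi
  set t := tr i
  have hblk : D.mv t (rep i).1 = i.1 := by rw [← hpm t (htr i), htri]
  have hconj : ∀ a ∈ D.lift i.1, t⁻¹ * a * t ∈ D.lift (rep i).1 := by
    intro a ha
    obtain ⟨h1, h2⟩ := (D.mem_lift).1 ha
    have h3 := D.conj_mem (inv_mem (htr i)) h1
    rw [inv_inv] at h3
    refine (D.mem_lift).2 ⟨h3, ?_⟩
    rw [show (⟨_, h3⟩ : D.Q) = ⟨t⁻¹ * a * t⁻¹⁻¹, D.conj_mem (inv_mem (htr i)) h1⟩ from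
      Subtype.ext (congrArg (t⁻¹ * a * ·) (inv_inv t).symm), D.proj_conj (inv_mem (htr i)) ⟨_, h1⟩]
    rw [← hblk] at h2
    obtain ⟨b, hb, e⟩ := h2
    rw [← e]
    show D.act t⁻¹ (D.act t b) ∈ _
    rwa [D.act_inv (htr i), MulAut.inv_apply_self]
  refine ⟨fun h => ?_, ?_, fun f => ?_⟩
  · obtain ⟨w, hw, hw0⟩ := Submodule.exists_mem_ne_zero_of_ne_bot (hW₀ (rep i)).ne_bot
    have h1 : ρ t w ∈ W i := Submodule.mem_map_of_mem hw
    rw [h, Submodule.mem_bot] at h1
    exact hw0 (by rw [← hback t w, h1, map_zero])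
  · rintro a _ ⟨u, hu, rfl⟩
    refine ⟨_, (hW₀ (rep i)).inv ⟨_, hconj _ a.2⟩ u hu, ?_⟩
    show ρ t (ρ (t⁻¹ * a * t) u) = ρ (a : G) (ρ t u)
    rw [← Module.End.mul_apply, ← Module.End.mul_apply, ← map_mul, ← map_mul]
    congr 2
    group
  · have hmem : ∀ w : W i, ρ t⁻¹ (w : U) ∈ W₀ (rep i) := by
      rintro ⟨_, u, hu, rfl⟩; show ρ t⁻¹ (ρ t u) ∈ _; rwa [hback]
    let f' : W₀ (rep i) →ₗ[K] W₀ (rep i) :=
      { toFun := fun w => ⟨ρ t⁻¹ (f ⟨ρ t (w : U), Submodule.mem_map_of_mem w.2⟩ : U), hmem _⟩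
        map_add' := fun a b => Subtype.ext (by
          show ρ t⁻¹ _ = ρ t⁻¹ _ + ρ t⁻¹ _
          rw [← map_add, ← Submodule.coe_add, ← map_add f]
          congr 3
          exact Subtype.ext (by simp))
        map_smul' := fun r a => Subtype.ext (by
          show ρ t⁻¹ _ = r • ρ t⁻¹ _
          rw [← map_smul, ← Submodule.coe_smul, ← map_smul f]
          congr 3
          exact Subtype.ext (by simp)) }
    obtain ⟨X, hX, hXe⟩ := (hW₀ (rep i)).full f'
    refine ⟨ρ t * X * ρ t⁻¹, ?_, fun w => ?_⟩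
    · have hmv : ∀ X ∈ D₀.alg, ρ t * X * ρ t⁻¹ ∈ Di.alg := by
        intro X hX
        induction hX using Submodule.span_induction with
        | mem x hx =>
          obtain ⟨a, rfl⟩ := hx
          show ρ t * ρ (a : G) * ρ t⁻¹ ∈ Di.alg
          rw [← map_mul, ← map_mul]
          obtain ⟨h1, h2⟩ := (D.mem_lift).1 a.2
          exact Di.rho_mem_alg ((D.mem_lift).2 ⟨D.conj_mem (htr i) h1,
            (D.proj_conj (htr i) ⟨_, h1⟩).symm ▸ hblk ▸ ⟨_, h2, rfl⟩⟩)
        | zero => simp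
        | add x x' _ _ h h' => rw [mul_add, add_mul]; exact add_mem h h'
        | smul r x _ h => rw [mul_smul_comm, smul_mul_assoc]; exact Submodule.smul_mem _ _ h
      exact hmv X hX
    · rw [Module.End.mul_apply, Module.End.mul_apply, show ρ t⁻¹ (w : U) = ((⟨_, hmem w⟩ : W₀ (rep i)) : U) from rfl,
        hXe]
      show ρ t (ρ t⁻¹ _) = _
      rw [hback']
      exact congrArg (fun z => (f z : U)) (Subtype.ext (hback' t _))

theorem mem_finset_inf {ι : Type*} (s : Finset ι) (f : ι → Subgroup A) (a : A) :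
    a ∈ s.inf f ↔ ∀ i ∈ s, a ∈ f i := by
  rw [Finset.inf_eq_iInf]
  simp [Subgroup.mem_iInf]

section primitive

variable (hirr : D.Irred)

include hirr in
theorem inversion_of_central {t : G} (ht : t ∈ D.T) (h2 : ∀ a, D.act t (D.act t a) = a)
    (hc : ∀ g ∈ D.T, ∀ a, D.act g (D.act t a) = D.act t (D.act g a)) (h1 : D.act t ≠ 1) :
    ∀ a, D.act t a = a⁻¹ := by
  rcases hirr (fixPts (D.act t)) (fun g hg a (ha : D.act t a = a) => show D.act t (D.act g a) = D.act g a by
    rw [← hc g hg, ha]) with h | h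
  · intro a
    have := D.fix_sup_inv h2
    rw [h, bot_sup_eq] at this
    exact (this ▸ mem_top a : a ∈ invPts (D.act t))
  · exact absurd ((MulEquiv.ext fun a => (show a ∈ fixPts (D.act t) by rw [h]; exact mem_top a)) : D.act t = 1) h1

include hirr in
/-- Without invariant decompositions a normal elementary subgroup of the image has one involution. -/
theorem no_four (hns : D.NoSplit) {N : Subgroup D.tau.range} (hNn : N.Normal) (hN2 : ∀ x ∈ N, x * x = 1)
    {a : D.tau.range} (ha : a ∈ N) {b : D.tau.range} (hb : b ∈ N) (ha1 : a ≠ 1) (hb1 : b ≠ 1) : a = b := by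
  classical
  by_contra hab
  haveI := Fintype.ofFinite N
  have hsqN : ∀ x : N, ∀ c, ((x : D.tau.range) : MulAut A) (((x : D.tau.range) : MulAut A) c) = c := fun x c =>
    DFunLike.congr_fun (congrArg Subtype.val (hN2 x x.2)) c
  have hcommN : ∀ x y : N, ∀ c, ((x : D.tau.range) : MulAut A) (((y : D.tau.range) : MulAut A) c) =
      ((y : D.tau.range) : MulAut A) (((x : D.tau.range) : MulAut A) c) := by
    intro x y c
    have h := hN2 _ (mul_mem x.2 y.2)
    have e : (x : D.tau.range) * y = y * x := by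
      calc (x : D.tau.range) * y = ((x : D.tau.range) * y)⁻¹ := (inv_eq_of_mul_eq_one_right h).symm
        _ = (y : D.tau.range)⁻¹ * (x : D.tau.range)⁻¹ := mul_inv_rev _ _
        _ = y * x := by rw [inv_eq_of_mul_eq_one_right (hN2 y y.2), inv_eq_of_mul_eq_one_right (hN2 x x.2)]
    exact DFunLike.congr_fun (congrArg Subtype.val e) c
  let part : N → Bool → Subgroup A := fun x ε =>
    if ε then invPts ((x : D.tau.range) : MulAut A) else fixPts ((x : D.tau.range) : MulAut A)
  let comp : (N → Bool) → Finset N → Subgroup A := fun ε s => s.inf fun x => part x (ε x)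
  have hpartmap : ∀ (x y : N) (ε : Bool), ∀ c ∈ part x ε, ((y : D.tau.range) : MulAut A) c ∈ part x ε := by
    intro x y ε c hc
    cases ε
    · show ((x : D.tau.range) : MulAut A) _ = _
      rw [hcommN, show ((x : D.tau.range) : MulAut A) c = c from hc]
    · show ((x : D.tau.range) : MulAut A) _ = _
      rw [hcommN, show ((x : D.tau.range) : MulAut A) c = c⁻¹ from hc, map_inv]
  have hcover : ∀ s : Finset N, ∀ c : A, c ∈ ⨆ ε : N → Bool, comp ε s := by
    intro s
    induction s using Finset.induction_on with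
    | empty => exact fun c => mem_iSup_of_mem (fun _ => false) (mem_top c)
    | insert x s hx ih =>
      intro c
      have hle : (⨆ ε : N → Bool, comp ε s) ≤ ⨆ ε : N → Bool, comp ε (insert x s) := by
        refine iSup_le fun ε d hd => ?_
        obtain ⟨m, hm⟩ := exists_sq_root D.good d
        set X := ((x : D.tau.range) : MulAut A) with hX
        have hXd : X d ∈ comp ε s := by
          simp only [comp, Finset.mem_coe, mem_finset_inf] at hd ⊢
          exact fun y hy => hpartmap y x _ d (hd y hy)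
        have hp : (d * (X d)⁻¹) ^ m ∈ comp ε s := pow_mem (mul_mem hd (inv_mem hXd)) _
        have hr : (d * X d) ^ m ∈ comp ε s := pow_mem (mul_mem hd hXd) _
        have hpi : X ((d * (X d)⁻¹) ^ m) = ((d * (X d)⁻¹) ^ m)⁻¹ := by
          rw [map_pow, map_mul, map_inv, hsqN, ← inv_pow, mul_inv, inv_inv, mul_comm]
        have hri : X ((d * X d) ^ m) = (d * X d) ^ m := by rw [map_pow, map_mul, hsqN, mul_comm]
        have hd' : d = (d * (X d)⁻¹) ^ m * (d * X d) ^ m := by
          rw [← mul_pow, mul_mul_mul_comm, inv_mul_cancel, mul_one, ← pow_two, hm]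
        have hins : ∀ (ε' : Bool) (v : A), v ∈ part x ε' → v ∈ comp ε s →
            v ∈ ⨆ ε : N → Bool, comp ε (insert x s) := by
          intro ε' v hv hv'
          refine mem_iSup_of_mem (Function.update ε x ε') ?_
          simp only [comp, mem_finset_inf] at hv' ⊢
          intro y hy
          rcases Finset.mem_insert.1 hy with rfl | hy'
          · rw [Function.update_self]; exact hv
          · rw [Function.update_of_ne (fun e => hx (by rw [← e]; exact hy'))]; exact hv' y hy'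
        rw [hd']
        exact mul_mem (hins true _ hpi hp) (hins false _ hri hr)
      exact hle (ih c)
  let R : Finset (Subgroup A) :=
    (Finset.univ.image fun ε : N → Bool => comp ε Finset.univ).filter fun X => X ≠ ⊥
  have hRmem : ∀ X, X ∈ R ↔ X ≠ ⊥ ∧ ∃ ε, comp ε Finset.univ = X := fun X => by
    simp [R, and_comm]
  have hcompmem : ∀ ε c, c ∈ comp ε Finset.univ ↔ ∀ x : N, c ∈ part x (ε x) := fun ε c => by
    simp [comp, mem_finset_inf]
  have hkeep : ∀ x : D.tau.range, KeepsForm D.form (x : MulAut A) := by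
    rintro ⟨_, t, rfl⟩
    show KeepsForm D.form (D.tau t)
    rw [show D.tau t = D.act t from (D.act_of_mem t.2).symm]
    exact D.act_keeps t.2
  have hsys : D.IsSystem R := by
    refine ⟨fun X hX => ((hRmem X).1 hX).1, fun X hX Y hY hne => ?_, ?_, fun g hg X hX => ?_⟩
    · obtain ⟨-, ε, rfl⟩ := (hRmem X).1 hX
      obtain ⟨-, δ, rfl⟩ := (hRmem Y).1 hY
      obtain ⟨x, hx⟩ : ∃ x, ε x ≠ δ x := Function.ne_iff.1 fun e => hne (by rw [e])
      intro c hc d hd
      have h1 := (hcompmem _ _).1 hc x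
      have h2 := (hcompmem _ _).1 hd x
      cases hεx : ε x <;> cases hδx : δ x <;>
        simp only [hεx, hδx, part, Bool.false_eq_true, if_false, if_true, ne_eq, not_true_eq_false] at hx h1 h2
      · rw [swap_eq_inv D.good, cross_eq_one D.good _ (hkeep x) h2 h1, inv_one]
      · exact cross_eq_one D.good _ (hkeep x) h1 h2
    · rw [eq_top_iff]
      intro c _
      refine (iSup_le fun ε => ?_ : (⨆ ε : N → Bool, comp ε Finset.univ) ≤ R.sup id) (hcover Finset.univ c)
      by_cases h : comp ε Finset.univ = ⊥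
      · rw [h]; exact bot_le
      · exact Finset.le_sup (f := id) ((hRmem _).2 ⟨h, ε, rfl⟩)
    · obtain ⟨hX0, ε, rfl⟩ := (hRmem X).1 hX
      set γ : D.tau.range := ⟨D.act g, ⟨⟨g, hg⟩, (D.act_of_mem hg).symm⟩⟩ with hγ
      let σ : N → N := fun x => ⟨γ⁻¹ * x * γ, by simpa using hNn.conj_mem x x.2 γ⁻¹⟩
      refine (hRmem _).2 ⟨fun h => hX0 (D.mv_injective hg (h.trans (by rw [mv, Subgroup.map_bot]))), ε ∘ σ, ?_⟩
      have hσ : ∀ (x : N) (d : A), ((x : D.tau.range) : MulAut A) (D.act g d) =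
          D.act g (((σ x : N) : D.tau.range) |> fun y : D.tau.range => (y : MulAut A) d) := by
        intro x d
        show _ = D.act g ((((γ⁻¹ * x * γ : D.tau.range)) : MulAut A) d)
        simp [hγ]
      have hmv : ∀ (x : N) (ε' : Bool) (d : A), d ∈ part (σ x) ε' ↔ D.act g d ∈ part x ε' := by
        intro x ε' d
        cases ε'
        · show ((σ x : N) : D.tau.range).1 d = d ↔ ((x : D.tau.range) : MulAut A) (D.act g d) = D.act g d
          rw [hσ]; exact (D.act g).injective.eq_iff.symm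
        · show ((σ x : N) : D.tau.range).1 d = d⁻¹ ↔ ((x : D.tau.range) : MulAut A) (D.act g d) = (D.act g d)⁻¹
          rw [hσ, ← map_inv]; exact (D.act g).injective.eq_iff.symm
      let σ' : N → N := fun x => ⟨γ * x * γ⁻¹, hNn.conj_mem x x.2 γ⟩
      have hσσ' : ∀ y : N, σ (σ' y) = y := fun y => Subtype.ext (by simp [σ, σ', mul_assoc])
      ext c
      rw [hcompmem, mem_mv]
      constructor
      · intro h
        refine ⟨(D.act g).symm c, (hcompmem _ _).2 fun y => ?_, (D.act g).apply_symm_apply c⟩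
        have h1 := h (σ' y)
        rw [Function.comp_apply, hσσ'] at h1
        rw [← hσσ' y, hmv, hσσ' y, MulEquiv.apply_symm_apply]
        exact h1
      · rintro ⟨d, hd, rfl⟩ x
        exact (hmv x _ d).1 ((hcompmem _ _).1 hd (σ x))
  have h1 := hns R hsys
  obtain ⟨X, hX⟩ : R.Nonempty := by
    rw [Finset.nonempty_iff_ne_empty]
    intro h
    have hs := hsys.sup
    rw [h, Finset.sup_empty] at hs
    refine ha1 (Subtype.ext (MulEquiv.ext fun c => ?_))
    rw [(mem_bot.1 (hs ▸ mem_top c) : c = 1), map_one, map_one]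
  obtain ⟨-, ε, rfl⟩ := (hRmem X).1 hX
  have htop : ∀ c, c ∈ comp ε Finset.univ := by
    intro c
    have hsub : R.sup id ≤ comp ε Finset.univ := Finset.sup_le fun Y hY => by
      rw [Finset.card_le_one.1 h1 Y hY _ hX]; exact le_rfl
    exact hsub (hsys.sup ▸ mem_top c)
  have hone : ∀ x : N, (x : D.tau.range) ≠ 1 → ∀ c, ((x : D.tau.range) : MulAut A) c = c⁻¹ := by
    intro x hx c
    have h := (hcompmem _ _).1 (htop c) x
    cases hεx : ε x
    · refine absurd (Subtype.ext (MulEquiv.ext fun d => ?_)) hx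
      have h' := (hcompmem _ _).1 (htop d) x
      rw [hεx] at h'
      exact h'
    · rw [hεx] at h; exact h
  exact hab (Subtype.ext (MulEquiv.ext fun c => by rw [hone ⟨a, ha⟩ ha1, hone ⟨b, hb⟩ hb1]))

include hirr in
/-- Without invariant decompositions the image has a self-centralizing cyclic normal subgroup. -/
theorem image_cyclic (hns : D.NoSplit) : ∃ C : Subgroup D.tau.range, C.Normal ∧ IsCyclic C ∧
    centralizer (C : Set D.tau.range) ≤ C ∧ commutator D.tau.range ≤ C :=
  (two_group_cases (H := D.tau.range) (D.two.of_surjective D.tau.rangeRestrict D.tau.rangeRestrict_surjective)).resolve_left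
    fun ⟨_, hNn, hN2, _, ha, _, hb, ha1, hb1, hab⟩ => hab (no_four hirr hns hNn hN2 ha hb ha1 hb1)

include hirr in
theorem derived_two_trivial (hns : D.NoSplit) : ∀ y ∈ derSub D.T 2, D.act y = 1 := by
  intro y hy
  obtain ⟨C, -, hC, -, hD⟩ := image_cyclic hirr hns
  haveI := hC
  have h1 : D.tau.rangeRestrict ⟨y, derSub_le _ _ hy⟩ ∈ derSub (⊤ : Subgroup D.tau.range) 2 := by
    refine derSub_mono (S := (⊤ : Subgroup D.T).map D.tau.rangeRestrict) le_top 2 ?_
    rw [← map_derSub]
    refine mem_map_of_mem _ ?_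
    rw [show (⊤ : Subgroup D.T) = D.T.subgroupOf D.T from (subgroupOf_self D.T).symm, mem_derSub_subgroupOf le_rfl]
    exact hy
  rw [derSub_two_eq_bot_of_cyclic hD, mem_bot] at h1
  rw [D.act_of_mem (derSub_le _ _ hy)]
  exact congrArg Subtype.val h1

include hirr in
/-- The element of order four over the inverting involution. -/
theorem exists_root (hns : D.NoSplit) {Z : Subgroup G} (hZ : Z ≤ D.T)
    (hZn : ∀ g ∈ D.T, ∀ z ∈ Z, g * z * g⁻¹ ∈ Z) (hinv : ∀ y ∈ ⁅Z, Z⁆, D.act (y * y) = 1)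
    (hne : ∃ y ∈ ⁅Z, Z⁆, D.act y ≠ 1) :
    ∀ y ∈ ⁅Z, Z⁆, D.act y ≠ 1 → (∀ a, D.act y a = a⁻¹) ∧ ∃ z ∈ Z, D.act (z * z) = D.act y := by
  classical
  obtain ⟨C, hCn, hC, hcent, hD⟩ := image_cyclic hirr hns
  haveI := hC
  haveI := hCn
  set Z' : Subgroup D.T := Z.subgroupOf D.T with hZ'
  set ZΓ := Z'.map D.tau.rangeRestrict with hZΓ
  haveI : ZΓ.Normal := by
    refine ⟨fun x hx γ => ?_⟩
    obtain ⟨x, hx, rfl⟩ := hx
    obtain ⟨g, rfl⟩ := D.tau.rangeRestrict_surjective γ
    rw [← map_inv, ← map_mul, ← map_mul]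
    exact mem_map_of_mem _ (hZn g g.2 x hx)
  have hcom : ∀ y, ∀ hy : y ∈ ⁅Z, Z⁆, D.tau.rangeRestrict ⟨y, commutator_le_self _ |> fun h => hZ (h hy)⟩ ∈ ⁅ZΓ, ZΓ⁆ := by
    intro y hy
    rw [hZΓ, ← map_commutator]
    refine mem_map_of_mem _ ?_
    have e : (⁅Z', Z'⁆).map D.T.subtype = ⁅Z, Z⁆ := by
      rw [map_commutator, hZ', subgroupOf_map_subtype, inf_eq_left.2 hZ]
    rw [← e] at hy
    obtain ⟨w, hw, hwe⟩ := hy
    have : w = ⟨y, hwe ▸ w.2⟩ := Subtype.ext hwe
    rw [← this] at *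
    exact hw
  have hZne : ⁅ZΓ, ZΓ⁆ ≠ ⊥ := by
    obtain ⟨y, hy, hy1⟩ := hne
    intro h
    have h1 := hcom y hy
    rw [h, mem_bot] at h1
    refine hy1 ?_
    rw [D.act_of_mem (hZ ((commutator_le_self _) hy))]
    exact congrArg Subtype.val h1
  have hT2 : IsPGroup 2 D.tau.range := D.two.of_surjective D.tau.rangeRestrict D.tau.rangeRestrict_surjective
  obtain ⟨z, hzZ, hz1, hz2, hzc, hzC, huniq⟩ := exists_four hT2 hcent hD hZne
  intro y hy hy1
  have hyT : y ∈ D.T := hZ ((commutator_le_self _) hy)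
  set η := D.tau.rangeRestrict ⟨y, hyT⟩ with hη
  have hηC : η ∈ C := hD ((commutator_mono le_top le_top) (hcom y hy))
  have hη2 : η * η = 1 := Subtype.ext (by
    show D.tau _ * D.tau _ = 1
    rw [← map_mul]
    have := hinv y hy
    rwa [D.act_of_mem (mul_mem hyT hyT)] at this)
  have hη1 : η ≠ 1 := fun h => hy1 (by rw [D.act_of_mem hyT]; exact congrArg Subtype.val h)
  have hηz := huniq η hηC hη2 hη1
  obtain ⟨z₀, hz₀, rfl⟩ := hzZ
  have hactη : D.act y = (η : MulAut A) := D.act_of_mem hyT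
  refine ⟨inversion_of_central hirr hyT ?_ ?_ hy1, (z₀ : G), hz₀, ?_⟩
  · intro a
    rw [hactη]
    exact DFunLike.congr_fun (congrArg Subtype.val hη2) a
  · intro g hg a
    rw [hactη, D.act_of_mem hg, hηz]
    exact DFunLike.congr_fun (congrArg Subtype.val (mem_center_iff.1 hzc (D.tau.rangeRestrict ⟨g, hg⟩))) a
  · rw [hactη, hηz, D.act_of_mem (mul_mem z₀.2 z₀.2)]
    show D.tau (z₀ * z₀) = _
    rw [map_mul]
    rfl

end primitive

/-- An involution of a group of order nine or twenty-five is trivial or inverts. -/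
theorem involution_small [IsAlgClosed K] [FiniteDimensional K U] (hcard : Nat.card A = 9 ∨ Nat.card A = 25)
    {t : G} (ht : t ∈ D.T) (h2 : ∀ a, D.act t (D.act t a) = a) : D.act t = 1 ∨ ∀ a, D.act t a = a⁻¹ := by
  classical
  set F := fixPts (D.act t) with hF
  have ho := D.fix_le_orth_inv ht
  have hs := D.fix_sup_inv h2
  have hnd : F ⊓ orthSub D.form F = ⊥ := D.nondeg_of_compl ho hs
  obtain ⟨n, hn⟩ := (D.block F hnd ⊥ bot_le (fun p hp a ha => by
    rw [mem_bot] at hp; rw [hp, D.act_one]; exact ha)).card_square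
  have hdvd := card_subgroup_dvd_card F
  rw [hn] at hdvd
  have hcases : n ^ 2 = 1 ∨ n ^ 2 = Nat.card A := by
    rcases hcard with h | h <;> rw [h] at hdvd ⊢ <;>
      · have hle : n ≤ 5 := by nlinarith [Nat.le_of_dvd (by norm_num) hdvd]
        interval_cases n <;> first | omega | (norm_num at hdvd)
  rcases hcases with h | h
  · refine Or.inr fun a => ?_
    rw [show fixPts (D.act t) = ⊥ from eq_bot_of_card_eq F (hn.trans h), bot_sup_eq] at hs
    exact (hs ▸ mem_top a : a ∈ invPts (D.act t))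
  · refine Or.inl (MulEquiv.ext fun a => ?_)
    exact (eq_top_of_card_eq F (hn.trans h) ▸ mem_top a : a ∈ F)

/-- The image of the group on nine or twenty-five points has order dividing eight. -/
theorem card_image_dvd [IsAlgClosed K] [FiniteDimensional K U] (hcard : Nat.card A = 9 ∨ Nat.card A = 25) :
    Nat.card D.tau.range ∣ 8 := by
  classical
  haveI : Fact (Nat.Prime 2) := ⟨Nat.prime_two⟩
  -- no element but the identity fixes a point
  have hfree : ∀ γ : D.tau.range, ∀ a : A, a ≠ 1 → (γ : MulAut A) a = a → γ = 1 := by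
    intro γ a ha hγ
    by_contra hne
    obtain ⟨g, rfl⟩ := D.tau.rangeRestrict_surjective γ
    obtain ⟨i, hi⟩ := D.two g
    have hex : ∃ k, D.tau.rangeRestrict g ^ 2 ^ k = 1 := ⟨i, by rw [← map_pow, hi, map_one]⟩
    set k := Nat.find hex with hk
    have hk0 := Nat.find_spec hex
    have hk1 : 1 ≤ k := by
      by_contra h
      rw [← hk, show k = 0 by omega, pow_zero, pow_one] at hk0
      exact hne hk0
    set t := g ^ 2 ^ (k - 1) with htdef
    have ht1 : D.tau.rangeRestrict t ≠ 1 := by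
      rw [htdef, map_pow]; exact Nat.find_min hex (show k - 1 < Nat.find hex by omega)
    have ht2 : D.tau.rangeRestrict t * D.tau.rangeRestrict t = 1 := by
      rw [htdef, map_pow, ← pow_add, ← two_mul, ← pow_succ', show k - 1 + 1 = k by omega]; exact hk0
    have hact : D.act (t : G) = ((D.tau.rangeRestrict t : D.tau.range) : MulAut A) := D.act_of_mem t.2
    rcases involution_small hcard t.2 (fun b => by
      rw [hact]; exact DFunLike.congr_fun (congrArg Subtype.val ht2) b) with h | h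
    · exact ht1 (Subtype.ext (hact.symm.trans h))
    · refine ha (eq_one_of_eq_inv D.good ?_)
      rw [← h a, hact, htdef, map_pow]
      have hst : ∀ m : ℕ, (((D.tau.rangeRestrict g) ^ m : D.tau.range) : MulAut A) a = a := by
        intro m
        induction m with
        | zero => rfl
        | succ m ih => rw [pow_succ, Subgroup.coe_mul, MulAut.mul_apply, hγ, ih]
      exact (hst _).symm
  obtain ⟨j, hj⟩ := IsPGroup.iff_card.1
    (D.two.of_surjective D.tau.rangeRestrict D.tau.rangeRestrict_surjective)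
  obtain ⟨a, ha⟩ : ∃ a : A, a ≠ 1 := by
    by_contra hh
    push Not at hh
    haveI : Subsingleton A := ⟨fun a b => by rw [hh a, hh b]⟩
    rw [Nat.card_unique] at hcard
    omega
  have hle : Nat.card D.tau.range < Nat.card A := by
    let f : D.tau.range → {b : A // b ≠ 1} := fun γ => ⟨(γ : MulAut A) a, fun h => ha ((γ : MulAut A).injective (h.trans (map_one _).symm))⟩
    have hf : Function.Injective f := by
      intro γ δ e
      refine (inv_mul_eq_one.1 (hfree (γ⁻¹ * δ) a ha ?_))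
      have e' : (γ : MulAut A) a = (δ : MulAut A) a := congrArg Subtype.val e
      show (γ : MulAut A)⁻¹ ((δ : MulAut A) a) = a
      rw [← e', MulAut.inv_apply_self]
    refine lt_of_le_of_lt (Nat.card_le_card_of_injective f hf) ?_
    haveI := Fintype.ofFinite A
    rw [Nat.card_eq_fintype_card, Nat.card_eq_fintype_card]
    exact Fintype.card_subtype_lt (x := (1 : A)) (fun h => h rfl)
  have h25 : Nat.card A = 25 → Nat.card D.tau.range ∣ 24 := by
    intro h
    haveI := Fintype.ofFinite A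
    let α := {b : A // b ≠ 1}
    letI : MulAction D.tau.range α :=
      { smul := fun γ b => ⟨(γ : MulAut A) b, fun e => b.2 ((γ : MulAut A).injective (e.trans (map_one _).symm))⟩
        one_smul := fun b => rfl
        mul_smul := fun γ δ b => rfl }
    haveI := Fintype.ofFinite (MulAction.orbitRel.Quotient D.tau.range α)
    have hc : Nat.card α = 24 := by
      rw [Nat.card_eq_fintype_card, Fintype.card_subtype_compl, Fintype.card_subtype_eq, ← Nat.card_eq_fintype_card, h]
    rw [← hc, Nat.card_congr (MulAction.selfEquivSigmaOrbits D.tau.range α), Nat.card_sigma]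
    refine Finset.dvd_sum fun ω _ => ?_
    refine dvd_of_eq ?_
    rw [← (Nat.card_congr (MulAction.orbitEquivQuotientStabilizer D.tau.range _).symm),
      show MulAction.stabilizer D.tau.range ω.out = ⊥ from (eq_bot_iff_forall _).2 fun γ hγ =>
        hfree γ _ ω.out.2 (congrArg Subtype.val (MulAction.mem_stabilizer_iff.1 hγ))]
    exact (Nat.card_congr QuotientGroup.quotientBot.toEquiv).symm
  rcases hcard with h | h
  · rw [hj, h] at hle
    have : j ≤ 3 := by
      by_contra hj4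
      have : 2 ^ 4 ≤ 2 ^ j := Nat.pow_le_pow_right (by norm_num) (by omega)
      omega
    rw [hj]
    exact (pow_dvd_pow 2 this).trans (by norm_num)
  · have h24 := h25 h
    rw [hj] at h24 ⊢
    exact (Nat.Coprime.dvd_of_dvd_mul_right (Nat.Coprime.pow_left j (by norm_num : Nat.Coprime 2 3))
      (show 2 ^ j ∣ 8 * 3 from h24))

end SymData

end Cfsg.Lib.TwoLength
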