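import Cfsg.Agent.TwoLength.DerivedLength.Base

/-!
Differences at the level where the parts are fixed send a part onto the line of its marked vector, and the last
level cannot be the first one fixing the parts.
-/

set_option linter.style.haveILetI false
set_option linter.unusedSectionVars false

namespace Cfsg.Lib.TwoLength

open Module Subgroup Cfsg.Lib.HallHigman
open scoped commutatorElement

universe u v w z t

variable {K : Type u} [Field K] [CharP K 2] [IsAlgClosed K] {U : Type v} [AddCommGroup U] [Module K U] [Nontrivial U]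
  [FiniteDimensional K U] {G : Type w} [Group G] [Finite G]

namespace SymData

namespace Frame

variable {ρ : G →* Module.End K U} {A : Type z} [CommGroup A] [Finite A] {D : SymData ρ A} {ι : Type t} [Fintype ι]
  (F : D.Frame ι)

theorem moves_all (htrans : ∀ i j, ∃ g ∈ D.T, F.perm g i = j) {j₀ : ℕ} {i : ι}
    (hmove : ∀ l < j₀, ∃ s ∈ derSub D.T l, F.perm s i ≠ i) (k : ι) :
    ∀ l < j₀, ∃ s ∈ derSub D.T l, F.perm s k ≠ k := by
  intro l hl
  obtain ⟨s, hs, hne⟩ := hmove l hl
  obtain ⟨g, hg, rfl⟩ := htrans i k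
  refine ⟨g * s * g⁻¹, derSub_conj hg hs, fun h => hne ((F.perm g).injective ?_)⟩
  have hsT := derSub_le _ _ hs
  rwa [F.perm_mul _ (mul_mem hg hsT) _ (inv_mem hg), F.perm_mul _ hg _ hsT, Equiv.Perm.mul_apply,
    Equiv.Perm.mul_apply, F.perm_inv_apply hg] at h

theorem three_le_finrank {i : ι} (g : F.stab i) (h : F.bt i g ≠ 1) : 3 ≤ finrank K (F.W i) := by
  have hc := F.card_blk i
  have hodd : Odd (finrank K (F.W i)) := by
    have := (D.good.odd).of_dvd_nat (card_subgroup_dvd_card (F.blk i))
    rw [hc] at this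
    exact (Nat.odd_pow_iff two_ne_zero).1 this
  have h1 : finrank K (F.W i) ≠ 1 := fun e => h (MulEquiv.ext fun a => by
    haveI := (Nat.card_eq_one_iff_unique.1 (by rw [hc, e, one_pow] : Nat.card (F.blk i) = 1)).1
    exact Subsingleton.elim _ _)
  obtain ⟨m, hm⟩ := hodd
  omega

theorem exists_off_line {i : ι} (h : 2 ≤ finrank K (F.W i)) : ∃ u ∈ F.W i, u ∉ K ∙ F.e i := by
  by_contra hh
  push Not at hh
  have h1 := Submodule.finrank_mono (show F.W i ≤ K ∙ F.e i from hh)
  rw [finrank_span_singleton (F.e_ne i)] at h1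
  omega

theorem rho_stab_eq {i : ι} {g h : F.stab i} (e : F.bt i g = F.bt i h) {w : U} (hw : w ∈ F.W i) :
    ρ (g : G) w = ρ (h : G) w :=
  congrArg Subtype.val (LinearMap.congr_fun ((F.res_eq_iff g h).2 e) ⟨w, hw⟩)

theorem bt_one_iff {i : ι} (g : F.stab i) : F.bt i g = 1 ↔ ∀ w ∈ F.W i, ρ (g : G) w = w := by
  rw [← F.res_one_iff]
  exact ⟨fun h w hw => congrArg Subtype.val (LinearMap.congr_fun h ⟨w, hw⟩),
    fun h => LinearMap.ext fun w => Subtype.ext (h w w.2)⟩

theorem exists_nontrivial_at (htrans : ∀ i j, ∃ g ∈ D.T, F.perm g i = j) {m : ℕ} {i : ι}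
    (hfix : F.Fixes (derSub D.T m)) {y : G} (hy : y ∈ derSub D.T m) (hne : F.bt i ⟨y, hfix.le_stab i hy⟩ ≠ 1) (k : ι) :
    ∃ y', ∃ hy' : y' ∈ derSub D.T m, F.bt k ⟨y', hfix.le_stab k hy'⟩ ≠ 1 := by
  obtain ⟨g, hg, rfl⟩ := htrans i k
  refine ⟨g * y * g⁻¹, derSub_conj hg hy, fun h => hne ((F.bt_one_iff _).2 fun w hw => ?_)⟩
  have h1 := (F.bt_one_iff _).1 h (ρ g w) (F.W_perm g hg i w hw)
  have h2 := congrArg (ρ g⁻¹) h1
  simp only [map_mul, Module.End.mul_apply] at h2
  have hb : ∀ u : U, ρ g⁻¹ (ρ g u) = u := fun u => by rw [← Module.End.mul_apply, rho_inv_mul]; rfl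
  rwa [hb w, hb (ρ y w)] at h2

variable [DecidableEq ι]

theorem update_mem {a : ι → U} (ha : ∀ k, a k ∈ F.W k) {i : ι} {u : U} (hu : u ∈ F.W i) (k : ι) :
    Function.update a i u k ∈ F.W k := by
  by_cases h : k = i
  · subst h; rw [Function.update_self]; exact hu
  · rw [Function.update_of_ne h]; exact ha k

theorem push_e {g : G} (hg : g ∈ D.T) {a : ι → U} {i : ι} (ha : ∀ k ≠ i, a k = F.e k) {k : ι}
    (hk : k ≠ F.perm g i) : F.push g a k = F.e k :=
  F.push_of_e hg a (ha _ fun e => hk (by rw [← e, F.apply_perm_inv hg]))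

/-- One difference at the level fixing the parts. -/
theorem line_one (hF : D.Full) {d : ℕ} (hzero : ChainZero ρ D.T d) {j : ℕ} (hjd : j + 1 = d)
    (hfix : F.Fixes (derSub D.T j)) {i : ι} (hmove : ∀ l < j, ∃ s ∈ derSub D.T l, F.perm s i ≠ i) {y : G}
    (hy : y ∈ derSub D.T j) {u : U} (hu : u ∈ F.W i) : (ρ y - 1) u ∈ K ∙ F.e i := by
  by_contra hne
  obtain ⟨α, hα, hα0⟩ := exists_functional_off (K := K) hne
  have hαe : α (F.e i) = 0 := hα0 _ (Submodule.mem_span_singleton_self _)
  set φ := Function.update F.dual i α with hφ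
  have ha := F.update_mem F.e_mem hu
  have hq : (ρ y - 1) * 1 ∈ chainProd ρ (derSub D.T j) 1 := mem_chainProd_succ (S := derSub D.T j) (i := 0) hy rfl
  have hsum := F.isolate_kill hzero i hjd hmove (F.pure (Function.update F.e i u)) (F.pureDual φ) hq
    fun g hg hgi => by
      have hbk : ∀ k ≠ F.perm g i, F.push g (Function.update F.e i u) k = F.e k := fun k hk =>
        F.push_e hg (fun k hk => Function.update_of_ne hk _ _) hk
      rw [mul_one, F.rho_pure_push hF hg ha, F.diff_one hF hfix hy φ (F.push_mem hg ha) (F.perm g i) fun k hk => by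
        rw [hbk k hk, F.e_perm y (hfix.le hy), hfix.fix y hy k]]
      rw [Finset.prod_eq_zero (i := i) (Finset.mem_erase.2 ⟨hgi.symm, Finset.mem_univ _⟩) (by
        rw [hbk i hgi.symm, hφ, Function.update_self]; exact hαe), mul_zero]
  rw [mul_one, F.diff_one hF hfix hy φ ha i fun k hk => by
    rw [Function.update_of_ne hk, F.e_perm y (hfix.le hy), hfix.fix y hy k]] at hsum
  rw [Function.update_self, hφ, Function.update_self, hα, one_mul, Finset.prod_eq_one fun k hk => by
    rw [Function.update_of_ne (Finset.ne_of_mem_erase hk), Function.update_of_ne (Finset.ne_of_mem_erase hk)]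
    exact F.dual_e k] at hsum
  exact one_ne_zero hsum

/-- Two differences at the level fixing the parts. -/
theorem line_two (hF : D.Full) {d : ℕ} (hzero : ChainZero ρ D.T d) {j : ℕ} (hjd : j + 2 = d)
    (hfix : F.Fixes (derSub D.T j)) {i : ι} (hmove : ∀ l < j, ∃ s ∈ derSub D.T l, F.perm s i ≠ i) {y x : G}
    (hy : y ∈ derSub D.T (j + 1)) (hx : x ∈ derSub D.T j) {u : U} (hu : u ∈ F.W i) :
    ((ρ y - 1) * (ρ x - 1)) u ∈ K ∙ F.e i := by
  by_contra hne
  obtain ⟨α, hα, hα0⟩ := exists_functional_off (K := K) hne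
  have hαe : α (F.e i) = 0 := hα0 _ (Submodule.mem_span_singleton_self _)
  set φ := Function.update F.dual i α with hφ
  have ha := F.update_mem F.e_mem hu
  have hy' : y ∈ derSub D.T j := derSub_succ_le _ _ hy
  have hq : (ρ y - 1) * ((ρ x - 1) * 1) ∈ chainProd ρ (derSub D.T j) 2 :=
    mem_chainProd_succ (S := derSub D.T j) (i := 1) (by rw [derSub_add]; exact hy)
      (mem_chainProd_succ (S := derSub D.T j) (i := 0) hx rfl)
  have hsum := F.isolate_kill hzero i hjd hmove (F.pure (Function.update F.e i u)) (F.pureDual φ) hq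
    fun g hg hgi => by
      have hbk : ∀ k ≠ F.perm g i, F.push g (Function.update F.e i u) k = F.e k := fun k hk =>
        F.push_e hg (fun k hk => Function.update_of_ne hk _ _) hk
      rw [mul_one, F.rho_pure_push hF hg ha, F.diff_two_one hF hfix hy' hx φ (F.push_mem hg ha) (F.perm g i)
        fun k hk s hs => by rw [hbk k hk, F.e_perm s (hfix.le hs), hfix.fix s hs k]]
      rw [Finset.prod_eq_zero (i := i) (Finset.mem_erase.2 ⟨hgi.symm, Finset.mem_univ _⟩) (by
        rw [hbk i hgi.symm, hφ, Function.update_self]; exact hαe), mul_zero]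
  rw [mul_one, F.diff_two_one hF hfix hy' hx φ ha i fun k hk s hs => by
    rw [Function.update_of_ne hk, F.e_perm s (hfix.le hs), hfix.fix s hs k]] at hsum
  rw [Function.update_self, hφ, Function.update_self, hα, one_mul, Finset.prod_eq_one fun k hk => by
    rw [Function.update_of_ne (Finset.ne_of_mem_erase hk), Function.update_of_ne (Finset.ne_of_mem_erase hk)]
    exact F.dual_e k] at hsum
  exact one_ne_zero hsum

/-- The derived group at the length of the chain fixes every part. -/
theorem moves_bound (hF : D.Full) {d : ℕ} (hzero : ChainZero ρ D.T d) {i : ι} (hdim : 2 ≤ finrank K (F.W i))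
    (hmove : ∀ l < d, ∃ s ∈ derSub D.T l, F.perm s i ≠ i) : False := by
  obtain ⟨u, hu, hne⟩ := F.exists_off_line hdim
  obtain ⟨α, hα, hα0⟩ := exists_functional_off (K := K) hne
  set φ := Function.update F.dual i α with hφ
  have ha := F.update_mem F.e_mem hu
  have hsum := F.isolate_kill hzero i (add_zero d) hmove (F.pure (Function.update F.e i u)) (F.pureDual φ)
    (q := 1) rfl fun g hg hgi => by
      rw [Module.End.one_apply, F.rho_pure_push hF hg ha, F.pureDual_pure φ (F.push_mem hg ha)]
      refine Finset.prod_eq_zero (Finset.mem_univ i) ?_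
      rw [F.push_e hg (fun k hk => Function.update_of_ne hk _ _) hgi.symm, hφ, Function.update_self]
      exact hα0 _ (Submodule.mem_span_singleton_self _)
  rw [Module.End.one_apply, F.pureDual_pure φ ha, Finset.prod_eq_single i (fun k _ hk => by
    rw [Function.update_of_ne hk, hφ, Function.update_of_ne hk]; exact F.dual_e k)
    (fun h => absurd (Finset.mem_univ i) h)] at hsum
  rw [Function.update_self, hφ, Function.update_self, hα] at hsum
  exact one_ne_zero hsum

/-- The last level is not the first to fix the parts. -/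
theorem no_top (hF : D.Full) {r : ℕ} (hzero : ChainZero ρ D.T (r + 2))
    (hprim : ∀ i, (F.loc0 i).Irred ∧ (F.loc0 i).NoSplit) (htrans : ∀ i j, ∃ g ∈ D.T, F.perm g i = j) [Nontrivial ι]
    (hfix : F.Fixes (derSub D.T (r + 1))) {i : ι} (hmove : ∀ l < r + 1, ∃ s ∈ derSub D.T l, F.perm s i ≠ i)
    {y : G} (hy : y ∈ derSub D.T (r + 1)) (hne : F.bt i ⟨y, hfix.le_stab i hy⟩ ≠ 1) : False := by
  obtain ⟨j, hji⟩ := exists_ne i
  have hmovej := F.moves_all htrans hmove j
  obtain ⟨y₁, hy₁, hne₁⟩ := F.exists_nontrivial_at htrans hfix hy hne j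
  have hline : ∀ s ∈ derSub D.T (r + 1), ∀ {k : ι} {u : U}, u ∈ F.W k → (ρ s - 1) u ∈ K ∙ F.e k :=
    fun s hs {k u} hu => F.line_one hF hzero rfl hfix (F.moves_all htrans hmove k) hs hu
  have hefix : ∀ s ∈ derSub D.T (r + 1), ∀ k, ρ s (F.e k) = F.e k := fun s hs k => by
    rw [F.e_perm s (hfix.le hs), hfix.fix s hs k]
  -- a single non-trivial image
  let N : Subgroup (F.loc0 j).tau.range :=
    ((derSub D.T (r + 1)).subgroupOf (F.stab j)).map (F.loc0 j).tau.rangeRestrict
  have hNn : N.Normal := by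
    refine ⟨fun x hx γ => ?_⟩
    obtain ⟨x, hx, rfl⟩ := hx
    obtain ⟨g, rfl⟩ := (F.loc0 j).tau.rangeRestrict_surjective γ
    rw [← map_inv, ← map_mul, ← map_mul]
    exact mem_map_of_mem _ (mem_subgroupOf.2 (derSub_conj g.2.1 (mem_subgroupOf.1 hx)))
  have hN2 : ∀ x ∈ N, x * x = 1 := by
    intro x hx
    obtain ⟨s, hs, rfl⟩ := hx
    rw [← map_mul]
    refine Subtype.ext ?_
    show F.bt j (s * s : F.stab j) = 1
    refine (F.bt_one_iff _).2 fun w hw => ?_
    obtain ⟨c, hc⟩ := Submodule.mem_span_singleton.1 (hline s hs hw)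
    have h0 : ((ρ (s : G) - 1) * (ρ (s : G) - 1)) w = 0 := by
      rw [Module.End.mul_apply, ← hc, map_smul, LinearMap.sub_apply, Module.End.one_apply, hefix s hs, sub_self, smul_zero]
    rw [sub_one_sq, LinearMap.sub_apply, Module.End.one_apply, sub_eq_zero] at h0
    rw [Subgroup.coe_mul, map_mul]
    exact h0
  obtain ⟨e', he'W, he', he'fix⟩ : ∃ e' ∈ F.W j, e' ∉ K ∙ F.e j ∧ ∀ s ∈ derSub D.T (r + 1), ρ s e' = e' := by
    set X := F.res j ⟨y₁, hfix.le_stab j hy₁⟩ - 1 with hX
    have hrange : finrank K (LinearMap.range X) ≤ 1 := by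
      have hle : LinearMap.range X ≤ K ∙ (⟨F.e j, F.e_mem j⟩ : F.W j) := by
        rintro _ ⟨w, rfl⟩
        obtain ⟨c, hc⟩ := Submodule.mem_span_singleton.1 (hline y₁ hy₁ w.2)
        exact Submodule.mem_span_singleton.2 ⟨c, Subtype.ext hc⟩
      exact (Submodule.finrank_mono hle).trans
        (finrank_span_singleton (fun h => F.e_ne j (congrArg Subtype.val h))).le
    have hker := LinearMap.finrank_range_add_finrank_ker X
    have h3 := F.three_le_finrank _ hne₁
    obtain ⟨w, hw, hwne⟩ : ∃ w ∈ LinearMap.ker X, w ∉ K ∙ (⟨F.e j, F.e_mem j⟩ : F.W j) := by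
      by_contra hh
      push Not at hh
      have h1 := Submodule.finrank_mono (show LinearMap.ker X ≤ K ∙ (⟨F.e j, F.e_mem j⟩ : F.W j) from hh)
      rw [finrank_span_singleton (fun h => F.e_ne j (congrArg Subtype.val h))] at h1
      omega
    refine ⟨w, w.2, fun h => hwne ?_, fun s hs => ?_⟩
    · obtain ⟨c, hc⟩ := Submodule.mem_span_singleton.1 h
      exact Submodule.mem_span_singleton.2 ⟨c, Subtype.ext hc⟩
    · by_cases h1 : F.bt j ⟨s, hfix.le_stab j hs⟩ = 1
      · exact (F.bt_one_iff _).1 h1 _ w.2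
      · have heq := no_four (hprim j).1 (hprim j).2 hNn hN2
          (a := (F.loc0 j).tau.rangeRestrict ⟨s, hfix.le_stab j hs⟩)
          (b := (F.loc0 j).tau.rangeRestrict ⟨y₁, hfix.le_stab j hy₁⟩)
          (mem_map_of_mem _ hs) (mem_map_of_mem _ hy₁) (fun h => h1 (congrArg Subtype.val h))
          (fun h => hne₁ (congrArg Subtype.val h))
        have h2 := F.rho_stab_eq (g := ⟨s, hfix.le_stab j hs⟩) (h := ⟨y₁, hfix.le_stab j hy₁⟩)
          (congrArg Subtype.val heq) w.2
        show ρ s (w : U) = w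
        rw [h2]
        have := congrArg Subtype.val (show X w = 0 from hw)
        rwa [hX, LinearMap.sub_apply, Module.End.one_apply, Submodule.coe_sub, Submodule.coe_zero, sub_eq_zero] at this
  obtain ⟨β, hβ, hβ0⟩ := exists_functional_off (K := K) he'
  have hβe : β (F.e j) = 0 := hβ0 _ (Submodule.mem_span_singleton_self _)
  obtain ⟨u, huW, hyu⟩ : ∃ u ∈ F.W i, (ρ y - 1) u ≠ 0 := by
    by_contra hh
    push Not at hh
    refine hne ((F.bt_one_iff _).2 fun w hw => ?_)
    have := hh w hw
    rwa [LinearMap.sub_apply, Module.End.one_apply, sub_eq_zero] at this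
  obtain ⟨lam, hlam⟩ := exists_functional_one (K := K) hyu
  set φ := Function.update (Function.update F.dual i lam) j β with hφ
  set a := Function.update (Function.update F.e i u) j e' with haa
  have ha : ∀ k, a k ∈ F.W k := F.update_mem (F.update_mem F.e_mem huW) he'W
  have hai : a i = u := by rw [haa, Function.update_of_ne hji.symm, Function.update_self]
  have haj : a j = e' := by rw [haa, Function.update_self]
  have hae : ∀ k, k ≠ i → k ≠ j → a k = F.e k := fun k h1 h2 => by
    rw [haa, Function.update_of_ne h2, Function.update_of_ne h1]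
  have hae' : ∀ k ≠ i, ∀ s ∈ derSub D.T (r + 1), ρ s (a k) = a k := fun k hk s hs => by
    by_cases hkj : k = j
    · subst hkj; rw [haj]; exact he'fix s hs
    · rw [hae k hk hkj]; exact hefix s hs k
  have hq : (ρ y - 1) * 1 ∈ chainProd ρ (derSub D.T (r + 1)) 1 :=
    mem_chainProd_succ (S := derSub D.T (r + 1)) (i := 0) hy rfl
  have hsum := F.isolate_kill hzero j (j := r + 1) (n := 1) rfl hmovej (F.pure a) (F.pureDual φ) hq fun g hg hgj => by
    rw [mul_one, F.rho_pure_push hF hg ha, F.diff_one hF hfix hy φ (F.push_mem hg ha) (F.perm g i) fun k hk => by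
      have hk' : (F.perm g)⁻¹ k ≠ i := fun e => hk (by rw [← e, F.apply_perm_inv hg])
      have h1 := hae' _ hk' (g⁻¹ * y * g) (by simpa using derSub_conj (inv_mem hg) hy)
      rw [map_mul, map_mul, Module.End.mul_apply, Module.End.mul_apply] at h1
      have h2 := congrArg (ρ g) h1
      rw [← Module.End.mul_apply (ρ g) (ρ g⁻¹), rho_mul_inv, Module.End.one_apply] at h2
      rw [push, h2]]
    by_cases hgij : F.perm g i = j
    · rw [hgij, hφ, Function.update_self]
      obtain ⟨c, hc⟩ := Submodule.mem_span_singleton.1 (hline y hy (F.push_mem hg ha j))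
      rw [← hc, map_smul, hβe, smul_zero, zero_mul]
    · rw [Finset.prod_eq_zero (i := j) (Finset.mem_erase.2 ⟨fun e => hgij e.symm, Finset.mem_univ _⟩) ?_, mul_zero]
      rw [F.push_of_e hg a (hae _ (fun e => hgij (by rw [← e, F.apply_perm_inv hg]))
        (fun e => hgj (by conv_rhs => rw [← F.apply_perm_inv hg j, e]))), hφ, Function.update_self]
      exact hβe
  rw [mul_one, F.diff_one hF hfix hy φ ha i fun k hk => by rw [hae' k hk y hy]] at hsum
  rw [hai, hφ, Function.update_of_ne hji.symm, Function.update_self, hlam, one_mul,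
    Finset.prod_eq_single j (fun k hk hkj => by
      rw [hae k (Finset.ne_of_mem_erase hk) hkj, Function.update_of_ne hkj,
        Function.update_of_ne (Finset.ne_of_mem_erase hk)]
      exact F.dual_e k) (fun h => absurd (Finset.mem_erase.2 ⟨hji, Finset.mem_univ _⟩) h),
    Function.update_self, haj, hβ] at hsum
  exact one_ne_zero hsum

end Frame

end SymData

end Cfsg.Lib.TwoLength
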